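import Cfsg.Agent.FiPres.Order

/-!
Suborbits and simplicity of the presented Fischer group on nine letters.
-/

set_option autoImplicit false

namespace Cfsg.Lib.FiPres

open Cfsg.Lib.CosetCert Cfsg.Lib.PermCert

instance actFi : MulAction Cfsg.Spor.Fi22 (Fin 3510) := MulAction.compHom (Fin 3510) psi

theorem smul_eq (g : Cfsg.Spor.Fi22) (x : Fin 3510) : g • x = psi g x := rfl

/-- The base point. -/
def p0 : Fin 3510 := ⟨0, by norm_num⟩

theorem tree_zero : (chainG0.ok sigTabs 3510 && chainG0.gens.all (fun w => w.all fun l => decide (l < sigTabs.length)) &&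
    (List.range 3510).all fun j => (treeMask chainG0.orb (1 <<< chainG0.b)).testBit j) = true := by decide +kernel

theorem transitive : MulAction.IsPretransitive Cfsg.Spor.Fi22 (Fin 3510) := tabled.transitive smul_eq tree_zero

theorem fix_zero : lamH.all (fun l => decide (l < 10) && (evalW sigTabs [l] 0 == 0)) = true := by decide +kernel

theorem stab_le : lgp im10 lamH ≤ MulAction.stabilizer Cfsg.Spor.Fi22 p0 := by
  refine (Subgroup.closure_le _).2 ?_
  rintro _ ⟨l, hl, rfl⟩
  have := List.all_eq_true.1 fix_zero l hl
  rw [Bool.and_eq_true, decide_eq_true_eq, beq_iff_eq] at this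
  rw [SetLike.mem_coe, MulAction.mem_stabilizer_iff]
  exact Fin.ext ((tabled.im_smul smul_eq this.1 p0).trans this.2)

theorem index_eq : (lgp im10 lamH).index = 3510 ∧ MulAction.stabilizer Cfsg.Spor.Fi22 p0 = lgp im10 lamH := by
  haveI := transitive
  have h1 : (MulAction.stabilizer Cfsg.Spor.Fi22 p0).index = 3510 := by
    rw [MulAction.index_stabilizer, MulAction.orbit_eq_univ, Set.ncard_univ, Nat.card_fin]
  have h2 := index_le
  have h3 := Subgroup.relIndex_mul_index stab_le
  rw [h1] at h3
  have hpos : (lgp im10 lamH).index ≠ 0 := Subgroup.index_ne_zero_of_finite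
  have hr : (lgp im10 lamH).relIndex (MulAction.stabilizer Cfsg.Spor.Fi22 p0) = 1 := by
    rcases Nat.lt_or_ge ((lgp im10 lamH).relIndex (MulAction.stabilizer Cfsg.Spor.Fi22 p0)) 2 with h | h
    · interval_cases hk : (lgp im10 lamH).relIndex (MulAction.stabilizer Cfsg.Spor.Fi22 p0)
      · simp at h3; omega
      · rfl
    · exact absurd ((Nat.mul_le_mul_right 3510 h).trans (h3.le.trans h2)) (by norm_num)
  exact ⟨by rw [← h3, hr, one_mul], le_antisymm (Subgroup.relIndex_eq_one.1 hr) stab_le⟩

theorem trees_ok : treeOK 3510 sigTabs lamH subBase1 subTree1 693 = true ∧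
    treeOK 3510 sigTabs lamH subBase2 subTree2 2816 = true := by decide +kernel

theorem suborbits : ∃ q₁ q₂ : Cfsg.Spor.Fi22 ⧸ lgp im10 lamH,
    (MulAction.orbit (lgp im10 lamH) q₁).ncard = 693 ∧ (MulAction.orbit (lgp im10 lamH) q₂).ncard = 2816 := by
  haveI := transitive
  obtain ⟨e, he⟩ := exists_coset_equiv index_eq.2
  obtain ⟨h1, c1, p1, -, m1⟩ := tabled.tree_orbit smul_eq trees_ok.1
  obtain ⟨h2, c2, p2, -, m2⟩ := tabled.tree_orbit smul_eq trees_ok.2
  exact ⟨e.symm p1, e.symm p2, by rw [(ncard_orbit_equiv e he p1).2, h1 p1 m1, c1],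
    by rw [(ncard_orbit_equiv e he p2).2, h2 p2 m2, c2]⟩

theorem word13_ok : trivWord 3510 sigTabs (rpt 13 word13) = true ∧
    trivWord 3510 sigTabs (rpt 13 (word13.reverse ++ [0, 1])) = true ∧
    (evalW sigTabs word13 0 != 0) = true ∧ (word13.all fun l => decide (l < 9)) = true := by decide +kernel

theorem no_moves {N : Subgroup Cfsg.Spor.Fi22} [N.Normal] (h : 13 ∣ Nat.card N) {x : Cfsg.Spor.Fi22}
    (hx : x ^ 13 = 1) : x ∈ N := by
  have hcard := Subgroup.card_mul_index N
  rw [factG.1] at hcard
  have hco : Nat.Coprime 13 N.index := by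
    refine (Nat.Prime.coprime_iff_not_dvd (by norm_num)).2 fun hd => ?_
    have : 13 * 13 ∣ 64561751654400 := hcard ▸ mul_dvd_mul h hd
    norm_num at this
  rw [← QuotientGroup.eq_one_iff]
  refine orderOf_eq_one_iff.1 (Nat.eq_one_of_dvd_coprimes hco ?_ ?_)
  · exact orderOf_dvd_of_pow_eq_one (by rw [← QuotientGroup.mk_pow, hx, QuotientGroup.mk_one])
  · exact orderOf_dvd_natCard _

theorem pow_trivWord {w : List ℕ} (h : trivWord 3510 sigTabs (rpt 13 w) = true) : wval im10 w ^ 13 = 1 := by
  rw [← wval_rpt]
  exact factG.2 (by rw [tabled.trivWord_sound h, map_one])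

theorem simple_fi : IsSimpleGroup Cfsg.Spor.Fi22 := by
  haveI := transitive
  haveI : Nontrivial Cfsg.Spor.Fi22 := Finite.one_lt_card_iff_nontrivial.1 (by rw [factG.1]; norm_num)
  refine ⟨fun N hN => ?_⟩
  haveI := hN
  by_cases hle : N ≤ MulAction.stabilizer Cfsg.Spor.Fi22 p0
  · left
    refine le_bot_iff.1 fun x hx => factG.2 ?_
    rw [map_one]
    refine Equiv.ext fun y => ?_
    obtain ⟨g, rfl⟩ := MulAction.exists_smul_eq Cfsg.Spor.Fi22 p0 y
    have h : g⁻¹ * x * g ∈ MulAction.stabilizer Cfsg.Spor.Fi22 p0 := hle (by simpa using hN.conj_mem x hx g⁻¹)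
    rw [MulAction.mem_stabilizer_iff, mul_smul, mul_smul, inv_smul_eq_iff] at h
    exact h
  · right
    -- a moved base point makes thirteen divide the order
    have hdvd : 13 ∣ Nat.card N := by
      by_contra hnd
      have hcard := Subgroup.card_mul_index N
      rw [factG.1] at hcard
      have h13 : 13 ∣ N.index := by
        rcases (Nat.Prime.dvd_mul (by norm_num)).1 (show 13 ∣ Nat.card N * N.index by rw [hcard]; norm_num) with h | h
        · exact absurd h hnd
        · exact h
      have hM : (N ⊔ MulAction.stabilizer Cfsg.Spor.Fi22 p0) = ⊤ := by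
        have hM' : MulAction.stabilizer Cfsg.Spor.Fi22 p0 ≤ N ⊔ MulAction.stabilizer Cfsg.Spor.Fi22 p0 := le_sup_right
        rcases between hM' with e | e
        · exact absurd (e ▸ le_sup_left) hle
        · exact e
      have hri : N.relIndex (MulAction.stabilizer Cfsg.Spor.Fi22 p0) = N.index := by
        rw [← Subgroup.relIndex_sup_left, hM, Subgroup.relIndex_top_right]
      have h1 : 13 ∣ Nat.card (MulAction.stabilizer Cfsg.Spor.Fi22 p0) :=
        h13.trans (hri ▸ Subgroup.index_dvd_card (N.subgroupOf (MulAction.stabilizer Cfsg.Spor.Fi22 p0)))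
      have h2 := Subgroup.card_mul_index (MulAction.stabilizer Cfsg.Spor.Fi22 p0)
      rw [index_eq.2, index_eq.1, factG.1] at h2
      rw [index_eq.2, Nat.eq_of_mul_eq_mul_right (m := 3510) (n := Nat.card (lgp im10 lamH)) (k := 18393661440) (by norm_num)
        (h2.trans (by norm_num))] at h1
      norm_num at h1
    have h9 : ∀ l ∈ word13, l < 9 := fun l hl => decide_eq_true_eq.mp (List.all_eq_true.1 word13_ok.2.2.2 l hl)
    have hab : im 0 * im 1 ∈ N := by
      have m1 := no_moves hdvd (pow_trivWord word13_ok.1)
      have m2 := no_moves hdvd (pow_trivWord word13_ok.2.1)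
      rw [wval_low h9] at m1
      rw [wval_low (fun l hl => by
        rcases List.mem_append.1 hl with hl | hl
        · exact h9 l (List.mem_reverse.1 hl)
        · simp only [List.mem_cons, List.mem_nil_iff, or_false] at hl; omega),
        wval_append, wval_reverse im fun l hl => good_im.inv (h9 l hl)] at m2
      have := mul_mem m1 m2
      rw [← mul_assoc, mul_inv_cancel, one_mul] at this
      simpa [wval] using this
    let χ : Cfsg.Spor.Fi22 →* Cfsg.Spor.Fi22 ⧸ N := QuotientGroup.mk' N
    have h01 : χ (im 0) = χ (im 1) := by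
      have : χ (im 0 * im 1) = 1 := (QuotientGroup.eq_one_iff _).2 hab
      rw [map_mul, mul_eq_one_iff_eq_inv] at this
      rw [this, ← map_inv, inv_eq_of_mul_eq_one_left (good_im.inv (by norm_num))]
    -- adjacent letters have the same image
    have hadj : ∀ x y, x < 9 → y < 9 → Cfsg.Spor.coxLabel Cfsg.Spor.Fi22.edges (genOf x) (genOf y) = 3 →
        χ (im x) = χ (im y) → ∀ z, z < 9 → Cfsg.Spor.coxLabel Cfsg.Spor.Fi22.edges (genOf y) (genOf z) = 3 →
        Cfsg.Spor.coxLabel Cfsg.Spor.Fi22.edges (genOf x) (genOf z) = 2 → χ (im y) = χ (im z) := by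
      intro x y hx hy _ e z hz h3 h2
      have e2 := congrArg χ (good_im.pair hx hz)
      have e3 := congrArg χ (good_im.pair hy hz)
      rw [h2, map_pow, map_mul, map_one, e] at e2
      rw [h3, map_pow, map_mul, map_one, pow_succ, e2, one_mul, mul_eq_one_iff_eq_inv] at e3
      rw [e3, ← map_inv, inv_eq_of_mul_eq_one_left (good_im.inv hz)]
    have c12 := hadj 0 1 (by norm_num) (by norm_num) (by decide +kernel) h01 2 (by norm_num) (by decide +kernel)
      (by decide +kernel)
    have c23 := hadj 1 2 (by norm_num) (by norm_num) (by decide +kernel) c12 3 (by norm_num) (by decide +kernel)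
      (by decide +kernel)
    have c34 := hadj 2 3 (by norm_num) (by norm_num) (by decide +kernel) c23 4 (by norm_num) (by decide +kernel)
      (by decide +kernel)
    have c45 := hadj 3 4 (by norm_num) (by norm_num) (by decide +kernel) c34 5 (by norm_num) (by decide +kernel)
      (by decide +kernel)
    have c56 := hadj 4 5 (by norm_num) (by norm_num) (by decide +kernel) c45 6 (by norm_num) (by decide +kernel)
      (by decide +kernel)
    have c37 := hadj 2 3 (by norm_num) (by norm_num) (by decide +kernel) c23 7 (by norm_num) (by decide +kernel)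
      (by decide +kernel)
    have c78 := hadj 3 7 (by norm_num) (by norm_num) (by decide +kernel) c37 8 (by norm_num) (by decide +kernel)
      (by decide +kernel)
    have hall : ∀ k, k < 9 → χ (im k) = χ (im 0) := by
      intro k hk
      interval_cases k
      · rfl
      · exact h01.symm
      · exact (h01.trans c12).symm
      · exact (h01.trans (c12.trans c23)).symm
      · exact (h01.trans (c12.trans (c23.trans c34))).symm
      · exact (h01.trans (c12.trans (c23.trans (c34.trans c45)))).symm
      · exact (h01.trans (c12.trans (c23.trans (c34.trans (c45.trans c56))))).symm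
      · exact (h01.trans (c12.trans (c23.trans c37))).symm
      · exact (h01.trans (c12.trans (c23.trans (c37.trans c78)))).symm
    -- the odd relator kills the common image
    have h0 : χ (im 0) = 1 := by
      have e := congrArg χ (good_im (rpt 9 [0, 1, 2, 3, 4, 5, 7])
        (List.mem_append_right _ (by simp [extraWords])))
      have hs : χ (im 0) * χ (im 0) = 1 := by rw [← map_mul, good_im.inv (by norm_num), map_one]
      simp only [wval_rpt, wval_cons, wval_nil, mul_one, map_pow, map_mul, map_one, hall 1 (by norm_num),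
        hall 2 (by norm_num), hall 3 (by norm_num), hall 4 (by norm_num), hall 5 (by norm_num),
        hall 7 (by norm_num), hs] at e
      have h9' : χ (im 0) ^ 9 = χ (im 0) := by
        rw [show (9 : ℕ) = 2 * 4 + 1 from rfl, pow_succ, pow_mul, sq, hs, one_pow, one_mul]
      rwa [h9'] at e
    refine top_le_iff.1 (closure_im ▸ (Subgroup.closure_le _).2 ?_)
    rintro _ ⟨k, hk, rfl⟩
    exact (QuotientGroup.eq_one_iff _).1 ((hall k hk).trans h0)
where
  between {M : Subgroup Cfsg.Spor.Fi22} (hM : MulAction.stabilizer Cfsg.Spor.Fi22 p0 ≤ M) :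
      M = MulAction.stabilizer Cfsg.Spor.Fi22 p0 ∨ M = ⊤ := by
    haveI := transitive
    obtain ⟨h1, c1, p1, -, m1⟩ := tabled.tree_orbit smul_eq trees_ok.1
    obtain ⟨h2, c2, p2, -, m2⟩ := tabled.tree_orbit smul_eq trees_ok.2
    have hHM : lgp im10 lamH ≤ M := index_eq.2 ▸ hM
    set m1' := treeMask subTree1 (1 <<< subBase1)
    set m2' := treeMask subTree2 (1 <<< subBase2)
    have hcov : ∀ z : Fin 3510, z = p0 ∨ z ∈ maskPts 3510 m1' ∨ z ∈ maskPts 3510 m2' := by
      have hb : ((List.range 3510).all fun j => decide (j = 0) ||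
          (treeMask subTree1 (1 <<< subBase1)).testBit j || (treeMask subTree2 (1 <<< subBase2)).testBit j) = true := by
        decide +kernel
      intro z
      have := List.all_eq_true.1 hb z.val (List.mem_range.2 z.isLt)
      simp only [Bool.or_eq_true, decide_eq_true_eq, or_assoc] at this
      exact this.imp_left fun e => Fin.ext e
    set O : Set (Fin 3510) := MulAction.orbit M p0 with hO
    have hidx : M.index * O.ncard = 3510 := by
      have h := Subgroup.relIndex_mul_index hM
      rw [index_eq.2, index_eq.1] at h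
      have e : MulAction.stabilizer M p0 = (lgp im10 lamH).subgroupOf M := by
        ext x
        rw [Subgroup.mem_subgroupOf, MulAction.mem_stabilizer_iff, ← index_eq.2, MulAction.mem_stabilizer_iff,
          Subgroup.smul_def]
      rw [Subgroup.relIndex, ← e, MulAction.index_stabilizer] at h
      rw [mul_comm]
      exact h
    have hext : ∀ {m}, (∀ x ∈ maskPts 3510 m, MulAction.orbit (lgp im10 lamH) x = maskPts 3510 m) →
        ∀ {x}, x ∈ maskPts 3510 m → x ∈ O → maskPts 3510 m ⊆ O := by
      intro m hm x hx hxO y hy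
      rw [← hm x hx] at hy
      obtain ⟨g, rfl⟩ := hy
      exact MulAction.mem_orbit_of_mem_orbit (⟨g, hHM g.2⟩ : M) hxO
    by_cases a : ∃ x ∈ maskPts 3510 m1', x ∈ O
    · obtain ⟨x, hx, hxO⟩ := a
      have := Set.ncard_le_ncard (hext h1 hx hxO)
      rw [c1] at this
      by_cases b : ∃ x ∈ maskPts 3510 m2', x ∈ O
      · obtain ⟨y, hy, hyO⟩ := b
        have := Set.ncard_le_ncard (hext h2 hy hyO)
        rw [c2] at this
        right
        refine Subgroup.index_eq_one.1 ?_
        rcases Nat.lt_or_ge M.index 2 with h | h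
        · interval_cases hk : M.index
          · simp at hidx
          · rfl
        · have := Nat.mul_le_mul h this
          omega
      · exfalso
        have hsub : O ⊆ insert p0 (maskPts 3510 m1') := fun z hz => by
          rcases hcov z with e | e | e
          · exact Or.inl e
          · exact Or.inr e
          · exact absurd ⟨z, e, hz⟩ b
        have hsup : insert p0 (maskPts 3510 m1') ⊆ O :=
          Set.insert_subset (MulAction.mem_orbit_self _) (hext h1 hx hxO)
        have hp : p0 ∉ maskPts 3510 m1' := by
          have : (treeMask subTree1 (1 <<< subBase1)).testBit 0 = false := by decide +kernel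
          intro h
          rw [mem_maskPts] at h
          exact Bool.false_ne_true (this.symm.trans h)
        rw [Set.Subset.antisymm hsub hsup, Set.ncard_insert_of_notMem hp, c1] at hidx
        omega
    · by_cases b : ∃ x ∈ maskPts 3510 m2', x ∈ O
      · obtain ⟨y, hy, hyO⟩ := b
        exfalso
        have hsub : O ⊆ insert p0 (maskPts 3510 m2') := fun z hz => by
          rcases hcov z with e | e | e
          · exact Or.inl e
          · exact absurd ⟨z, e, hz⟩ a
          · exact Or.inr e
        have hsup : insert p0 (maskPts 3510 m2') ⊆ O :=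
          Set.insert_subset (MulAction.mem_orbit_self _) (hext h2 hy hyO)
        have hp : p0 ∉ maskPts 3510 m2' := by
          have : (treeMask subTree2 (1 <<< subBase2)).testBit 0 = false := by decide +kernel
          intro h
          rw [mem_maskPts] at h
          exact Bool.false_ne_true (this.symm.trans h)
        rw [Set.Subset.antisymm hsub hsup, Set.ncard_insert_of_notMem hp, c2] at hidx
        omega
      · left
        refine le_antisymm (fun m hm => ?_) hM
        rw [MulAction.mem_stabilizer_iff]
        have hmO : m • p0 ∈ O := ⟨⟨m, hm⟩, rfl⟩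
        rcases hcov (m • p0) with e | e | e
        · exact e
        · exact absurd ⟨_, e, hmO⟩ a
        · exact absurd ⟨_, e, hmO⟩ b

end Cfsg.Lib.FiPres
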