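import Cfsg.Agent.FiPres.Uni

/-!
The conjugates of the first letter form a class of three-transpositions.
-/

set_option autoImplicit false
set_option Elab.async false

namespace Cfsg.Lib.FiPres

open Cfsg.Lib.CosetCert Cfsg.Lib.PermCert

/-- The words reaching the two suborbit bases. -/
def baseWord (i : Bool) : List ℕ := if i then [1] else [1, 0, 2, 1, 3, 4, 7]

/-- The product of the first letter with a conjugate. -/
def pairProd (i : Bool) : List ℕ := 0 :: ((baseWord i).reverse ++ 0 :: baseWord i)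

theorem base_ok : (evalW sigTabs (baseWord false) 0 == subBase1) = true ∧ (evalW sigTabs (baseWord true) 0 == subBase2) = true ∧
    (trivWord 3510 sigTabs (rpt 2 (pairProd false)) || trivWord 3510 sigTabs (rpt 3 (pairProd false))) = true ∧
    (trivWord 3510 sigTabs (rpt 2 (pairProd true)) || trivWord 3510 sigTabs (rpt 3 (pairProd true))) = true := by
  decide +kernel

theorem cover_ok : ((List.range 3510).all fun j => decide (j = 0) ||
    (treeMask subTree1 (1 <<< subBase1)).testBit j || (treeMask subTree2 (1 <<< subBase2)).testBit j) = true ∧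
    subBase1 < 3510 ∧ subBase2 < 3510 := by decide +kernel

theorem zero_lam : 0 ∈ lamH := by decide

theorem a_comm {h : Cfsg.Spor.Fi22} (hh : h ∈ lgp im10 lamH) : h * im10 0 = im10 0 * h := by
  have := congrArg Subtype.val (Subgroup.mem_center_iff.1 center_ker.2 ⟨h, hh⟩)
  simpa [imH10, dif_pos zero_lam] using this

theorem im10_zero_sq : im10 0 * im10 0 = 1 := tabled.sq 0 (by decide)

theorem im10_zero_ne : im10 0 ≠ 1 := fun h => a_ne_one (Subtype.ext (by
  rw [imH10, dif_pos zero_lam]
  exact h))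

theorem centralizer_a : Subgroup.centralizer {im10 0} = lgp im10 lamH := by
  have hle : lgp im10 lamH ≤ Subgroup.centralizer {im10 0} := fun h hh =>
    Subgroup.mem_centralizer_singleton_iff.2 (a_comm hh)
  rcases simple_fi.between (index_eq.2.symm ▸ hle) with e | e
  · rw [e, index_eq.2]
  · exfalso
    haveI := simple_fi
    have hz : im10 0 ∈ Subgroup.center Cfsg.Spor.Fi22 := Subgroup.mem_center_iff.2 fun g =>
      Subgroup.mem_centralizer_singleton_iff.1 (e ▸ Subgroup.mem_top g)
    haveI hn : (lgp im10 lamH).Normal := ⟨fun n hn g => by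
      have hg : g ∈ Subgroup.center Cfsg.Spor.Fi22 := by
        rcases Subgroup.Normal.eq_bot_or_eq_top (inferInstance : (Subgroup.center Cfsg.Spor.Fi22).Normal) with c | c
        · rw [c] at hz
          exact absurd (Subgroup.mem_bot.1 hz) im10_zero_ne
        · exact c ▸ Subgroup.mem_top g
      have c := Subgroup.mem_center_iff.1 hg n
      rwa [← c, mul_assoc, mul_inv_cancel, mul_one]⟩
    have hi := index_eq.1
    rcases Subgroup.Normal.eq_bot_or_eq_top hn with c | c
    · have := card_lamH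
      rw [show Nat.card HFi = Nat.card (lgp im10 lamH) from rfl, c, Subgroup.card_bot] at this
      norm_num at this
    · rw [c, Subgroup.index_top] at hi
      norm_num at hi

theorem three_transp (g : Cfsg.Spor.Fi22) :
    (im10 0 * (g * im10 0 * g⁻¹)) ^ 2 = 1 ∨ (im10 0 * (g * im10 0 * g⁻¹)) ^ 3 = 1 := by
  haveI := transitive
  set H := lgp im10 lamH with hH
  have hst : ∀ x : Cfsg.Spor.Fi22, x • p0 = p0 → x ∈ H := fun x hx => by
    rw [hH, ← index_eq.2]
    exact hx
  have key : ∀ (i : Bool) (h : Cfsg.Spor.Fi22), h ∈ H → h • (g • p0) = (wval im10 (baseWord i))⁻¹ • p0 →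
      (trivWord 3510 sigTabs (rpt 2 (pairProd i)) || trivWord 3510 sigTabs (rpt 3 (pairProd i))) = true →
      (im10 0 * (g * im10 0 * g⁻¹)) ^ 2 = 1 ∨ (im10 0 * (g * im10 0 * g⁻¹)) ^ 3 = 1 := by
    intro i h hh e ht
    have hk : wval im10 (baseWord i) * h * g ∈ H := hst _ (by rw [mul_smul, mul_smul, e, smul_inv_smul])
    set v := wval im10 (baseWord i) with hv
    set k := v * h * g with hkdef
    have hc := a_comm hk
    have hca := a_comm hh
    have hrev : wval im10 (baseWord i).reverse = v⁻¹ :=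
      wval_reverse im10 fun l hl => tabled.sq l (by
        have : ∀ i : Bool, ∀ l ∈ baseWord i, l < sigTabs.length := by decide
        exact this i l hl)
    have hp : wval im10 (pairProd i) = h * (im10 0 * (g * im10 0 * g⁻¹)) * h⁻¹ := by
      rw [pairProd, wval_cons, wval_append, wval_cons, hrev, ← hv]
      calc im10 0 * (v⁻¹ * (im10 0 * v)) = im10 0 * (v⁻¹ * ((k * im10 0) * k⁻¹) * v) := by
            rw [hc, mul_inv_cancel_right]; group
        _ = im10 0 * (h * (g * im10 0 * g⁻¹) * h⁻¹) := by rw [hkdef]; group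
        _ = h * (im10 0 * (g * im10 0 * g⁻¹)) * h⁻¹ := by
            rw [← mul_assoc h (im10 0), hca]; group
    rw [Bool.or_eq_true] at ht
    have fin : ∀ n : ℕ, trivWord 3510 sigTabs (rpt n (pairProd i)) = true →
        (im10 0 * (g * im10 0 * g⁻¹)) ^ n = 1 := fun n hn => by
      have h1 : wval im10 (rpt n (pairProd i)) = 1 := factG.2 ((tabled.trivWord_sound hn).trans (map_one psi).symm)
      rw [wval_rpt, hp, conj_pow, mul_inv_eq_one, mul_eq_left] at h1
      exact h1
    exact ht.imp (fin 2) (fin 3)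
  have hb := base_ok
  simp only [beq_iff_eq] at hb
  have hpt : ∀ (i : Bool) (b : ℕ) (hb' : b < 3510), evalW sigTabs (baseWord i) 0 = b →
      (wval im10 (baseWord i))⁻¹ • p0 = ⟨b, hb'⟩ := fun i b hb' e => by
    refine Fin.ext ?_
    rw [smul_eq, map_inv]
    exact (evalW_apply im10 psi sigTabs tabled.act (baseWord i) (by cases i <;> decide) p0).trans e
  obtain ⟨o1, -, q1, hq1, m1⟩ := tabled.tree_orbit smul_eq trees_ok.1
  obtain ⟨o2, -, q2, hq2, m2⟩ := tabled.tree_orbit smul_eq trees_ok.2
  have hc := List.all_eq_true.1 cover_ok.1 (g • p0).val (List.mem_range.2 (g • p0).isLt)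
  simp only [Bool.or_eq_true, decide_eq_true_eq] at hc
  rcases hc with (h0 | h1) | h2
  · left
    have hg : g ∈ H := hst g (Fin.ext h0)
    rw [a_comm hg, mul_inv_cancel_right, im10_zero_sq, one_pow]
  · have : (⟨subBase1, cover_ok.2.1⟩ : Fin 3510) ∈ MulAction.orbit (lgp im10 lamH) (g • p0) := by
      rw [o1 _ h1, mem_maskPts]
      exact treeMask_self _ _ _ (by decide +kernel)
    obtain ⟨⟨h, hh⟩, e⟩ := this
    exact key false h hh (e.trans (hpt false _ cover_ok.2.1 hb.1).symm) hb.2.2.1
  · have : (⟨subBase2, cover_ok.2.2⟩ : Fin 3510) ∈ MulAction.orbit (lgp im10 lamH) (g • p0) := by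
      rw [o2 _ h2, mem_maskPts]
      exact treeMask_self _ _ _ (by decide +kernel)
    obtain ⟨⟨h, hh⟩, e⟩ := this
    exact key true h hh (e.trans (hpt true _ cover_ok.2.2 hb.2.1).symm) hb.2.2.2

/-- Transport of a non-split double cover along an isomorphism. -/
theorem nonsplit_congr {H H' K : Type*} [Group H] [Group H'] [Group K] (e : H ≃* H')
    (h : Cfsg.IsNonsplitDoubleCover H K) : Cfsg.IsNonsplitDoubleCover H' K := by
  obtain ⟨h1, ⟨f⟩, h3⟩ := h
  have hmap : (Subgroup.center H).map e.toMonoidHom = Subgroup.center H' := by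
    ext x
    constructor
    · rintro ⟨y, hy, rfl⟩
      refine Subgroup.mem_center_iff.2 fun z => ?_
      obtain ⟨w, rfl⟩ := e.surjective z
      show e w * e y = e y * e w
      rw [← map_mul, ← map_mul, Subgroup.mem_center_iff.1 hy w]
    · intro hx
      refine ⟨e.symm x, Subgroup.mem_center_iff.2 fun w => e.injective ?_, e.apply_symm_apply x⟩
      rw [map_mul, map_mul, e.apply_symm_apply, Subgroup.mem_center_iff.1 hx (e w)]
  refine ⟨?_, ⟨(QuotientGroup.congr (Subgroup.center H) (Subgroup.center H') e hmap).symm.trans f⟩, fun L hL => ?_⟩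
  · rw [← hmap, Subgroup.card_map_of_injective e.injective]
    exact h1
  · have hbij : Function.Bijective (fun p : Subgroup.center H × L.comap e.toMonoidHom => (p.1 : H) * p.2) := by
      constructor
      · rintro ⟨⟨a, ha⟩, ⟨b, hb⟩⟩ ⟨⟨c, hc⟩, ⟨d, hd⟩⟩ he
        have := congrArg e (show a * b = c * d from he)
        rw [map_mul, map_mul] at this
        have hac := @hL.1 (⟨e a, hmap ▸ ⟨a, ha, rfl⟩⟩, ⟨e b, hb⟩) (⟨e c, hmap ▸ ⟨c, hc, rfl⟩⟩, ⟨e d, hd⟩) this
        have k1 : a = c := e.injective (congrArg Subtype.val (congrArg Prod.fst hac))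
        have k2 : b = d := e.injective (congrArg Subtype.val (congrArg Prod.snd hac))
        subst k1 k2
        rfl
      · intro x
        obtain ⟨⟨⟨a, ha⟩, ⟨b, hb⟩⟩, hab⟩ := hL.2 (e x)
        rw [← hmap] at ha
        obtain ⟨a', ha', rfl⟩ := ha
        refine ⟨(⟨a', ha'⟩, ⟨e.symm b, by rw [Subgroup.mem_comap]; simpa using hb⟩), e.injective ?_⟩
        show e (a' * e.symm b) = e x
        rw [map_mul, e.apply_symm_apply]
        exact hab
    exact h3 _ hbij

/-- The class of the first letter. -/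
def transp : Set Cfsg.Spor.Fi22 := conjugatesOf (im10 0)

theorem conj_order (g : Cfsg.Spor.Fi22) : orderOf (g * im10 0 * g⁻¹) = 2 :=
  orderOf_eq_prime (by rw [sq, show g * im10 0 * g⁻¹ * (g * im10 0 * g⁻¹) = g * (im10 0 * im10 0) * g⁻¹ by group,
    im10_zero_sq, mul_one, mul_inv_cancel]) (fun h => im10_zero_ne (by
      rwa [mul_inv_eq_one, mul_eq_left] at h))

theorem mem_transp {x : Cfsg.Spor.Fi22} : x ∈ transp ↔ ∃ g, g * im10 0 * g⁻¹ = x := isConj_iff

theorem transp_class : Cfsg.IsThreeTranspositionClass transp := by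
  refine ⟨⟨fun d hd => ?_, fun d hd e he => ?_⟩, ⟨im10 0, IsConj.refl _, rfl⟩, ?_⟩
  · obtain ⟨g, rfl⟩ := mem_transp.1 hd
    exact conj_order g
  · obtain ⟨g, rfl⟩ := mem_transp.1 hd
    obtain ⟨k, rfl⟩ := mem_transp.1 he
    have e1 : g * im10 0 * g⁻¹ * (k * im10 0 * k⁻¹) =
        g * (im10 0 * ((g⁻¹ * k) * im10 0 * (g⁻¹ * k)⁻¹)) * g⁻¹ := by group
    rcases three_transp (g⁻¹ * k) with h | h
    · left; rw [e1, conj_pow, h, mul_one, mul_inv_cancel]
    · right; rw [e1, conj_pow, h, mul_one, mul_inv_cancel]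
  · haveI := simple_fi
    haveI hn : (Subgroup.closure transp).Normal := ⟨fun n hn g => by
      induction hn using Subgroup.closure_induction with
      | mem x hx =>
        obtain ⟨k, rfl⟩ := mem_transp.1 hx
        exact Subgroup.subset_closure (mem_transp.2 ⟨g * k, by group⟩)
      | one => simp
      | mul x y _ _ hx hy =>
        rw [show g * (x * y) * g⁻¹ = g * x * g⁻¹ * (g * y * g⁻¹) by group]
        exact mul_mem hx hy
      | inv x _ hx =>
        rw [show g * x⁻¹ * g⁻¹ = (g * x * g⁻¹)⁻¹ by group]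
        exact inv_mem hx⟩
    rcases Subgroup.Normal.eq_bot_or_eq_top hn with e | e
    · have : im10 0 ∈ (⊥ : Subgroup Cfsg.Spor.Fi22) := e ▸ Subgroup.subset_closure (IsConj.refl _)
      exact absurd (Subgroup.mem_bot.1 this) im10_zero_ne
    · exact e

theorem card_transp : Nat.card transp = 3510 := by
  let f : Cfsg.Spor.Fi22 ⧸ lgp im10 lamH → transp := Quotient.lift (fun g => ⟨g * im10 0 * g⁻¹, mem_transp.2 ⟨g, rfl⟩⟩)
    fun a b hab => Subtype.ext (by
      have h : a⁻¹ * b ∈ lgp im10 lamH := QuotientGroup.leftRel_apply.1 hab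
      have := a_comm h
      calc a * im10 0 * a⁻¹ = a * (im10 0 * (a⁻¹ * b)) * b⁻¹ := by group
        _ = a * ((a⁻¹ * b) * im10 0) * b⁻¹ := by rw [this]
        _ = b * im10 0 * b⁻¹ := by group)
  have hb : Function.Bijective f := by
    constructor
    · intro x y
      induction x using QuotientGroup.induction_on with
      | H a =>
        induction y using QuotientGroup.induction_on with
        | H b =>
          intro h
          have h' : a * im10 0 * a⁻¹ = b * im10 0 * b⁻¹ := congrArg Subtype.val h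
          refine QuotientGroup.eq.2 ?_
          rw [← centralizer_a, Subgroup.mem_centralizer_singleton_iff]
          calc a⁻¹ * b * im10 0 = a⁻¹ * (b * im10 0 * b⁻¹) * b := by group
            _ = a⁻¹ * (a * im10 0 * a⁻¹) * b := by rw [h']
            _ = im10 0 * (a⁻¹ * b) := by group
    · rintro ⟨x, hx⟩
      obtain ⟨g, rfl⟩ := mem_transp.1 hx
      exact ⟨QuotientGroup.mk g, rfl⟩
  rw [← Nat.card_eq_of_bijective f hb, ← Subgroup.index_eq_card, index_eq.1]

theorem centralizer_transp {d : Cfsg.Spor.Fi22} (hd : d ∈ transp) :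
    Cfsg.IsNonsplitDoubleCover (Subgroup.centralizer ({d} : Set Cfsg.Spor.Fi22))
      (Cfsg.PSU 6 Cfsg.Lib.PrimeGraph.KQuad 2) := by
  obtain ⟨g, rfl⟩ := mem_transp.1 hd
  have e : (Subgroup.centralizer ({im10 0} : Set Cfsg.Spor.Fi22)).map (MulAut.conj g).toMonoidHom =
      Subgroup.centralizer {g * im10 0 * g⁻¹} := by
    ext x
    rw [Subgroup.mem_map, Subgroup.mem_centralizer_singleton_iff]
    constructor
    · rintro ⟨y, hy, rfl⟩
      rw [Subgroup.mem_centralizer_singleton_iff] at hy
      show g * y * g⁻¹ * (g * im10 0 * g⁻¹) = g * im10 0 * g⁻¹ * (g * y * g⁻¹)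
      rw [show g * y * g⁻¹ * (g * im10 0 * g⁻¹) = g * (y * im10 0) * g⁻¹ by group, hy]
      group
    · intro hx
      refine ⟨g⁻¹ * x * g, Subgroup.mem_centralizer_singleton_iff.2 ?_, by
        show g * (g⁻¹ * x * g) * g⁻¹ = x
        group⟩
      calc g⁻¹ * x * g * im10 0 = g⁻¹ * (x * (g * im10 0 * g⁻¹)) * g := by group
        _ = g⁻¹ * (g * im10 0 * g⁻¹ * x) * g := by rw [hx]
        _ = im10 0 * (g⁻¹ * x * g) := by group
  rw [← e]
  exact nonsplit_congr ((MulEquiv.subgroupCongr centralizer_a.symm).trans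
    (Subgroup.equivMapOfInjective _ _ (MulAut.conj g).injective)) double_cover

end Cfsg.Lib.FiPres
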