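import Cfsg.Agent.FiPres.AutTuples
import Cfsg.Prelude.Def_KGroupFacts

/-!
The presented Fischer group has exactly one class of outer automorphisms: automorphisms are counted through the
images of the nine letters as points, and the symmetry of the diagram is odd on the points.
-/

set_option autoImplicit false
set_option Elab.async false

namespace Cfsg.Lib.FiPres

open Cfsg.Lib.CosetCert Cfsg.Lib.PermCert

theorem im10_transp (k : Fin 9) : im10 k.val ∈ transp := by
  rw [← (letter_facts k).2.1]
  haveI := transitive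
  obtain ⟨g, hg⟩ := MulAction.exists_smul_eq Cfsg.Spor.Fi22 p0 (ptL k)
  rw [← hg, tr_orbit]
  exact mem_transp.2 ⟨g, rfl⟩

theorem card_mulAut : Nat.card (MulAut Cfsg.Spor.Fi22) ≤ 2 * 64561751654400 := by
  have hex : ∀ (φ : MulAut Cfsg.Spor.Fi22) (k : Fin 9), ∃ y, tr y = φ (im10 k.val) := fun φ k => by
    obtain ⟨g, hg⟩ := mem_transp.1 (im10_transp k)
    obtain ⟨h, hh⟩ := mem_transp.1 (aut_transp φ)
    refine exists_point (mem_transp.2 ⟨φ g * h, ?_⟩)
    rw [← hg, map_mul, map_mul, map_inv, ← hh]
    group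
  choose Φ hΦ using hex
  have hgood : ∀ φ, GoodT (Φ φ) := by
    intro φ j k hjk
    obtain ⟨h1, h2⟩ := (letter_facts k).2.2 j hjk.ne
    refine ⟨fun e => h1 (tr_injective ?_), ?_⟩
    · have := congrArg tr e
      rw [hΦ, hΦ] at this
      rw [(letter_facts j).2.1, (letter_facts k).2.1]
      exact φ.injective this
    · refine Iff.trans (not_congr ?_) h2
      rw [tr_fix, tr_fix, hΦ, hΦ, (letter_facts j).2.1, (letter_facts k).2.1]
      exact ⟨fun h => φ.injective (by rw [map_mul, map_mul]; exact h), fun h => h.map φ⟩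
  have hinj : Function.Injective fun φ => (⟨Φ φ, hgood φ⟩ : {t : Fin 9 → Fin 3510 // GoodT t}) := by
    intro φ ψ h
    have e : ∀ k : Fin 9, φ (im k.val) = ψ (im k.val) := fun k => by
      have hk : Φ φ k = Φ ψ k := congrFun (congrArg Subtype.val h) k
      rw [← im10_low k.isLt, ← hΦ φ k, ← hΦ ψ k, hk]
    have : φ.toMonoidHom = ψ.toMonoidHom := MonoidHom.eq_of_eqOn_dense closure_im (by
      rintro _ ⟨l, hl, rfl⟩
      exact e ⟨l, hl⟩)
    exact MulEquiv.ext fun x => DFunLike.congr_fun this x
  exact (Nat.card_le_card_of_injective _ hinj).trans card_goodT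

/-- The symmetry of the diagram. -/
def symL (k : ℕ) : ℕ := [6, 5, 4, 3, 2, 1, 0, 7, 8].getD k k

theorem sym_labels : ∀ x y : Fin 9, symL x.val < 9 ∧
    Cfsg.Spor.coxLabel Cfsg.Spor.Fi22.edges (genOf (symL x.val)) (genOf (symL y.val)) =
      Cfsg.Spor.coxLabel Cfsg.Spor.Fi22.edges (genOf x.val) (genOf y.val) := by decide +kernel

theorem sym_spider : trivWord 3510 sigTabs ((rpt 10 [3, 2, 1, 3, 4, 5, 3, 7, 8]).map symL) = true ∧
    ((rpt 10 [3, 2, 1, 3, 4, 5, 3, 7, 8]).map symL).all (fun l => decide (l < 9)) = true := by decide +kernel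

theorem sym_seven_a : trivWord 3510 sigTabs ((rpt 9 [0, 1, 2, 3, 4, 5, 7]).map symL) = true ∧
    ((rpt 9 [0, 1, 2, 3, 4, 5, 7]).map symL).all (fun l => decide (l < 9)) = true := by decide +kernel

theorem sym_seven_b : trivWord 3510 sigTabs ((rpt 9 [1, 2, 3, 4, 5, 6, 7]).map symL) = true ∧
    ((rpt 9 [1, 2, 3, 4, 5, 6, 7]).map symL).all (fun l => decide (l < 9)) = true := by decide +kernel

theorem good_sym : Good fun k => im (symL k) := by
  intro w hw
  rcases List.mem_append.1 hw with hw | hw
  · obtain ⟨x, hx, hw⟩ := List.mem_flatMap.1 hw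
    obtain ⟨y, hy, rfl⟩ := List.mem_map.1 hw
    rw [List.mem_range] at hx hy
    obtain ⟨sx, e⟩ := sym_labels ⟨x, hx⟩ ⟨y, hy⟩
    have h := good_im.pair sx (sym_labels ⟨y, hy⟩ ⟨x, hx⟩).1
    rw [e] at h
    simpa only [pairWord, wval_rpt, wval_cons, wval_nil, mul_one] using h
  · have key : ∀ v : List ℕ, trivWord 3510 sigTabs (v.map symL) = true ∧
        (v.map symL).all (fun l => decide (l < 9)) = true → wval (fun k => im (symL k)) v = 1 := fun v h => by
      have h1 : wval im10 (v.map symL) = 1 := factG.2 ((tabled.trivWord_sound h.1).trans (map_one psi).symm)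
      rw [wval_low (fun l hl => decide_eq_true_eq.mp (List.all_eq_true.1 h.2 l hl)), wval, List.map_map] at h1
      exact h1
    simp only [extraWords, List.mem_cons, List.mem_nil_iff, or_false] at hw
    rcases hw with rfl | rfl | rfl
    exacts [key _ sym_spider, key _ sym_seven_a, key _ sym_seven_b]

/-- The symmetry as a map of the group. -/
def symHom : Cfsg.Spor.Fi22 →* Cfsg.Spor.Fi22 := toGrp good_sym

theorem symL_facts : ∀ k : Fin 9, symL k.val < 9 ∧ symL (symL k.val) = k.val := by decide

theorem symHom_symHom : symHom.comp symHom = MonoidHom.id _ := MonoidHom.eq_of_eqOn_dense closure_im (by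
  rintro _ ⟨l, hl, rfl⟩
  obtain ⟨a, b⟩ := symL_facts ⟨l, hl⟩
  rw [MonoidHom.comp_apply, symHom, toGrp_im good_sym hl, toGrp_im good_sym a, b]
  rfl)

/-- The symmetry as an automorphism. -/
def symAut : MulAut Cfsg.Spor.Fi22 := MonoidHom.toMulEquiv symHom symHom symHom_symHom symHom_symHom

/-- The symmetry on the points. -/
def symPts : Equiv.Perm (Fin 3510) := perm 3510 (symPerm, symPerm)

theorem symPts_ok : valid 3510 (symPerm, symPerm) = true ∧ ((List.range 3510).all fun y =>
    (ap symPerm (ap symPerm y) == y) && (symFix.testBit y == (ap symPerm y == y)) && (List.range 9).all fun k =>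
      ap symPerm (ap (sigTabs.getD k (0, 0)).1 y) == ap (sigTabs.getD (symL k) (0, 0)).1 (ap symPerm y)) = true ∧
    ap symPerm 0 = letterPts.getD 6 0 ∧ maskCount 3510 symFix = 360 := by decide +kernel

theorem sign_symPts : Equiv.Perm.sign symPts = -1 := by
  have h2 : symPts ^ 2 = 1 := Equiv.ext fun y => Fin.ext (by
    have h := List.all_eq_true.1 symPts_ok.2.1 y.val (List.mem_range.2 y.isLt)
    simp only [Bool.and_eq_true, beq_iff_eq] at h
    rw [sq, Equiv.Perm.mul_apply, symPts, perm_apply symPts_ok.1, perm_apply symPts_ok.1, Equiv.Perm.one_apply]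
    exact h.1.1)
  have hf : Fintype.card (Function.fixedPoints symPts) = 360 := by
    rw [← Nat.card_eq_fintype_card, Nat.card_coe_set_eq, ← symPts_ok.2.2.2, ← ncard_maskPts]
    refine congrArg Set.ncard (Set.ext fun y => ?_)
    have h := List.all_eq_true.1 symPts_ok.2.1 y.val (List.mem_range.2 y.isLt)
    simp only [Bool.and_eq_true, beq_iff_eq] at h
    rw [mem_maskPts, h.1.2, beq_iff_eq, Function.mem_fixedPoints, Function.IsFixedPt, Fin.ext_iff, symPts,
      perm_apply symPts_ok.1]
  rw [Equiv.Perm.sign_of_pow_two_eq_one h2, hf, Fintype.card_fin]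
  norm_num

theorem sign_psi (x : Cfsg.Spor.Fi22) : Equiv.Perm.sign (psi x) = 1 := by
  haveI := simple_fi
  let f : Cfsg.Spor.Fi22 →* ℤˣ := Equiv.Perm.sign.comp psi
  rcases Subgroup.Normal.eq_bot_or_eq_top (inferInstance : f.ker.Normal) with e | e
  · have := Nat.card_le_card_of_injective f ((MonoidHom.ker_eq_bot_iff f).1 e)
    rw [factG.1] at this
    have h2 : Nat.card ℤˣ = 2 := by rw [Nat.card_eq_fintype_card, Fintype.card_units_int]
    exact absurd (this.trans_eq h2) (by norm_num)
  · have hm : x ∈ f.ker := by rw [e]; exact Subgroup.mem_top x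
    rw [MonoidHom.mem_ker, MonoidHom.comp_apply] at hm
    exact hm

theorem symAut_outer : symAut ∉ Cfsg.Inn Cfsg.Spor.Fi22 := by
  rintro ⟨x, hx⟩
  haveI := transitive
  have hconj : ∀ k : Fin 9, x * im k.val * x⁻¹ = im (symL k.val) := fun k => by
    have := DFunLike.congr_fun hx (im k.val)
    rw [MulAut.conj_apply] at this
    rw [this]
    exact toGrp_im good_sym k.isLt
  have hval : ∀ y : Fin 3510, (symPts y).val = ap symPerm y.val := fun y => by
    rw [symPts, perm_apply symPts_ok.1]
  have hstep : ∀ (k : Fin 9) (y : Fin 3510), x • y = symPts y → x • (im10 k.val • y) = symPts (im10 k.val • y) := by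
    intro k y hy
    have ev : ∀ (l : ℕ), l < 9 → ∀ z : Fin 3510, (im10 l • z : Fin 3510).val = ap (sigTabs.getD l (0, 0)).1 z.val :=
      fun l hl z => by
        rw [smul_eq, (psi_act l (show l < 10 by omega)).2, perm_apply (psi_act l (show l < 10 by omega)).1]
    rw [← mul_smul, show x * im10 k.val = im10 (symL k.val) * x by
      rw [im10_low k.isLt, im10_low (symL_facts k).1, ← hconj k, inv_mul_cancel_right], mul_smul, hy]
    refine Fin.ext ?_
    rw [ev _ (symL_facts k).1, hval, hval, ev _ k.isLt]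
    have h := List.all_eq_true.1 symPts_ok.2.1 y.val (List.mem_range.2 y.isLt)
    simp only [Bool.and_eq_true, List.all_eq_true, List.mem_range, beq_iff_eq] at h
    exact (h.2 k.val k.isLt).symm
  have hp : x • p0 = symPts p0 := by
    have hpt : symPts p0 = ptL 6 := Fin.ext (by
      rw [hval]
      show ap symPerm 0 = _ % 3510
      rw [symPts_ok.2.2.1, Nat.mod_eq_of_lt (by decide +kernel)]
      rfl)
    rw [hpt]
    refine tr_injective ?_
    rw [tr_orbit, (letter_facts 6).2.1, im10_low (show 0 < 9 by norm_num), im10_low (show ((6 : Fin 9) : ℕ) < 9 by decide)]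
    exact hconj 0
  have hsign := sign_symPts
  have hpsi := sign_psi x
  generalize symPts = σ at hstep hp hsign
  let M : Subgroup Cfsg.Spor.Fi22 :=
    { carrier := {g | ∀ y : Fin 3510, x • y = σ y ↔ x • (g • y) = σ (g • y)}
      one_mem' := fun y => by rw [one_smul]
      mul_mem' := fun {a b} ha hb y => by rw [mul_smul]; exact (hb y).trans (ha _)
      inv_mem' := fun {a} ha y => by
        have := ha (a⁻¹ • y)
        rw [smul_inv_smul] at this
        exact this.symm }
  have htop : M = ⊤ := by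
    refine top_le_iff.1 (closure_im ▸ (Subgroup.closure_le _).2 ?_)
    rintro _ ⟨l, hl, rfl⟩ y
    rw [← im10_low hl]
    refine ⟨hstep ⟨l, hl⟩ y, fun h => ?_⟩
    have := hstep ⟨l, hl⟩ _ h
    have hs : im10 l • im10 l • y = y := by
      rw [← mul_smul, tabled.sq l (show l < 10 from Nat.lt_trans hl (by norm_num)), one_smul]
    rwa [show ((⟨l, hl⟩ : Fin 9) : ℕ) = l from rfl, hs] at this
  have heq : psi x = σ := Equiv.ext fun y => by
    obtain ⟨g, rfl⟩ := MulAction.exists_smul_eq Cfsg.Spor.Fi22 p0 y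
    have hg : g ∈ M := htop ▸ Subgroup.mem_top g
    exact (hg p0).1 hp
  rw [heq, hsign] at hpsi
  exact absurd hpsi (by decide)

theorem card_out : Nat.card (Cfsg.Out Cfsg.Spor.Fi22) = 2 := by
  haveI := finite_fi
  haveI := simple_fi
  haveI : Finite (MulAut Cfsg.Spor.Fi22) := Finite.of_injective _ DFunLike.coe_injective
  have hc : Subgroup.center Cfsg.Spor.Fi22 = ⊥ := by
    rcases Subgroup.Normal.eq_bot_or_eq_top (inferInstance : (Subgroup.center Cfsg.Spor.Fi22).Normal) with e | e
    · exact e
    · have h : lgp im10 lamH = ⊤ := by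
        rw [← centralizer_a, Subgroup.eq_top_iff']
        intro g
        exact Subgroup.mem_centralizer_singleton_iff.2
          (Subgroup.mem_center_iff.1 (show im10 0 ∈ Subgroup.center _ from e ▸ Subgroup.mem_top _) g)
      have hi := index_eq.1
      rw [h, Subgroup.index_top] at hi
      norm_num at hi
  have hinj : Function.Injective (MulAut.conj : Cfsg.Spor.Fi22 →* MulAut Cfsg.Spor.Fi22) := by
    refine (injective_iff_map_eq_one _).2 fun g hg => ?_
    refine Subgroup.mem_bot.1 (hc ▸ Subgroup.mem_center_iff.2 fun y => ?_)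
    have := DFunLike.congr_fun hg y
    rw [MulAut.conj_apply, MulAut.one_apply, mul_inv_eq_iff_eq_mul] at this
    exact this.symm
  have hInn : Nat.card (Cfsg.Inn Cfsg.Spor.Fi22) = 64561751654400 := by
    rw [← factG.1]
    exact (Nat.card_congr (MonoidHom.ofInjective hinj).toEquiv).symm
  have h := Subgroup.card_eq_card_quotient_mul_card_subgroup (Cfsg.Inn Cfsg.Spor.Fi22)
  have hle := card_mulAut
  rw [h, hInn] at hle
  have h2 : Nat.card (Cfsg.Out Cfsg.Spor.Fi22) ≤ 2 := Nat.le_of_mul_le_mul_right hle (by norm_num)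
  have h3 : Nat.card (Cfsg.Out Cfsg.Spor.Fi22) ≠ 1 := fun e => symAut_outer (by
    have := (Subgroup.index_eq_one (H := Cfsg.Inn Cfsg.Spor.Fi22)).1 ((Subgroup.index_eq_card _).trans e)
    rw [this]
    exact Subgroup.mem_top _)
  exact le_antisymm h2 (Nat.lt_of_le_of_ne Nat.card_pos (Ne.symm h3))

end Cfsg.Lib.FiPres
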