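import Cfsg.Agent.FiPres.Relators
import Cfsg.Agent.FiPres.LowerData
import Cfsg.Agent.CosetCert.Kit

/-!
The permutations satisfy the relations.
-/

set_option autoImplicit false

namespace Cfsg.Lib.FiPres

open Cfsg.Lib.CosetCert Cfsg.Lib.PermCert

/-- The permutations. -/
def act (k : ℕ) : Equiv.Perm (Fin 3510) := perm 3510 (sigTabs.getD k (0, 0))

theorem tabs_valid : (List.range 10).all (fun l => valid 3510 (sigTabs.getD l (0, 0))) = true := by decide +kernel

/-- A word in the permutations is trivial. -/
def okWord (w : List ℕ) : Bool :=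
  w.all (fun l => decide (l < 9)) && isId 3510 (w.map fun l => sigTabs.getD l (0, 0))

set_option maxRecDepth 4000 in
theorem okWord_sound {w : List ℕ} (h : okWord w = true) : wval act w = 1 := by
  simp only [okWord, Bool.and_eq_true, List.all_eq_true, decide_eq_true_eq] at h
  have := isId_sound (w := w.map fun l => sigTabs.getD l (0, 0)) (fun g hg => by
    obtain ⟨l, hl, rfl⟩ := List.mem_map.1 hg
    exact List.all_eq_true.1 tabs_valid l (List.mem_range.2 (Nat.lt_trans (h.1 l hl) (by norm_num)))) h.2
  rw [wperm, List.map_map] at this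
  unfold wval
  exact this

/-- The relators of the pairs from one letter. -/
def pairsOK (x : ℕ) : Bool := ((List.range 9).map (pairWord x)).all okWord

theorem p0_ok : pairsOK 0 = true := by decide +kernel
theorem p1_ok : pairsOK 1 = true := by decide +kernel
theorem p2_ok : pairsOK 2 = true := by decide +kernel
theorem p3_ok : pairsOK 3 = true := by decide +kernel
theorem p4_ok : pairsOK 4 = true := by decide +kernel
theorem p5_ok : pairsOK 5 = true := by decide +kernel
theorem p6_ok : pairsOK 6 = true := by decide +kernel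
theorem p7_ok : pairsOK 7 = true := by decide +kernel
theorem p8_ok : pairsOK 8 = true := by decide +kernel

theorem extra_ok : extraWords.all okWord = true := by decide +kernel

theorem good_act : Good act := by
  intro w hw
  rcases List.mem_append.1 hw with hw | hw
  · obtain ⟨x, hx, hw⟩ := List.mem_flatMap.1 hw
    rw [List.mem_range] at hx
    refine okWord_sound (List.all_eq_true.1 (show pairsOK x = true from ?_) w hw)
    interval_cases x
    exacts [p0_ok, p1_ok, p2_ok, p3_ok, p4_ok, p5_ok, p6_ok, p7_ok, p8_ok]
  · exact okWord_sound (List.all_eq_true.1 extra_ok w hw)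

/-- The word of the tenth letter. -/
def tWord : List ℕ := rpt 5 [0, 1, 2, 3, 4, 7]

/-- The word of a letter. -/
def expandL (k : ℕ) : List ℕ := if k = 9 then tWord else [k]

/-- The ten letters. -/
def im10 (k : ℕ) : Cfsg.Spor.Fi22 := wval im (expandL k)

theorem im10_low {k : ℕ} (h : k < 9) : im10 k = im k := by
  simp [im10, expandL, show k ≠ 9 by omega, wval]

theorem wval_low : ∀ {w : List ℕ}, (∀ l ∈ w, l < 9) → wval im10 w = wval im w
  | [], _ => rfl
  | l :: w, h => by
    rw [wval_cons, wval_cons, wval_low fun a ha => h a (List.mem_cons_of_mem l ha), im10_low (h l List.mem_cons_self)]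

/-- The action on the points. -/
def psi : Cfsg.Spor.Fi22 →* Equiv.Perm (Fin 3510) := toGrp good_act

theorem tenth_ok : isId 3510 (sigTabs.getD 9 (0, 0) :: tWord.map fun x => sigTabs.getD x (0, 0)) = true ∧
    (tWord.all fun x => decide (x < 9)) = true := by decide +kernel

set_option maxRecDepth 4000 in
theorem psi_act (l : ℕ) (hl : l < sigTabs.length) :
    valid 3510 (sigTabs.getD l (0, 0)) = true ∧ psi (im10 l) = perm 3510 (sigTabs.getD l (0, 0)) := by
  have h10 : l < 10 := hl
  have hv : ∀ k, k < 10 → valid 3510 (sigTabs.getD k (0, 0)) = true := fun k hk =>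
    List.all_eq_true.1 tabs_valid k (List.mem_range.2 hk)
  refine ⟨hv l h10, ?_⟩
  rcases Nat.lt_or_ge l 9 with h | h
  · rw [im10_low h]
    exact toGrp_im good_act h
  · obtain rfl : l = 9 := by omega
    have hlt : ∀ x ∈ tWord, x < 9 := fun x hx => decide_eq_true_eq.mp (List.all_eq_true.1 tenth_ok.2 x hx)
    have hid := isId_sound (w := sigTabs.getD 9 (0, 0) :: tWord.map fun x => sigTabs.getD x (0, 0)) (by
      intro g hg
      rcases List.mem_cons.1 hg with rfl | hg
      · exact hv 9 h10
      · obtain ⟨x, hx, rfl⟩ := List.mem_map.1 hg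
        exact hv x (Nat.lt_trans (hlt x hx) (by norm_num))) tenth_ok.1
    have hw : psi (wval im tWord) = wperm 3510 (tWord.map fun x => sigTabs.getD x (0, 0)) := by
      rw [map_wval, wperm, List.map_map, wval]
      exact congrArg List.prod (List.map_congr_left fun x hx => toGrp_im good_act (hlt x hx))
    rw [show wperm 3510 (sigTabs.getD 9 (0, 0) :: tWord.map fun x => sigTabs.getD x (0, 0)) =
      perm 3510 (sigTabs.getD 9 (0, 0)) * wperm 3510 (tWord.map fun x => sigTabs.getD x (0, 0)) by simp [wperm],
      ← hw] at hid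
    have hsq : perm 3510 (sigTabs.getD 9 (0, 0)) * perm 3510 (sigTabs.getD 9 (0, 0)) = 1 := by
      conv_lhs => arg 2; rw [show sigTabs.getD 9 (0, 0) = pinv (sigTabs.getD 9 (0, 0)) from rfl, perm_pinv (hv 9 h10)]
      rw [mul_inv_cancel]
    rw [show im10 9 = wval im tWord from rfl, ← mul_left_cancel_iff (a := perm 3510 (sigTabs.getD 9 (0, 0))), hid, hsq]

end Cfsg.Lib.FiPres
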