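import Cfsg.Agent.FiPres.Eleven

/-!
The transpositions of points and the normal form of nine points in the pattern of the diagram.
-/

set_option autoImplicit false
set_option Elab.async false

namespace Cfsg.Lib.FiPres

open Cfsg.Lib.CosetCert Cfsg.Lib.PermCert

/-- The transposition of a point. -/
noncomputable def tr (y : Fin 3510) : Cfsg.Spor.Fi22 :=
  haveI := transitive
  (MulAction.exists_smul_eq Cfsg.Spor.Fi22 p0 y).choose * im10 0 *
    (MulAction.exists_smul_eq Cfsg.Spor.Fi22 p0 y).choose⁻¹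

theorem tr_orbit (g : Cfsg.Spor.Fi22) : tr (g • p0) = g * im10 0 * g⁻¹ := by
  haveI := transitive
  unfold tr
  set h := (MulAction.exists_smul_eq Cfsg.Spor.Fi22 p0 (g • p0)).choose
  have hh : h • p0 = g • p0 := (MulAction.exists_smul_eq Cfsg.Spor.Fi22 p0 (g • p0)).choose_spec
  have hm : g⁻¹ * h ∈ lgp im10 lamH := by
    rw [← index_eq.2, MulAction.mem_stabilizer_iff, mul_smul, hh, inv_smul_smul]
  have := a_comm hm
  calc h * im10 0 * h⁻¹ = g * (g⁻¹ * h * im10 0) * h⁻¹ := by group
    _ = g * (im10 0 * (g⁻¹ * h)) * h⁻¹ := by rw [this]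
    _ = g * im10 0 * g⁻¹ := by group

theorem tr_smul (g : Cfsg.Spor.Fi22) (y : Fin 3510) : tr (g • y) = g * tr y * g⁻¹ := by
  haveI := transitive
  obtain ⟨h, rfl⟩ := MulAction.exists_smul_eq Cfsg.Spor.Fi22 p0 y
  rw [← mul_smul, tr_orbit, tr_orbit]
  group

theorem tr_injective : Function.Injective tr := by
  haveI := transitive
  intro y z h
  obtain ⟨g, rfl⟩ := MulAction.exists_smul_eq Cfsg.Spor.Fi22 p0 y
  obtain ⟨k, rfl⟩ := MulAction.exists_smul_eq Cfsg.Spor.Fi22 p0 z
  rw [tr_orbit, tr_orbit] at h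
  have hm : k⁻¹ * g ∈ lgp im10 lamH := by
    rw [← centralizer_a, Subgroup.mem_centralizer_singleton_iff]
    calc k⁻¹ * g * im10 0 = k⁻¹ * (g * im10 0 * g⁻¹) * g := by group
      _ = k⁻¹ * (k * im10 0 * k⁻¹) * g := by rw [h]
      _ = im10 0 * (k⁻¹ * g) := by group
  rw [← index_eq.2, MulAction.mem_stabilizer_iff, mul_smul, inv_smul_eq_iff] at hm
  exact hm

theorem exists_point {x : Cfsg.Spor.Fi22} (hx : x ∈ transp) : ∃ y, tr y = x := by
  obtain ⟨g, rfl⟩ := mem_transp.1 hx
  exact ⟨g • p0, tr_orbit g⟩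

theorem tr_fix (y z : Fin 3510) : tr y • z = z ↔ Commute (tr y) (tr z) := by
  constructor
  · intro h
    have := tr_smul (tr y) z
    rw [h] at this
    exact (mul_inv_eq_iff_eq_mul.1 this.symm)
  · intro h
    refine tr_injective ?_
    rw [tr_smul, h.eq, mul_inv_cancel_right]

/-- The word of a transposition. -/
def conjW (y : ℕ) : List ℕ :=
  let w := ((ptWords.find? fun p => p.1 == y).map Prod.snd).getD []
  w.reverse ++ 0 :: w

/-- A point has a listed word. -/
def knownPt (y : ℕ) : Bool :=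
  let w := ((ptWords.find? fun p => p.1 == y).map Prod.snd).getD []
  (w.all fun l => decide (l < 9)) && (evalW sigTabs w 0 == y)

theorem tr_known {y : Fin 3510} (h : knownPt y.val = true) :
    tr y = wval im10 (conjW y.val) ∧ ∀ z : Fin 3510, ((tr y • z : Fin 3510) : ℕ) = evalW sigTabs (conjW y.val) z := by
  simp only [knownPt, Bool.and_eq_true, List.all_eq_true, decide_eq_true_eq, beq_iff_eq] at h
  unfold conjW
  set w := ((ptWords.find? fun p => p.1 == y.val).map Prod.snd).getD [] with hw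
  have hl : ∀ l ∈ w, l < sigTabs.length := fun l hl => Nat.lt_trans (h.1 l hl) (by decide)
  have hy : (wval im10 w)⁻¹ • p0 = y := Fin.ext (by
    rw [smul_eq, map_inv]
    exact (evalW_apply im10 psi sigTabs tabled.act w hl p0).trans h.2)
  have e : tr y = wval im10 (w.reverse ++ 0 :: w) := by
    rw [← hy, tr_orbit, wval_append, wval_cons, wval_reverse im10 fun l hl' => tabled.sq l (hl l hl'), inv_inv]
    group
  refine ⟨e, fun z => ?_⟩
  have hsq : (tr y)⁻¹ = tr y := by
    rw [← hy, tr_orbit]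
    refine inv_eq_of_mul_eq_one_left ?_
    rw [show ∀ g : Cfsg.Spor.Fi22, g * im10 0 * g⁻¹ * (g * im10 0 * g⁻¹) = g * (im10 0 * im10 0) * g⁻¹ from
      fun g => by group, im10_zero_sq, mul_one, mul_inv_cancel]
  rw [smul_eq, ← hsq, map_inv, e]
  exact evalW_apply im10 psi sigTabs tabled.act _ (fun l hl' => by
    rcases List.mem_append.1 hl' with h' | h'
    · exact hl l (List.mem_reverse.1 h')
    · rcases List.mem_cons.1 h' with rfl | h'
      · decide
      · exact hl l h') z

/-- The point of a letter. -/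
def ptL (k : Fin 9) : Fin 3510 := Fin.ofNat 3510 (letterPts.getD k.val 0)

/-- Joined letters. -/
def adjB (j k : ℕ) : Bool :=
  [(0, 1), (1, 2), (2, 3), (3, 4), (3, 7), (4, 5), (5, 6), (7, 8)].contains (min j k, max j k)

theorem letters_ok : ((List.range 9).all fun k => knownPt (letterPts.getD k 0) && decide (letterPts.getD k 0 < 3510) &&
    trivWord 3510 sigTabs (conjW (letterPts.getD k 0) ++ [k]) &&
    (List.range 9).all fun j => decide (j = k) || ((letterPts.getD j 0 != letterPts.getD k 0) &&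
      ((evalW sigTabs [j] (letterPts.getD k 0) != letterPts.getD k 0) == adjB j k))) = true := by decide +kernel

theorem letter_facts (k : Fin 9) : knownPt (ptL k).val = true ∧ tr (ptL k) = im10 k.val ∧
    ∀ j : Fin 9, j ≠ k → ptL j ≠ ptL k ∧ (tr (ptL j) • ptL k ≠ ptL k ↔ adjB j.val k.val = true) := by
  have key : ∀ k : Fin 9, (ptL k).val = letterPts.getD k.val 0 ∧ knownPt (ptL k).val = true ∧
      tr (ptL k) = im10 k.val := fun k => by
    have h := List.all_eq_true.1 letters_ok k.val (List.mem_range.2 k.isLt)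
    simp only [Bool.and_eq_true, decide_eq_true_eq] at h
    have e : (ptL k).val = letterPts.getD k.val 0 := Nat.mod_eq_of_lt h.1.1.2
    refine ⟨e, e.symm ▸ h.1.1.1, ?_⟩
    have h1 : wval im10 (conjW (letterPts.getD k.val 0) ++ [k.val]) = 1 :=
      factG.2 ((tabled.trivWord_sound h.1.2).trans (map_one psi).symm)
    rw [wval_append, ← e, ← (tr_known (e.symm ▸ h.1.1.1)).1, wval_cons, wval_nil, mul_one, mul_eq_one_iff_eq_inv] at h1
    rw [h1]
    exact inv_eq_of_mul_eq_one_left (tabled.sq k.val (show k.val < 10 by omega))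
  refine ⟨(key k).2.1, (key k).2.2, fun j hj => ?_⟩
  have h := List.all_eq_true.1 letters_ok k.val (List.mem_range.2 k.isLt)
  simp only [Bool.and_eq_true, List.all_eq_true, List.mem_range] at h
  have h' := h.2 j.val j.isLt
  simp only [Bool.or_eq_true, decide_eq_true_eq, Bool.and_eq_true, bne_iff_ne, beq_iff_eq] at h'
  rcases h' with e | ⟨e1, e2⟩
  · exact absurd (Fin.ext e) hj
  · refine ⟨fun e => e1 ?_, ?_⟩
    · rw [← (key j).1, ← (key k).1, e]
    · haveI := transitive
      rw [(key j).2.2, ne_eq, Fin.ext_iff, tabled.im_smul smul_eq (show j.val < 10 by omega), (key k).1, ← e2,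
        bne_iff_ne]

/-- Nine points in the pattern of the diagram. -/
def GoodT (t : Fin 9 → Fin 3510) : Prop :=
  ∀ j k : Fin 9, j < k → t j ≠ t k ∧ (tr (t j) • t k ≠ t k ↔ adjB j.val k.val = true)

theorem GoodT.smul {t : Fin 9 → Fin 3510} (h : GoodT t) (g : Cfsg.Spor.Fi22) : GoodT fun k => g • t k := by
  intro j k hjk
  obtain ⟨h1, h2⟩ := h j k hjk
  refine ⟨fun e => h1 (smul_left_cancel g e), ?_⟩
  show tr (g • t j) • g • t k ≠ g • t k ↔ _
  rw [tr_smul, ← mul_smul, inv_mul_cancel_right, mul_smul, ne_eq, smul_left_cancel_iff]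
  exact h2

/-- The candidate test for a letter against the first letters. -/
def candB (k m z : ℕ) : Bool :=
  (List.range m).all fun j => (z != letterPts.getD j 0) && ((evalW sigTabs [j] z != z) == adjB j k)

theorem cand_good {t : Fin 9 → Fin 3510} (h : GoodT t) (k : Fin 9) {m : ℕ} (hm : m ≤ k.val)
    (hp : ∀ j : Fin 9, j.val < m → t j = ptL j) : candB k.val m (t k).val = true := by
  rw [candB, List.all_eq_true]
  intro j hj
  rw [List.mem_range] at hj
  have hj9 : j < 9 := by omega
  obtain ⟨h1, h2⟩ := h ⟨j, hj9⟩ k (by rw [Fin.lt_def]; show j < k.val; omega)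
  rw [hp ⟨j, hj9⟩ hj] at h1 h2
  have hk := (letter_facts ⟨j, hj9⟩).2.1
  rw [hk, ne_eq, Fin.ext_iff] at h2
  haveI := transitive
  rw [tabled.im_smul smul_eq (show j < 10 by omega)] at h2
  rw [Bool.and_eq_true, bne_iff_ne, beq_iff_eq]
  refine ⟨fun e => h1 (Fin.ext ?_), ?_⟩
  · show letterPts.getD j 0 % 3510 = _
    rw [← e, Nat.mod_eq_of_lt (t k).isLt]
  · rw [Bool.eq_iff_iff, bne_iff_ne]
    exact h2

/-- The level of the chain at a stage. -/
def levT (m : ℕ) : Lev := chainT.getD m chainT4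

theorem stages_ok : ((List.range 4).all fun m => (levT m).ok sigTabs 3510 &&
    ((levT m).b == letterPts.getD m 0) && ((levT m).gens.all fun w => (w.all fun l => decide (l < 10)) &&
      (List.range m).all fun j => evalW sigTabs w (letterPts.getD j 0) == letterPts.getD j 0) &&
    (List.range 3510).all fun z => !candB m m z || (treeMask (levT m).orb (1 <<< (levT m).b)).testBit z) = true := by
  decide +kernel

theorem move_one {t : Fin 9 → Fin 3510} (h : GoodT t) (m : Fin 9) (hm : m.val < 4)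
    (hp : ∀ j : Fin 9, j.val < m.val → t j = ptL j) :
    ∃ g : Cfsg.Spor.Fi22, (∀ j : Fin 9, j.val < m.val → g • t j = ptL j) ∧ g • t m = ptL m := by
  haveI := transitive
  have hs := List.all_eq_true.1 stages_ok m.val (List.mem_range.2 hm)
  simp only [Bool.and_eq_true, List.all_eq_true, List.mem_range, decide_eq_true_eq, beq_iff_eq, Bool.or_eq_true,
    Bool.not_eq_true', Lev.ok] at hs
  obtain ⟨⟨⟨⟨hb, hscan⟩, hbase⟩, hgen⟩, hcov⟩ := hs
  set L := levT m.val
  let H : Subgroup Cfsg.Spor.Fi22 := Subgroup.closure {x | ∃ w ∈ L.gens, wval im10 w = x}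
  have hfix : ∀ g ∈ H, ∀ j : Fin 9, j.val < m.val → g • ptL j = ptL j := fun g hg j hj => by
    induction hg using Subgroup.closure_induction with
    | mem x hx =>
      obtain ⟨w, hw, rfl⟩ := hx
      have e := evalW_apply im10 psi sigTabs tabled.act w (fun l hl => (hgen w hw).1 l hl) (ptL j)
      have hv : (ptL j).val = letterPts.getD j.val 0 := by
        have h' := List.all_eq_true.1 letters_ok j.val (List.mem_range.2 j.isLt)
        simp only [Bool.and_eq_true, decide_eq_true_eq] at h'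
        exact Nat.mod_eq_of_lt h'.1.1.2
      rw [hv, (hgen w hw).2 j.val hj, ← hv, ← map_inv, ← smul_eq] at e
      exact (inv_smul_eq_iff.1 (Fin.ext e)).symm
    | one => rw [one_smul]
    | mul a b _ _ ha hb' => rw [mul_smul, hb', ha]
    | inv a _ ha => rw [inv_smul_eq_iff, ha]
  have hz := hcov (t m).val (t m).isLt
  rw [cand_good h m le_rfl hp] at hz
  obtain ⟨g, hg, e⟩ := tabled.reach smul_eq (H := H) (p := (⟨L.b, hb⟩ : Fin 3510)) (fun w hw => (hgen w hw).1)
    (fun w hw => Subgroup.subset_closure ⟨w, hw, rfl⟩) L.orb (1 <<< L.b) hscan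
    (fun i hi => ⟨1, H.one_mem, by
      rw [Nat.one_shiftLeft, Nat.testBit_two_pow, decide_eq_true_eq] at hi
      rw [one_smul]
      exact hi⟩) (t m).val (hz.resolve_left (by decide))
  refine ⟨g⁻¹, fun j hj => ?_, ?_⟩
  · rw [inv_smul_eq_iff, hfix g hg j hj]
    exact hp j hj
  · rw [inv_smul_eq_iff, ← (Fin.ext e : g • (⟨L.b, hb⟩ : Fin 3510) = t m)]
    congr 1
    refine Fin.ext ?_
    show L.b = _ % 3510
    rw [← hbase, Nat.mod_eq_of_lt hb]

theorem normal_prefix {t : Fin 9 → Fin 3510} (h : GoodT t) :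
    ∀ m, m ≤ 4 → ∃ g : Cfsg.Spor.Fi22, ∀ j : Fin 9, j.val < m → g • t j = ptL j
  | 0, _ => ⟨1, fun j hj => absurd hj (Nat.not_lt_zero _)⟩
  | m + 1, hm => by
    obtain ⟨g, hg⟩ := normal_prefix h m (by omega)
    obtain ⟨k, hk1, hk2⟩ := move_one (h.smul g) ⟨m, by omega⟩ (by show m < 4; omega) hg
    refine ⟨k * g, fun j hj => ?_⟩
    rw [mul_smul]
    rcases Nat.lt_succ_iff_lt_or_eq.1 hj with h' | h'
    · exact hk1 j h'
    · rw [show j = ⟨m, by omega⟩ from Fin.ext h']
      exact hk2

end Cfsg.Lib.FiPres
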