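import Cfsg.Agent.FiPres.AutPoints

/-!
At most twice the group order many nine-point patterns.
-/

set_option autoImplicit false
set_option Elab.async false

namespace Cfsg.Lib.FiPres

open Cfsg.Lib.CosetCert Cfsg.Lib.PermCert

/-- The candidates of a later letter. -/
def candL (k : ℕ) : List ℕ := candLits.getD (k - 4) []

theorem cand_covers : ((List.range 5).all fun k => (List.range 3510).all fun z =>
    !candB (k + 4) 4 z || (candL (k + 4)).contains z) = true := by decide +kernel

/-- A later pair is in the pattern. -/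
def pairB (j k y z : ℕ) : Bool := (y != z) && ((evalW sigTabs (conjW y) z != z) == adjB j k)

/-- The completions of the first four letters. -/
def tails : List (List ℕ) :=
  (candL 4).flatMap fun e => ((candL 5).filter fun f => pairB 4 5 e f).flatMap fun f =>
    ((candL 6).filter fun g => pairB 4 6 e g && pairB 5 6 f g).flatMap fun g =>
      ((candL 7).filter fun h => pairB 4 7 e h && pairB 5 7 f h && pairB 6 7 g h).flatMap fun h =>
        ((candL 8).filter fun i => pairB 4 8 e i && pairB 5 8 f i && pairB 6 8 g i && pairB 7 8 h i).map fun i =>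
          [e, f, g, h, i]

theorem tails_ok : (decide (tails.length ≤ 240) &&
    (List.range 4).all fun k => (candL (k + 4)).all fun y => knownPt y) = true := by decide +kernel

/-- The last five points. -/
def tailOf (t : Fin 9 → Fin 3510) : List ℕ := [(t 4).val, (t 5).val, (t 6).val, (t 7).val, (t 8).val]

theorem tail_mem {t : Fin 9 → Fin 3510} (h : GoodT t) (hp : ∀ j : Fin 9, j.val < 4 → t j = ptL j) :
    tailOf t ∈ tails := by
  have hc : ∀ k : Fin 9, 4 ≤ k.val → (t k).val ∈ candL k.val := fun k hk => by
    have h1 := List.all_eq_true.1 (List.all_eq_true.1 cand_covers (k.val - 4)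
      (List.mem_range.2 (by have := k.isLt; omega))) (t k).val (List.mem_range.2 (t k).isLt)
    rw [show k.val - 4 + 4 = k.val by omega, cand_good h k hk hp] at h1
    simpa using h1
  have hk := tails_ok
  simp only [Bool.and_eq_true, List.all_eq_true, List.mem_range] at hk
  have hpair : ∀ j k : Fin 9, 4 ≤ j.val → j < k → pairB j.val k.val (t j).val (t k).val = true := fun j k hj hjk => by
    obtain ⟨h1, h2⟩ := h j k hjk
    have hkn : knownPt (t j).val = true := by
      have hlt : j.val - 4 < 4 := by
        rw [Fin.lt_def] at hjk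
        have := k.isLt
        omega
      refine hk.2 (j.val - 4) hlt _ ?_
      rw [show j.val - 4 + 4 = j.val by omega]
      exact hc j hj
    rw [ne_eq, Fin.ext_iff, (tr_known hkn).2 (t k)] at h2
    rw [pairB, Bool.and_eq_true, bne_iff_ne, beq_iff_eq]
    exact ⟨fun e => h1 (Fin.ext e), by rw [Bool.eq_iff_iff, bne_iff_ne]; exact h2⟩
  have p45 := hpair 4 5 (by decide) (by decide)
  have p46 := hpair 4 6 (by decide) (by decide)
  have p47 := hpair 4 7 (by decide) (by decide)
  have p48 := hpair 4 8 (by decide) (by decide)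
  have p56 := hpair 5 6 (by decide) (by decide)
  have p57 := hpair 5 7 (by decide) (by decide)
  have p58 := hpair 5 8 (by decide) (by decide)
  have p67 := hpair 6 7 (by decide) (by decide)
  have p68 := hpair 6 8 (by decide) (by decide)
  have p78 := hpair 7 8 (by decide) (by decide)
  simp only [tails, List.mem_flatMap, List.mem_filter, List.mem_map, Bool.and_eq_true]
  exact ⟨_, hc 4 (by decide), _, ⟨hc 5 (by decide), p45⟩, _, ⟨hc 6 (by decide), p46, p56⟩, _,
    ⟨hc 7 (by decide), ⟨p47, p57⟩, p67⟩, _, ⟨hc 8 (by decide), ⟨⟨p48, p58⟩, p68⟩, p78⟩, rfl⟩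

/-- The first four letters. -/
def base4 (j : Fin 4) : Fin 3510 := ptL ⟨j.val, by omega⟩

theorem fix_last : ((List.range 4).all fun j => chainT4.gens.all fun w =>
    evalW sigTabs w (letterPts.getD j 0) == letterPts.getD j 0) = true ∧
    chainOK sigTabs 3510 sigTabs.length [chainT4] = true ∧ chainSize [chainT4] = 120 := by decide +kernel

theorem card_stab4 : 120 ≤ Nat.card (MulAction.stabilizer Cfsg.Spor.Fi22 base4) := by
  haveI := finite_fi
  have hb := chain_bound (fun k => im10 k) psi sigTabs tabled.act [chainT4]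
    (MulAction.stabilizer Cfsg.Spor.Fi22 base4) fix_last.2.1 inferInstance (fun K hK w hw => by
      rw [List.mem_singleton] at hK
      subst hK
      rw [MulAction.mem_stabilizer_iff]
      funext j
      have hf := List.all_eq_true.1 (List.all_eq_true.1 fix_last.1 j.val (List.mem_range.2 j.isLt)) w hw
      rw [beq_iff_eq] at hf
      have hl : ∀ l ∈ w, l < sigTabs.length :=
        chain_bound.chain_letters.{0} sigTabs [chainT4] fix_last.2.1 _ List.mem_cons_self w hw
      have e := evalW_apply im10 psi sigTabs tabled.act w hl (base4 j)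
      have hv : (base4 j).val = letterPts.getD j.val 0 := by
        have h' := List.all_eq_true.1 letters_ok j.val (List.mem_range.2 (by omega))
        simp only [Bool.and_eq_true, decide_eq_true_eq] at h'
        exact Nat.mod_eq_of_lt h'.1.1.2
      rw [hv, hf, ← hv, ← map_inv, ← smul_eq] at e
      exact (inv_smul_eq_iff.1 (Fin.ext e)).symm)
  exact fix_last.2.2 ▸ hb

theorem card_goodT : Nat.card {t : Fin 9 → Fin 3510 // GoodT t} ≤ 2 * 64561751654400 := by
  haveI := finite_fi
  classical
  let O := MulAction.orbit Cfsg.Spor.Fi22 base4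
  have hpre : ∀ t : {t : Fin 9 → Fin 3510 // GoodT t}, ∃ g : Cfsg.Spor.Fi22, ∀ j : Fin 9, j.val < 4 →
      g • t.1 j = ptL j := fun t => normal_prefix t.2 4 le_rfl
  let first : {t : Fin 9 → Fin 3510 // GoodT t} → O := fun t =>
    ⟨fun j => t.1 ⟨j.val, by omega⟩, by
      obtain ⟨g, hg⟩ := hpre t
      exact ⟨g⁻¹, funext fun j => by
        show g⁻¹ • base4 j = _
        rw [inv_smul_eq_iff]
        exact (hg ⟨j.val, by omega⟩ j.isLt).symm⟩⟩
  let back : ∀ o : O, {g : Cfsg.Spor.Fi22 // g • base4 = o.1} := fun o => ⟨o.2.choose, o.2.choose_spec⟩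
  have hback : ∀ t, ∀ j : Fin 9, j.val < 4 → (back (first t)).1⁻¹ • t.1 j = ptL j := fun t j hj => by
    rw [inv_smul_eq_iff]
    exact (congrFun (back (first t)).2 ⟨j.val, hj⟩).symm
  let code : {t : Fin 9 → Fin 3510 // GoodT t} → O × tails.toFinset := fun t =>
    (first t, ⟨tailOf (fun k => (back (first t)).1⁻¹ • t.1 k),
      List.mem_toFinset.2 (tail_mem (t.2.smul _) (hback t))⟩)
  have hinj : Function.Injective code := by
    intro t s h
    have h1 : first t = first s := congrArg Prod.fst h
    have h2 := congrArg (fun p => (Prod.snd p : tails.toFinset).1) h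
    simp only [code, tailOf, List.cons.injEq, Fin.val_inj, and_true] at h2
    rw [h1] at h2
    obtain ⟨a, b, c, d, e⟩ := h2
    refine Subtype.ext (funext fun k => ?_)
    have hlow : ∀ j : Fin 4, t.1 ⟨j.val, by omega⟩ = s.1 ⟨j.val, by omega⟩ := fun j =>
      congrFun (congrArg Subtype.val h1) j
    obtain ⟨k, hk⟩ := k
    interval_cases k
    exacts [hlow 0, hlow 1, hlow 2, hlow 3, smul_left_cancel _ a, smul_left_cancel _ b, smul_left_cancel _ c,
      smul_left_cancel _ d, smul_left_cancel _ e]
  refine (Nat.card_le_card_of_injective code hinj).trans ?_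
  rw [Nat.card_prod, Nat.card_eq_finsetCard]
  have h1 : tails.toFinset.card ≤ 240 :=
    (List.toFinset_card_le _).trans (decide_eq_true_eq.mp (Bool.and_eq_true_iff.1 tails_ok).1)
  haveI := Fintype.ofFinite Cfsg.Spor.Fi22
  have h2 := MulAction.card_orbit_mul_card_stabilizer_eq_card_group Cfsg.Spor.Fi22 base4
  simp only [← Nat.card_eq_fintype_card] at h2
  rw [factG.1] at h2
  have h3 := Nat.mul_le_mul_left (Nat.card O) card_stab4
  calc Nat.card O * tails.toFinset.card ≤ Nat.card O * 240 := Nat.mul_le_mul_left _ h1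
    _ = 2 * (Nat.card O * 120) := by ring
    _ ≤ 2 * 64561751654400 := Nat.mul_le_mul_left 2 (h3.trans h2.le)

end Cfsg.Lib.FiPres
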