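import Cfsg.Agent.FiPres.D3Data

/-!
The certificate is valid.
-/

set_option autoImplicit false

namespace Cfsg.Lib.FiPres.D3

open Cfsg.Lib.CosetCert

theorem steps0_ok : cert.stepsOK 0 steps0 = true ∧ ruleBound spec.length steps0 = true := by decide +kernel

theorem steps1_ok : cert.stepsOK 256 steps1 = true ∧ ruleBound spec.length steps1 = true := by decide +kernel

def cat0x0_0 : List (ℕ × ℕ) := steps0 ++ steps1

theorem cat0x0_0_ok : cert.stepsOK 0 cat0x0_0 = true ∧ ruleBound spec.length cat0x0_0 = true :=
  stepsOK_cat steps0_ok steps1_ok (by decide +kernel)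

theorem spec_ok : cert.rotsOK rels spec = true := by decide +kernel

theorem tab_ok : cert.tabOK cat0x0_0.length = true := by decide +kernel

theorem valid : cert.Valid rels :=
  ⟨by decide, spec, cat0x0_0, spec_ok, cat0x0_0_ok.1, cat0x0_0_ok.2, tab_ok⟩

theorem fins_length : cert.fin.length = 63 := by rw [Cert.fin, List.length_map, List.length_range]; rfl

end Cfsg.Lib.FiPres.D3
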