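import Cfsg.Agent.FiPres.D4Data

/-!
The certificate is valid.
-/

set_option autoImplicit false

namespace Cfsg.Lib.FiPres.D4

open Cfsg.Lib.CosetCert

theorem steps48_ok : cert.stepsOK 12288 steps48 = true ∧ ruleBound spec.length steps48 = true := by decide +kernel

theorem steps49_ok : cert.stepsOK 12544 steps49 = true ∧ ruleBound spec.length steps49 = true := by decide +kernel

theorem steps50_ok : cert.stepsOK 12800 steps50 = true ∧ ruleBound spec.length steps50 = true := by decide +kernel

theorem steps51_ok : cert.stepsOK 13056 steps51 = true ∧ ruleBound spec.length steps51 = true := by decide +kernel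

theorem steps52_ok : cert.stepsOK 13312 steps52 = true ∧ ruleBound spec.length steps52 = true := by decide +kernel

theorem steps53_ok : cert.stepsOK 13568 steps53 = true ∧ ruleBound spec.length steps53 = true := by decide +kernel

theorem steps54_ok : cert.stepsOK 13824 steps54 = true ∧ ruleBound spec.length steps54 = true := by decide +kernel

theorem steps55_ok : cert.stepsOK 14080 steps55 = true ∧ ruleBound spec.length steps55 = true := by decide +kernel

theorem steps56_ok : cert.stepsOK 14336 steps56 = true ∧ ruleBound spec.length steps56 = true := by decide +kernel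

theorem steps57_ok : cert.stepsOK 14592 steps57 = true ∧ ruleBound spec.length steps57 = true := by decide +kernel

theorem steps58_ok : cert.stepsOK 14848 steps58 = true ∧ ruleBound spec.length steps58 = true := by decide +kernel

theorem steps59_ok : cert.stepsOK 15104 steps59 = true ∧ ruleBound spec.length steps59 = true := by decide +kernel

theorem steps60_ok : cert.stepsOK 15360 steps60 = true ∧ ruleBound spec.length steps60 = true := by decide +kernel

theorem steps61_ok : cert.stepsOK 15616 steps61 = true ∧ ruleBound spec.length steps61 = true := by decide +kernel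

theorem steps62_ok : cert.stepsOK 15872 steps62 = true ∧ ruleBound spec.length steps62 = true := by decide +kernel

theorem steps63_ok : cert.stepsOK 16128 steps63 = true ∧ ruleBound spec.length steps63 = true := by decide +kernel

theorem steps64_ok : cert.stepsOK 16384 steps64 = true ∧ ruleBound spec.length steps64 = true := by decide +kernel

theorem steps65_ok : cert.stepsOK 16640 steps65 = true ∧ ruleBound spec.length steps65 = true := by decide +kernel

theorem steps66_ok : cert.stepsOK 16896 steps66 = true ∧ ruleBound spec.length steps66 = true := by decide +kernel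

theorem steps67_ok : cert.stepsOK 17152 steps67 = true ∧ ruleBound spec.length steps67 = true := by decide +kernel

theorem steps68_ok : cert.stepsOK 17408 steps68 = true ∧ ruleBound spec.length steps68 = true := by decide +kernel

theorem steps69_ok : cert.stepsOK 17664 steps69 = true ∧ ruleBound spec.length steps69 = true := by decide +kernel

theorem steps70_ok : cert.stepsOK 17920 steps70 = true ∧ ruleBound spec.length steps70 = true := by decide +kernel

theorem steps71_ok : cert.stepsOK 18176 steps71 = true ∧ ruleBound spec.length steps71 = true := by decide +kernel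

theorem steps72_ok : cert.stepsOK 18432 steps72 = true ∧ ruleBound spec.length steps72 = true := by decide +kernel

theorem steps73_ok : cert.stepsOK 18688 steps73 = true ∧ ruleBound spec.length steps73 = true := by decide +kernel

theorem steps74_ok : cert.stepsOK 18944 steps74 = true ∧ ruleBound spec.length steps74 = true := by decide +kernel

theorem steps75_ok : cert.stepsOK 19200 steps75 = true ∧ ruleBound spec.length steps75 = true := by decide +kernel

theorem steps76_ok : cert.stepsOK 19456 steps76 = true ∧ ruleBound spec.length steps76 = true := by decide +kernel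

theorem steps77_ok : cert.stepsOK 19712 steps77 = true ∧ ruleBound spec.length steps77 = true := by decide +kernel

theorem steps78_ok : cert.stepsOK 19968 steps78 = true ∧ ruleBound spec.length steps78 = true := by decide +kernel

theorem steps79_ok : cert.stepsOK 20224 steps79 = true ∧ ruleBound spec.length steps79 = true := by decide +kernel

theorem steps80_ok : cert.stepsOK 20480 steps80 = true ∧ ruleBound spec.length steps80 = true := by decide +kernel

theorem steps81_ok : cert.stepsOK 20736 steps81 = true ∧ ruleBound spec.length steps81 = true := by decide +kernel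

theorem steps82_ok : cert.stepsOK 20992 steps82 = true ∧ ruleBound spec.length steps82 = true := by decide +kernel

theorem steps83_ok : cert.stepsOK 21248 steps83 = true ∧ ruleBound spec.length steps83 = true := by decide +kernel

theorem steps84_ok : cert.stepsOK 21504 steps84 = true ∧ ruleBound spec.length steps84 = true := by decide +kernel

theorem steps85_ok : cert.stepsOK 21760 steps85 = true ∧ ruleBound spec.length steps85 = true := by decide +kernel

theorem steps86_ok : cert.stepsOK 22016 steps86 = true ∧ ruleBound spec.length steps86 = true := by decide +kernel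

theorem steps87_ok : cert.stepsOK 22272 steps87 = true ∧ ruleBound spec.length steps87 = true := by decide +kernel

theorem steps88_ok : cert.stepsOK 22528 steps88 = true ∧ ruleBound spec.length steps88 = true := by decide +kernel

theorem steps89_ok : cert.stepsOK 22784 steps89 = true ∧ ruleBound spec.length steps89 = true := by decide +kernel

theorem steps90_ok : cert.stepsOK 23040 steps90 = true ∧ ruleBound spec.length steps90 = true := by decide +kernel

theorem steps91_ok : cert.stepsOK 23296 steps91 = true ∧ ruleBound spec.length steps91 = true := by decide +kernel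

theorem steps92_ok : cert.stepsOK 23552 steps92 = true ∧ ruleBound spec.length steps92 = true := by decide +kernel

theorem steps93_ok : cert.stepsOK 23808 steps93 = true ∧ ruleBound spec.length steps93 = true := by decide +kernel

theorem steps94_ok : cert.stepsOK 24064 steps94 = true ∧ ruleBound spec.length steps94 = true := by decide +kernel

theorem steps95_ok : cert.stepsOK 24320 steps95 = true ∧ ruleBound spec.length steps95 = true := by decide +kernel

def cat1x0_0 : List (ℕ × ℕ) := steps48 ++ steps49

theorem cat1x0_0_ok : cert.stepsOK 12288 cat1x0_0 = true ∧ ruleBound spec.length cat1x0_0 = true :=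
  stepsOK_cat steps48_ok steps49_ok (by decide +kernel)

def cat1x0_1 : List (ℕ × ℕ) := steps50 ++ steps51

theorem cat1x0_1_ok : cert.stepsOK 12800 cat1x0_1 = true ∧ ruleBound spec.length cat1x0_1 = true :=
  stepsOK_cat steps50_ok steps51_ok (by decide +kernel)

def cat1x0_2 : List (ℕ × ℕ) := steps52 ++ steps53

theorem cat1x0_2_ok : cert.stepsOK 13312 cat1x0_2 = true ∧ ruleBound spec.length cat1x0_2 = true :=
  stepsOK_cat steps52_ok steps53_ok (by decide +kernel)

def cat1x0_3 : List (ℕ × ℕ) := steps54 ++ steps55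

theorem cat1x0_3_ok : cert.stepsOK 13824 cat1x0_3 = true ∧ ruleBound spec.length cat1x0_3 = true :=
  stepsOK_cat steps54_ok steps55_ok (by decide +kernel)

def cat1x0_4 : List (ℕ × ℕ) := steps56 ++ steps57

theorem cat1x0_4_ok : cert.stepsOK 14336 cat1x0_4 = true ∧ ruleBound spec.length cat1x0_4 = true :=
  stepsOK_cat steps56_ok steps57_ok (by decide +kernel)

def cat1x0_5 : List (ℕ × ℕ) := steps58 ++ steps59

theorem cat1x0_5_ok : cert.stepsOK 14848 cat1x0_5 = true ∧ ruleBound spec.length cat1x0_5 = true :=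
  stepsOK_cat steps58_ok steps59_ok (by decide +kernel)

def cat1x0_6 : List (ℕ × ℕ) := steps60 ++ steps61

theorem cat1x0_6_ok : cert.stepsOK 15360 cat1x0_6 = true ∧ ruleBound spec.length cat1x0_6 = true :=
  stepsOK_cat steps60_ok steps61_ok (by decide +kernel)

def cat1x0_7 : List (ℕ × ℕ) := steps62 ++ steps63

theorem cat1x0_7_ok : cert.stepsOK 15872 cat1x0_7 = true ∧ ruleBound spec.length cat1x0_7 = true :=
  stepsOK_cat steps62_ok steps63_ok (by decide +kernel)

def cat1x0_8 : List (ℕ × ℕ) := steps64 ++ steps65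

theorem cat1x0_8_ok : cert.stepsOK 16384 cat1x0_8 = true ∧ ruleBound spec.length cat1x0_8 = true :=
  stepsOK_cat steps64_ok steps65_ok (by decide +kernel)

def cat1x0_9 : List (ℕ × ℕ) := steps66 ++ steps67

theorem cat1x0_9_ok : cert.stepsOK 16896 cat1x0_9 = true ∧ ruleBound spec.length cat1x0_9 = true :=
  stepsOK_cat steps66_ok steps67_ok (by decide +kernel)

def cat1x0_10 : List (ℕ × ℕ) := steps68 ++ steps69

theorem cat1x0_10_ok : cert.stepsOK 17408 cat1x0_10 = true ∧ ruleBound spec.length cat1x0_10 = true :=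
  stepsOK_cat steps68_ok steps69_ok (by decide +kernel)

def cat1x0_11 : List (ℕ × ℕ) := steps70 ++ steps71

theorem cat1x0_11_ok : cert.stepsOK 17920 cat1x0_11 = true ∧ ruleBound spec.length cat1x0_11 = true :=
  stepsOK_cat steps70_ok steps71_ok (by decide +kernel)

def cat1x0_12 : List (ℕ × ℕ) := steps72 ++ steps73

theorem cat1x0_12_ok : cert.stepsOK 18432 cat1x0_12 = true ∧ ruleBound spec.length cat1x0_12 = true :=
  stepsOK_cat steps72_ok steps73_ok (by decide +kernel)

def cat1x0_13 : List (ℕ × ℕ) := steps74 ++ steps75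

theorem cat1x0_13_ok : cert.stepsOK 18944 cat1x0_13 = true ∧ ruleBound spec.length cat1x0_13 = true :=
  stepsOK_cat steps74_ok steps75_ok (by decide +kernel)

def cat1x0_14 : List (ℕ × ℕ) := steps76 ++ steps77

theorem cat1x0_14_ok : cert.stepsOK 19456 cat1x0_14 = true ∧ ruleBound spec.length cat1x0_14 = true :=
  stepsOK_cat steps76_ok steps77_ok (by decide +kernel)

def cat1x0_15 : List (ℕ × ℕ) := steps78 ++ steps79

theorem cat1x0_15_ok : cert.stepsOK 19968 cat1x0_15 = true ∧ ruleBound spec.length cat1x0_15 = true :=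
  stepsOK_cat steps78_ok steps79_ok (by decide +kernel)

def cat1x0_16 : List (ℕ × ℕ) := steps80 ++ steps81

theorem cat1x0_16_ok : cert.stepsOK 20480 cat1x0_16 = true ∧ ruleBound spec.length cat1x0_16 = true :=
  stepsOK_cat steps80_ok steps81_ok (by decide +kernel)

def cat1x0_17 : List (ℕ × ℕ) := steps82 ++ steps83

theorem cat1x0_17_ok : cert.stepsOK 20992 cat1x0_17 = true ∧ ruleBound spec.length cat1x0_17 = true :=
  stepsOK_cat steps82_ok steps83_ok (by decide +kernel)

def cat1x0_18 : List (ℕ × ℕ) := steps84 ++ steps85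

theorem cat1x0_18_ok : cert.stepsOK 21504 cat1x0_18 = true ∧ ruleBound spec.length cat1x0_18 = true :=
  stepsOK_cat steps84_ok steps85_ok (by decide +kernel)

def cat1x0_19 : List (ℕ × ℕ) := steps86 ++ steps87

theorem cat1x0_19_ok : cert.stepsOK 22016 cat1x0_19 = true ∧ ruleBound spec.length cat1x0_19 = true :=
  stepsOK_cat steps86_ok steps87_ok (by decide +kernel)

def cat1x0_20 : List (ℕ × ℕ) := steps88 ++ steps89

theorem cat1x0_20_ok : cert.stepsOK 22528 cat1x0_20 = true ∧ ruleBound spec.length cat1x0_20 = true :=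
  stepsOK_cat steps88_ok steps89_ok (by decide +kernel)

def cat1x0_21 : List (ℕ × ℕ) := steps90 ++ steps91

theorem cat1x0_21_ok : cert.stepsOK 23040 cat1x0_21 = true ∧ ruleBound spec.length cat1x0_21 = true :=
  stepsOK_cat steps90_ok steps91_ok (by decide +kernel)

def cat1x0_22 : List (ℕ × ℕ) := steps92 ++ steps93

theorem cat1x0_22_ok : cert.stepsOK 23552 cat1x0_22 = true ∧ ruleBound spec.length cat1x0_22 = true :=
  stepsOK_cat steps92_ok steps93_ok (by decide +kernel)

def cat1x0_23 : List (ℕ × ℕ) := steps94 ++ steps95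

theorem cat1x0_23_ok : cert.stepsOK 24064 cat1x0_23 = true ∧ ruleBound spec.length cat1x0_23 = true :=
  stepsOK_cat steps94_ok steps95_ok (by decide +kernel)

def cat1x1_0 : List (ℕ × ℕ) := cat1x0_0 ++ cat1x0_1

theorem cat1x1_0_ok : cert.stepsOK 12288 cat1x1_0 = true ∧ ruleBound spec.length cat1x1_0 = true :=
  stepsOK_cat cat1x0_0_ok cat1x0_1_ok (by decide +kernel)

def cat1x1_1 : List (ℕ × ℕ) := cat1x0_2 ++ cat1x0_3

theorem cat1x1_1_ok : cert.stepsOK 13312 cat1x1_1 = true ∧ ruleBound spec.length cat1x1_1 = true :=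
  stepsOK_cat cat1x0_2_ok cat1x0_3_ok (by decide +kernel)

def cat1x1_2 : List (ℕ × ℕ) := cat1x0_4 ++ cat1x0_5

theorem cat1x1_2_ok : cert.stepsOK 14336 cat1x1_2 = true ∧ ruleBound spec.length cat1x1_2 = true :=
  stepsOK_cat cat1x0_4_ok cat1x0_5_ok (by decide +kernel)

def cat1x1_3 : List (ℕ × ℕ) := cat1x0_6 ++ cat1x0_7

theorem cat1x1_3_ok : cert.stepsOK 15360 cat1x1_3 = true ∧ ruleBound spec.length cat1x1_3 = true :=
  stepsOK_cat cat1x0_6_ok cat1x0_7_ok (by decide +kernel)

def cat1x1_4 : List (ℕ × ℕ) := cat1x0_8 ++ cat1x0_9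

theorem cat1x1_4_ok : cert.stepsOK 16384 cat1x1_4 = true ∧ ruleBound spec.length cat1x1_4 = true :=
  stepsOK_cat cat1x0_8_ok cat1x0_9_ok (by decide +kernel)

def cat1x1_5 : List (ℕ × ℕ) := cat1x0_10 ++ cat1x0_11

theorem cat1x1_5_ok : cert.stepsOK 17408 cat1x1_5 = true ∧ ruleBound spec.length cat1x1_5 = true :=
  stepsOK_cat cat1x0_10_ok cat1x0_11_ok (by decide +kernel)

def cat1x1_6 : List (ℕ × ℕ) := cat1x0_12 ++ cat1x0_13

theorem cat1x1_6_ok : cert.stepsOK 18432 cat1x1_6 = true ∧ ruleBound spec.length cat1x1_6 = true :=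
  stepsOK_cat cat1x0_12_ok cat1x0_13_ok (by decide +kernel)

def cat1x1_7 : List (ℕ × ℕ) := cat1x0_14 ++ cat1x0_15

theorem cat1x1_7_ok : cert.stepsOK 19456 cat1x1_7 = true ∧ ruleBound spec.length cat1x1_7 = true :=
  stepsOK_cat cat1x0_14_ok cat1x0_15_ok (by decide +kernel)

def cat1x1_8 : List (ℕ × ℕ) := cat1x0_16 ++ cat1x0_17

theorem cat1x1_8_ok : cert.stepsOK 20480 cat1x1_8 = true ∧ ruleBound spec.length cat1x1_8 = true :=
  stepsOK_cat cat1x0_16_ok cat1x0_17_ok (by decide +kernel)

def cat1x1_9 : List (ℕ × ℕ) := cat1x0_18 ++ cat1x0_19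

theorem cat1x1_9_ok : cert.stepsOK 21504 cat1x1_9 = true ∧ ruleBound spec.length cat1x1_9 = true :=
  stepsOK_cat cat1x0_18_ok cat1x0_19_ok (by decide +kernel)

def cat1x1_10 : List (ℕ × ℕ) := cat1x0_20 ++ cat1x0_21

theorem cat1x1_10_ok : cert.stepsOK 22528 cat1x1_10 = true ∧ ruleBound spec.length cat1x1_10 = true :=
  stepsOK_cat cat1x0_20_ok cat1x0_21_ok (by decide +kernel)

def cat1x1_11 : List (ℕ × ℕ) := cat1x0_22 ++ cat1x0_23

theorem cat1x1_11_ok : cert.stepsOK 23552 cat1x1_11 = true ∧ ruleBound spec.length cat1x1_11 = true :=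
  stepsOK_cat cat1x0_22_ok cat1x0_23_ok (by decide +kernel)

def cat1x2_0 : List (ℕ × ℕ) := cat1x1_0 ++ cat1x1_1

theorem cat1x2_0_ok : cert.stepsOK 12288 cat1x2_0 = true ∧ ruleBound spec.length cat1x2_0 = true :=
  stepsOK_cat cat1x1_0_ok cat1x1_1_ok (by decide +kernel)

def cat1x2_1 : List (ℕ × ℕ) := cat1x1_2 ++ cat1x1_3

theorem cat1x2_1_ok : cert.stepsOK 14336 cat1x2_1 = true ∧ ruleBound spec.length cat1x2_1 = true :=
  stepsOK_cat cat1x1_2_ok cat1x1_3_ok (by decide +kernel)

def cat1x2_2 : List (ℕ × ℕ) := cat1x1_4 ++ cat1x1_5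

theorem cat1x2_2_ok : cert.stepsOK 16384 cat1x2_2 = true ∧ ruleBound spec.length cat1x2_2 = true :=
  stepsOK_cat cat1x1_4_ok cat1x1_5_ok (by decide +kernel)

def cat1x2_3 : List (ℕ × ℕ) := cat1x1_6 ++ cat1x1_7

theorem cat1x2_3_ok : cert.stepsOK 18432 cat1x2_3 = true ∧ ruleBound spec.length cat1x2_3 = true :=
  stepsOK_cat cat1x1_6_ok cat1x1_7_ok (by decide +kernel)

def cat1x2_4 : List (ℕ × ℕ) := cat1x1_8 ++ cat1x1_9

theorem cat1x2_4_ok : cert.stepsOK 20480 cat1x2_4 = true ∧ ruleBound spec.length cat1x2_4 = true :=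
  stepsOK_cat cat1x1_8_ok cat1x1_9_ok (by decide +kernel)

def cat1x2_5 : List (ℕ × ℕ) := cat1x1_10 ++ cat1x1_11

theorem cat1x2_5_ok : cert.stepsOK 22528 cat1x2_5 = true ∧ ruleBound spec.length cat1x2_5 = true :=
  stepsOK_cat cat1x1_10_ok cat1x1_11_ok (by decide +kernel)

def cat1x3_0 : List (ℕ × ℕ) := cat1x2_0 ++ cat1x2_1

theorem cat1x3_0_ok : cert.stepsOK 12288 cat1x3_0 = true ∧ ruleBound spec.length cat1x3_0 = true :=
  stepsOK_cat cat1x2_0_ok cat1x2_1_ok (by decide +kernel)

def cat1x3_1 : List (ℕ × ℕ) := cat1x2_2 ++ cat1x2_3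

theorem cat1x3_1_ok : cert.stepsOK 16384 cat1x3_1 = true ∧ ruleBound spec.length cat1x3_1 = true :=
  stepsOK_cat cat1x2_2_ok cat1x2_3_ok (by decide +kernel)

def cat1x3_2 : List (ℕ × ℕ) := cat1x2_4 ++ cat1x2_5

theorem cat1x3_2_ok : cert.stepsOK 20480 cat1x3_2 = true ∧ ruleBound spec.length cat1x3_2 = true :=
  stepsOK_cat cat1x2_4_ok cat1x2_5_ok (by decide +kernel)

def cat1x4_0 : List (ℕ × ℕ) := cat1x3_0 ++ cat1x3_1

theorem cat1x4_0_ok : cert.stepsOK 12288 cat1x4_0 = true ∧ ruleBound spec.length cat1x4_0 = true :=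
  stepsOK_cat cat1x3_0_ok cat1x3_1_ok (by decide +kernel)

def cat1x5_0 : List (ℕ × ℕ) := cat1x4_0 ++ cat1x3_2

theorem cat1x5_0_ok : cert.stepsOK 12288 cat1x5_0 = true ∧ ruleBound spec.length cat1x5_0 = true :=
  stepsOK_cat cat1x4_0_ok cat1x3_2_ok (by decide +kernel)

end Cfsg.Lib.FiPres.D4
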