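import Cfsg.Agent.FiPres.D4Part0
import Cfsg.Agent.FiPres.D4Part1

/-!
The certificate is valid.
-/

set_option autoImplicit false

namespace Cfsg.Lib.FiPres.D4

open Cfsg.Lib.CosetCert

def top0_0 : List (ℕ × ℕ) := cat0x5_0 ++ cat1x5_0

theorem top0_0_ok : cert.stepsOK 0 top0_0 = true ∧ ruleBound spec.length top0_0 = true :=
  stepsOK_cat cat0x5_0_ok cat1x5_0_ok (by decide +kernel)

theorem spec_ok : cert.rotsOK rels spec = true := by decide +kernel

theorem tab_ok : cert.tabOK top0_0.length = true := by decide +kernel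

theorem valid : cert.Valid rels :=
  ⟨by decide, spec, top0_0, spec_ok, top0_0_ok.1, top0_0_ok.2, tab_ok⟩

theorem fins_length : cert.fin.length = 3159 := by rw [Cert.fin, List.length_map, List.length_range]; rfl

end Cfsg.Lib.FiPres.D4
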