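import Cfsg.Agent.FiPres.D5Data

/-!
The certificate is valid.
-/

set_option autoImplicit false

namespace Cfsg.Lib.FiPres.D5

open Cfsg.Lib.CosetCert

theorem steps49_ok : cert.stepsOK 12544 steps49 = true ∧ ruleBound spec.length steps49 = true := by decide +kernel

theorem steps50_ok : cert.stepsOK 12800 steps50 = true ∧ ruleBound spec.length steps50 = true := by decide +kernel

theorem steps51_ok : cert.stepsOK 13056 steps51 = true ∧ ruleBound spec.length steps51 = true := by decide +kernel

theorem steps52_ok : cert.stepsOK 13312 steps52 = true ∧ ruleBound spec.length steps52 = true := by decide +kernel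

theorem steps53_ok : cert.stepsOK 13568 steps53 = true ∧ ruleBound spec.length steps53 = true := by decide +kernel

theorem steps54_ok : cert.stepsOK 13824 steps54 = true ∧ ruleBound spec.length steps54 = true := by decide +kernel

theorem steps55_ok : cert.stepsOK 14080 steps55 = true ∧ ruleBound spec.length steps55 = true := by decide +kernel

theorem steps56_ok : cert.stepsOK 14336 steps56 = true ∧ ruleBound spec.length steps56 = true := by decide +kernel

theorem steps57_ok : cert.stepsOK 14592 steps57 = true ∧ ruleBound spec.length steps57 = true := by decide +kernel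

theorem steps58_ok : cert.stepsOK 14848 steps58 = true ∧ ruleBound spec.length steps58 = true := by decide +kernel

theorem steps59_ok : cert.stepsOK 15104 steps59 = true ∧ ruleBound spec.length steps59 = true := by decide +kernel

theorem steps60_ok : cert.stepsOK 15360 steps60 = true ∧ ruleBound spec.length steps60 = true := by decide +kernel

theorem steps61_ok : cert.stepsOK 15616 steps61 = true ∧ ruleBound spec.length steps61 = true := by decide +kernel

theorem steps62_ok : cert.stepsOK 15872 steps62 = true ∧ ruleBound spec.length steps62 = true := by decide +kernel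

theorem steps63_ok : cert.stepsOK 16128 steps63 = true ∧ ruleBound spec.length steps63 = true := by decide +kernel

theorem steps64_ok : cert.stepsOK 16384 steps64 = true ∧ ruleBound spec.length steps64 = true := by decide +kernel

theorem steps65_ok : cert.stepsOK 16640 steps65 = true ∧ ruleBound spec.length steps65 = true := by decide +kernel

theorem steps66_ok : cert.stepsOK 16896 steps66 = true ∧ ruleBound spec.length steps66 = true := by decide +kernel

theorem steps67_ok : cert.stepsOK 17152 steps67 = true ∧ ruleBound spec.length steps67 = true := by decide +kernel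

theorem steps68_ok : cert.stepsOK 17408 steps68 = true ∧ ruleBound spec.length steps68 = true := by decide +kernel

theorem steps69_ok : cert.stepsOK 17664 steps69 = true ∧ ruleBound spec.length steps69 = true := by decide +kernel

theorem steps70_ok : cert.stepsOK 17920 steps70 = true ∧ ruleBound spec.length steps70 = true := by decide +kernel

theorem steps71_ok : cert.stepsOK 18176 steps71 = true ∧ ruleBound spec.length steps71 = true := by decide +kernel

theorem steps72_ok : cert.stepsOK 18432 steps72 = true ∧ ruleBound spec.length steps72 = true := by decide +kernel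

theorem steps73_ok : cert.stepsOK 18688 steps73 = true ∧ ruleBound spec.length steps73 = true := by decide +kernel

theorem steps74_ok : cert.stepsOK 18944 steps74 = true ∧ ruleBound spec.length steps74 = true := by decide +kernel

theorem steps75_ok : cert.stepsOK 19200 steps75 = true ∧ ruleBound spec.length steps75 = true := by decide +kernel

theorem steps76_ok : cert.stepsOK 19456 steps76 = true ∧ ruleBound spec.length steps76 = true := by decide +kernel

theorem steps77_ok : cert.stepsOK 19712 steps77 = true ∧ ruleBound spec.length steps77 = true := by decide +kernel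

theorem steps78_ok : cert.stepsOK 19968 steps78 = true ∧ ruleBound spec.length steps78 = true := by decide +kernel

theorem steps79_ok : cert.stepsOK 20224 steps79 = true ∧ ruleBound spec.length steps79 = true := by decide +kernel

theorem steps80_ok : cert.stepsOK 20480 steps80 = true ∧ ruleBound spec.length steps80 = true := by decide +kernel

theorem steps81_ok : cert.stepsOK 20736 steps81 = true ∧ ruleBound spec.length steps81 = true := by decide +kernel

theorem steps82_ok : cert.stepsOK 20992 steps82 = true ∧ ruleBound spec.length steps82 = true := by decide +kernel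

theorem steps83_ok : cert.stepsOK 21248 steps83 = true ∧ ruleBound spec.length steps83 = true := by decide +kernel

theorem steps84_ok : cert.stepsOK 21504 steps84 = true ∧ ruleBound spec.length steps84 = true := by decide +kernel

theorem steps85_ok : cert.stepsOK 21760 steps85 = true ∧ ruleBound spec.length steps85 = true := by decide +kernel

theorem steps86_ok : cert.stepsOK 22016 steps86 = true ∧ ruleBound spec.length steps86 = true := by decide +kernel

theorem steps87_ok : cert.stepsOK 22272 steps87 = true ∧ ruleBound spec.length steps87 = true := by decide +kernel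

theorem steps88_ok : cert.stepsOK 22528 steps88 = true ∧ ruleBound spec.length steps88 = true := by decide +kernel

theorem steps89_ok : cert.stepsOK 22784 steps89 = true ∧ ruleBound spec.length steps89 = true := by decide +kernel

theorem steps90_ok : cert.stepsOK 23040 steps90 = true ∧ ruleBound spec.length steps90 = true := by decide +kernel

theorem steps91_ok : cert.stepsOK 23296 steps91 = true ∧ ruleBound spec.length steps91 = true := by decide +kernel

theorem steps92_ok : cert.stepsOK 23552 steps92 = true ∧ ruleBound spec.length steps92 = true := by decide +kernel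

theorem steps93_ok : cert.stepsOK 23808 steps93 = true ∧ ruleBound spec.length steps93 = true := by decide +kernel

theorem steps94_ok : cert.stepsOK 24064 steps94 = true ∧ ruleBound spec.length steps94 = true := by decide +kernel

theorem steps95_ok : cert.stepsOK 24320 steps95 = true ∧ ruleBound spec.length steps95 = true := by decide +kernel

theorem steps96_ok : cert.stepsOK 24576 steps96 = true ∧ ruleBound spec.length steps96 = true := by decide +kernel

theorem steps97_ok : cert.stepsOK 24832 steps97 = true ∧ ruleBound spec.length steps97 = true := by decide +kernel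

def cat1x0_0 : List (ℕ × ℕ) := steps49 ++ steps50

theorem cat1x0_0_ok : cert.stepsOK 12544 cat1x0_0 = true ∧ ruleBound spec.length cat1x0_0 = true :=
  stepsOK_cat steps49_ok steps50_ok (by decide +kernel)

def cat1x0_1 : List (ℕ × ℕ) := steps51 ++ steps52

theorem cat1x0_1_ok : cert.stepsOK 13056 cat1x0_1 = true ∧ ruleBound spec.length cat1x0_1 = true :=
  stepsOK_cat steps51_ok steps52_ok (by decide +kernel)

def cat1x0_2 : List (ℕ × ℕ) := steps53 ++ steps54

theorem cat1x0_2_ok : cert.stepsOK 13568 cat1x0_2 = true ∧ ruleBound spec.length cat1x0_2 = true :=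
  stepsOK_cat steps53_ok steps54_ok (by decide +kernel)

def cat1x0_3 : List (ℕ × ℕ) := steps55 ++ steps56

theorem cat1x0_3_ok : cert.stepsOK 14080 cat1x0_3 = true ∧ ruleBound spec.length cat1x0_3 = true :=
  stepsOK_cat steps55_ok steps56_ok (by decide +kernel)

def cat1x0_4 : List (ℕ × ℕ) := steps57 ++ steps58

theorem cat1x0_4_ok : cert.stepsOK 14592 cat1x0_4 = true ∧ ruleBound spec.length cat1x0_4 = true :=
  stepsOK_cat steps57_ok steps58_ok (by decide +kernel)

def cat1x0_5 : List (ℕ × ℕ) := steps59 ++ steps60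

theorem cat1x0_5_ok : cert.stepsOK 15104 cat1x0_5 = true ∧ ruleBound spec.length cat1x0_5 = true :=
  stepsOK_cat steps59_ok steps60_ok (by decide +kernel)

def cat1x0_6 : List (ℕ × ℕ) := steps61 ++ steps62

theorem cat1x0_6_ok : cert.stepsOK 15616 cat1x0_6 = true ∧ ruleBound spec.length cat1x0_6 = true :=
  stepsOK_cat steps61_ok steps62_ok (by decide +kernel)

def cat1x0_7 : List (ℕ × ℕ) := steps63 ++ steps64

theorem cat1x0_7_ok : cert.stepsOK 16128 cat1x0_7 = true ∧ ruleBound spec.length cat1x0_7 = true :=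
  stepsOK_cat steps63_ok steps64_ok (by decide +kernel)

def cat1x0_8 : List (ℕ × ℕ) := steps65 ++ steps66

theorem cat1x0_8_ok : cert.stepsOK 16640 cat1x0_8 = true ∧ ruleBound spec.length cat1x0_8 = true :=
  stepsOK_cat steps65_ok steps66_ok (by decide +kernel)

def cat1x0_9 : List (ℕ × ℕ) := steps67 ++ steps68

theorem cat1x0_9_ok : cert.stepsOK 17152 cat1x0_9 = true ∧ ruleBound spec.length cat1x0_9 = true :=
  stepsOK_cat steps67_ok steps68_ok (by decide +kernel)

def cat1x0_10 : List (ℕ × ℕ) := steps69 ++ steps70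

theorem cat1x0_10_ok : cert.stepsOK 17664 cat1x0_10 = true ∧ ruleBound spec.length cat1x0_10 = true :=
  stepsOK_cat steps69_ok steps70_ok (by decide +kernel)

def cat1x0_11 : List (ℕ × ℕ) := steps71 ++ steps72

theorem cat1x0_11_ok : cert.stepsOK 18176 cat1x0_11 = true ∧ ruleBound spec.length cat1x0_11 = true :=
  stepsOK_cat steps71_ok steps72_ok (by decide +kernel)

def cat1x0_12 : List (ℕ × ℕ) := steps73 ++ steps74

theorem cat1x0_12_ok : cert.stepsOK 18688 cat1x0_12 = true ∧ ruleBound spec.length cat1x0_12 = true :=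
  stepsOK_cat steps73_ok steps74_ok (by decide +kernel)

def cat1x0_13 : List (ℕ × ℕ) := steps75 ++ steps76

theorem cat1x0_13_ok : cert.stepsOK 19200 cat1x0_13 = true ∧ ruleBound spec.length cat1x0_13 = true :=
  stepsOK_cat steps75_ok steps76_ok (by decide +kernel)

def cat1x0_14 : List (ℕ × ℕ) := steps77 ++ steps78

theorem cat1x0_14_ok : cert.stepsOK 19712 cat1x0_14 = true ∧ ruleBound spec.length cat1x0_14 = true :=
  stepsOK_cat steps77_ok steps78_ok (by decide +kernel)

def cat1x0_15 : List (ℕ × ℕ) := steps79 ++ steps80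

theorem cat1x0_15_ok : cert.stepsOK 20224 cat1x0_15 = true ∧ ruleBound spec.length cat1x0_15 = true :=
  stepsOK_cat steps79_ok steps80_ok (by decide +kernel)

def cat1x0_16 : List (ℕ × ℕ) := steps81 ++ steps82

theorem cat1x0_16_ok : cert.stepsOK 20736 cat1x0_16 = true ∧ ruleBound spec.length cat1x0_16 = true :=
  stepsOK_cat steps81_ok steps82_ok (by decide +kernel)

def cat1x0_17 : List (ℕ × ℕ) := steps83 ++ steps84

theorem cat1x0_17_ok : cert.stepsOK 21248 cat1x0_17 = true ∧ ruleBound spec.length cat1x0_17 = true :=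
  stepsOK_cat steps83_ok steps84_ok (by decide +kernel)

def cat1x0_18 : List (ℕ × ℕ) := steps85 ++ steps86

theorem cat1x0_18_ok : cert.stepsOK 21760 cat1x0_18 = true ∧ ruleBound spec.length cat1x0_18 = true :=
  stepsOK_cat steps85_ok steps86_ok (by decide +kernel)

def cat1x0_19 : List (ℕ × ℕ) := steps87 ++ steps88

theorem cat1x0_19_ok : cert.stepsOK 22272 cat1x0_19 = true ∧ ruleBound spec.length cat1x0_19 = true :=
  stepsOK_cat steps87_ok steps88_ok (by decide +kernel)

def cat1x0_20 : List (ℕ × ℕ) := steps89 ++ steps90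

theorem cat1x0_20_ok : cert.stepsOK 22784 cat1x0_20 = true ∧ ruleBound spec.length cat1x0_20 = true :=
  stepsOK_cat steps89_ok steps90_ok (by decide +kernel)

def cat1x0_21 : List (ℕ × ℕ) := steps91 ++ steps92

theorem cat1x0_21_ok : cert.stepsOK 23296 cat1x0_21 = true ∧ ruleBound spec.length cat1x0_21 = true :=
  stepsOK_cat steps91_ok steps92_ok (by decide +kernel)

def cat1x0_22 : List (ℕ × ℕ) := steps93 ++ steps94

theorem cat1x0_22_ok : cert.stepsOK 23808 cat1x0_22 = true ∧ ruleBound spec.length cat1x0_22 = true :=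
  stepsOK_cat steps93_ok steps94_ok (by decide +kernel)

def cat1x0_23 : List (ℕ × ℕ) := steps95 ++ steps96

theorem cat1x0_23_ok : cert.stepsOK 24320 cat1x0_23 = true ∧ ruleBound spec.length cat1x0_23 = true :=
  stepsOK_cat steps95_ok steps96_ok (by decide +kernel)

def cat1x1_0 : List (ℕ × ℕ) := cat1x0_0 ++ cat1x0_1

theorem cat1x1_0_ok : cert.stepsOK 12544 cat1x1_0 = true ∧ ruleBound spec.length cat1x1_0 = true :=
  stepsOK_cat cat1x0_0_ok cat1x0_1_ok (by decide +kernel)

def cat1x1_1 : List (ℕ × ℕ) := cat1x0_2 ++ cat1x0_3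

theorem cat1x1_1_ok : cert.stepsOK 13568 cat1x1_1 = true ∧ ruleBound spec.length cat1x1_1 = true :=
  stepsOK_cat cat1x0_2_ok cat1x0_3_ok (by decide +kernel)

def cat1x1_2 : List (ℕ × ℕ) := cat1x0_4 ++ cat1x0_5

theorem cat1x1_2_ok : cert.stepsOK 14592 cat1x1_2 = true ∧ ruleBound spec.length cat1x1_2 = true :=
  stepsOK_cat cat1x0_4_ok cat1x0_5_ok (by decide +kernel)

def cat1x1_3 : List (ℕ × ℕ) := cat1x0_6 ++ cat1x0_7

theorem cat1x1_3_ok : cert.stepsOK 15616 cat1x1_3 = true ∧ ruleBound spec.length cat1x1_3 = true :=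
  stepsOK_cat cat1x0_6_ok cat1x0_7_ok (by decide +kernel)

def cat1x1_4 : List (ℕ × ℕ) := cat1x0_8 ++ cat1x0_9

theorem cat1x1_4_ok : cert.stepsOK 16640 cat1x1_4 = true ∧ ruleBound spec.length cat1x1_4 = true :=
  stepsOK_cat cat1x0_8_ok cat1x0_9_ok (by decide +kernel)

def cat1x1_5 : List (ℕ × ℕ) := cat1x0_10 ++ cat1x0_11

theorem cat1x1_5_ok : cert.stepsOK 17664 cat1x1_5 = true ∧ ruleBound spec.length cat1x1_5 = true :=
  stepsOK_cat cat1x0_10_ok cat1x0_11_ok (by decide +kernel)

def cat1x1_6 : List (ℕ × ℕ) := cat1x0_12 ++ cat1x0_13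

theorem cat1x1_6_ok : cert.stepsOK 18688 cat1x1_6 = true ∧ ruleBound spec.length cat1x1_6 = true :=
  stepsOK_cat cat1x0_12_ok cat1x0_13_ok (by decide +kernel)

def cat1x1_7 : List (ℕ × ℕ) := cat1x0_14 ++ cat1x0_15

theorem cat1x1_7_ok : cert.stepsOK 19712 cat1x1_7 = true ∧ ruleBound spec.length cat1x1_7 = true :=
  stepsOK_cat cat1x0_14_ok cat1x0_15_ok (by decide +kernel)

def cat1x1_8 : List (ℕ × ℕ) := cat1x0_16 ++ cat1x0_17

theorem cat1x1_8_ok : cert.stepsOK 20736 cat1x1_8 = true ∧ ruleBound spec.length cat1x1_8 = true :=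
  stepsOK_cat cat1x0_16_ok cat1x0_17_ok (by decide +kernel)

def cat1x1_9 : List (ℕ × ℕ) := cat1x0_18 ++ cat1x0_19

theorem cat1x1_9_ok : cert.stepsOK 21760 cat1x1_9 = true ∧ ruleBound spec.length cat1x1_9 = true :=
  stepsOK_cat cat1x0_18_ok cat1x0_19_ok (by decide +kernel)

def cat1x1_10 : List (ℕ × ℕ) := cat1x0_20 ++ cat1x0_21

theorem cat1x1_10_ok : cert.stepsOK 22784 cat1x1_10 = true ∧ ruleBound spec.length cat1x1_10 = true :=
  stepsOK_cat cat1x0_20_ok cat1x0_21_ok (by decide +kernel)

def cat1x1_11 : List (ℕ × ℕ) := cat1x0_22 ++ cat1x0_23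

theorem cat1x1_11_ok : cert.stepsOK 23808 cat1x1_11 = true ∧ ruleBound spec.length cat1x1_11 = true :=
  stepsOK_cat cat1x0_22_ok cat1x0_23_ok (by decide +kernel)

def cat1x2_0 : List (ℕ × ℕ) := cat1x1_0 ++ cat1x1_1

theorem cat1x2_0_ok : cert.stepsOK 12544 cat1x2_0 = true ∧ ruleBound spec.length cat1x2_0 = true :=
  stepsOK_cat cat1x1_0_ok cat1x1_1_ok (by decide +kernel)

def cat1x2_1 : List (ℕ × ℕ) := cat1x1_2 ++ cat1x1_3

theorem cat1x2_1_ok : cert.stepsOK 14592 cat1x2_1 = true ∧ ruleBound spec.length cat1x2_1 = true :=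
  stepsOK_cat cat1x1_2_ok cat1x1_3_ok (by decide +kernel)

def cat1x2_2 : List (ℕ × ℕ) := cat1x1_4 ++ cat1x1_5

theorem cat1x2_2_ok : cert.stepsOK 16640 cat1x2_2 = true ∧ ruleBound spec.length cat1x2_2 = true :=
  stepsOK_cat cat1x1_4_ok cat1x1_5_ok (by decide +kernel)

def cat1x2_3 : List (ℕ × ℕ) := cat1x1_6 ++ cat1x1_7

theorem cat1x2_3_ok : cert.stepsOK 18688 cat1x2_3 = true ∧ ruleBound spec.length cat1x2_3 = true :=
  stepsOK_cat cat1x1_6_ok cat1x1_7_ok (by decide +kernel)

def cat1x2_4 : List (ℕ × ℕ) := cat1x1_8 ++ cat1x1_9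

theorem cat1x2_4_ok : cert.stepsOK 20736 cat1x2_4 = true ∧ ruleBound spec.length cat1x2_4 = true :=
  stepsOK_cat cat1x1_8_ok cat1x1_9_ok (by decide +kernel)

def cat1x2_5 : List (ℕ × ℕ) := cat1x1_10 ++ cat1x1_11

theorem cat1x2_5_ok : cert.stepsOK 22784 cat1x2_5 = true ∧ ruleBound spec.length cat1x2_5 = true :=
  stepsOK_cat cat1x1_10_ok cat1x1_11_ok (by decide +kernel)

def cat1x3_0 : List (ℕ × ℕ) := cat1x2_0 ++ cat1x2_1

theorem cat1x3_0_ok : cert.stepsOK 12544 cat1x3_0 = true ∧ ruleBound spec.length cat1x3_0 = true :=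
  stepsOK_cat cat1x2_0_ok cat1x2_1_ok (by decide +kernel)

def cat1x3_1 : List (ℕ × ℕ) := cat1x2_2 ++ cat1x2_3

theorem cat1x3_1_ok : cert.stepsOK 16640 cat1x3_1 = true ∧ ruleBound spec.length cat1x3_1 = true :=
  stepsOK_cat cat1x2_2_ok cat1x2_3_ok (by decide +kernel)

def cat1x3_2 : List (ℕ × ℕ) := cat1x2_4 ++ cat1x2_5

theorem cat1x3_2_ok : cert.stepsOK 20736 cat1x3_2 = true ∧ ruleBound spec.length cat1x3_2 = true :=
  stepsOK_cat cat1x2_4_ok cat1x2_5_ok (by decide +kernel)

def cat1x4_0 : List (ℕ × ℕ) := cat1x3_0 ++ cat1x3_1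

theorem cat1x4_0_ok : cert.stepsOK 12544 cat1x4_0 = true ∧ ruleBound spec.length cat1x4_0 = true :=
  stepsOK_cat cat1x3_0_ok cat1x3_1_ok (by decide +kernel)

def cat1x4_1 : List (ℕ × ℕ) := cat1x3_2 ++ steps97

theorem cat1x4_1_ok : cert.stepsOK 20736 cat1x4_1 = true ∧ ruleBound spec.length cat1x4_1 = true :=
  stepsOK_cat cat1x3_2_ok steps97_ok (by decide +kernel)

def cat1x5_0 : List (ℕ × ℕ) := cat1x4_0 ++ cat1x4_1

theorem cat1x5_0_ok : cert.stepsOK 12544 cat1x5_0 = true ∧ ruleBound spec.length cat1x5_0 = true :=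
  stepsOK_cat cat1x4_0_ok cat1x4_1_ok (by decide +kernel)

end Cfsg.Lib.FiPres.D5
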