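import Cfsg.Agent.FiPres.D5Data

/-!
The certificate is valid.
-/

set_option autoImplicit false

namespace Cfsg.Lib.FiPres.D5

open Cfsg.Lib.CosetCert

theorem steps98_ok : cert.stepsOK 25088 steps98 = true ∧ ruleBound spec.length steps98 = true := by decide +kernel

theorem steps99_ok : cert.stepsOK 25344 steps99 = true ∧ ruleBound spec.length steps99 = true := by decide +kernel

theorem steps100_ok : cert.stepsOK 25600 steps100 = true ∧ ruleBound spec.length steps100 = true := by decide +kernel

theorem steps101_ok : cert.stepsOK 25856 steps101 = true ∧ ruleBound spec.length steps101 = true := by decide +kernel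

theorem steps102_ok : cert.stepsOK 26112 steps102 = true ∧ ruleBound spec.length steps102 = true := by decide +kernel

theorem steps103_ok : cert.stepsOK 26368 steps103 = true ∧ ruleBound spec.length steps103 = true := by decide +kernel

theorem steps104_ok : cert.stepsOK 26624 steps104 = true ∧ ruleBound spec.length steps104 = true := by decide +kernel

theorem steps105_ok : cert.stepsOK 26880 steps105 = true ∧ ruleBound spec.length steps105 = true := by decide +kernel

theorem steps106_ok : cert.stepsOK 27136 steps106 = true ∧ ruleBound spec.length steps106 = true := by decide +kernel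

theorem steps107_ok : cert.stepsOK 27392 steps107 = true ∧ ruleBound spec.length steps107 = true := by decide +kernel

theorem steps108_ok : cert.stepsOK 27648 steps108 = true ∧ ruleBound spec.length steps108 = true := by decide +kernel

theorem steps109_ok : cert.stepsOK 27904 steps109 = true ∧ ruleBound spec.length steps109 = true := by decide +kernel

theorem steps110_ok : cert.stepsOK 28160 steps110 = true ∧ ruleBound spec.length steps110 = true := by decide +kernel

theorem steps111_ok : cert.stepsOK 28416 steps111 = true ∧ ruleBound spec.length steps111 = true := by decide +kernel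

theorem steps112_ok : cert.stepsOK 28672 steps112 = true ∧ ruleBound spec.length steps112 = true := by decide +kernel

theorem steps113_ok : cert.stepsOK 28928 steps113 = true ∧ ruleBound spec.length steps113 = true := by decide +kernel

theorem steps114_ok : cert.stepsOK 29184 steps114 = true ∧ ruleBound spec.length steps114 = true := by decide +kernel

theorem steps115_ok : cert.stepsOK 29440 steps115 = true ∧ ruleBound spec.length steps115 = true := by decide +kernel

theorem steps116_ok : cert.stepsOK 29696 steps116 = true ∧ ruleBound spec.length steps116 = true := by decide +kernel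

theorem steps117_ok : cert.stepsOK 29952 steps117 = true ∧ ruleBound spec.length steps117 = true := by decide +kernel

theorem steps118_ok : cert.stepsOK 30208 steps118 = true ∧ ruleBound spec.length steps118 = true := by decide +kernel

theorem steps119_ok : cert.stepsOK 30464 steps119 = true ∧ ruleBound spec.length steps119 = true := by decide +kernel

theorem steps120_ok : cert.stepsOK 30720 steps120 = true ∧ ruleBound spec.length steps120 = true := by decide +kernel

theorem steps121_ok : cert.stepsOK 30976 steps121 = true ∧ ruleBound spec.length steps121 = true := by decide +kernel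

theorem steps122_ok : cert.stepsOK 31232 steps122 = true ∧ ruleBound spec.length steps122 = true := by decide +kernel

theorem steps123_ok : cert.stepsOK 31488 steps123 = true ∧ ruleBound spec.length steps123 = true := by decide +kernel

theorem steps124_ok : cert.stepsOK 31744 steps124 = true ∧ ruleBound spec.length steps124 = true := by decide +kernel

theorem steps125_ok : cert.stepsOK 32000 steps125 = true ∧ ruleBound spec.length steps125 = true := by decide +kernel

theorem steps126_ok : cert.stepsOK 32256 steps126 = true ∧ ruleBound spec.length steps126 = true := by decide +kernel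

theorem steps127_ok : cert.stepsOK 32512 steps127 = true ∧ ruleBound spec.length steps127 = true := by decide +kernel

theorem steps128_ok : cert.stepsOK 32768 steps128 = true ∧ ruleBound spec.length steps128 = true := by decide +kernel

theorem steps129_ok : cert.stepsOK 33024 steps129 = true ∧ ruleBound spec.length steps129 = true := by decide +kernel

theorem steps130_ok : cert.stepsOK 33280 steps130 = true ∧ ruleBound spec.length steps130 = true := by decide +kernel

theorem steps131_ok : cert.stepsOK 33536 steps131 = true ∧ ruleBound spec.length steps131 = true := by decide +kernel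

theorem steps132_ok : cert.stepsOK 33792 steps132 = true ∧ ruleBound spec.length steps132 = true := by decide +kernel

theorem steps133_ok : cert.stepsOK 34048 steps133 = true ∧ ruleBound spec.length steps133 = true := by decide +kernel

theorem steps134_ok : cert.stepsOK 34304 steps134 = true ∧ ruleBound spec.length steps134 = true := by decide +kernel

theorem steps135_ok : cert.stepsOK 34560 steps135 = true ∧ ruleBound spec.length steps135 = true := by decide +kernel

theorem steps136_ok : cert.stepsOK 34816 steps136 = true ∧ ruleBound spec.length steps136 = true := by decide +kernel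

theorem steps137_ok : cert.stepsOK 35072 steps137 = true ∧ ruleBound spec.length steps137 = true := by decide +kernel

theorem steps138_ok : cert.stepsOK 35328 steps138 = true ∧ ruleBound spec.length steps138 = true := by decide +kernel

theorem steps139_ok : cert.stepsOK 35584 steps139 = true ∧ ruleBound spec.length steps139 = true := by decide +kernel

theorem steps140_ok : cert.stepsOK 35840 steps140 = true ∧ ruleBound spec.length steps140 = true := by decide +kernel

theorem steps141_ok : cert.stepsOK 36096 steps141 = true ∧ ruleBound spec.length steps141 = true := by decide +kernel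

theorem steps142_ok : cert.stepsOK 36352 steps142 = true ∧ ruleBound spec.length steps142 = true := by decide +kernel

theorem steps143_ok : cert.stepsOK 36608 steps143 = true ∧ ruleBound spec.length steps143 = true := by decide +kernel

theorem steps144_ok : cert.stepsOK 36864 steps144 = true ∧ ruleBound spec.length steps144 = true := by decide +kernel

theorem steps145_ok : cert.stepsOK 37120 steps145 = true ∧ ruleBound spec.length steps145 = true := by decide +kernel

theorem steps146_ok : cert.stepsOK 37376 steps146 = true ∧ ruleBound spec.length steps146 = true := by decide +kernel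

def cat2x0_0 : List (ℕ × ℕ) := steps98 ++ steps99

theorem cat2x0_0_ok : cert.stepsOK 25088 cat2x0_0 = true ∧ ruleBound spec.length cat2x0_0 = true :=
  stepsOK_cat steps98_ok steps99_ok (by decide +kernel)

def cat2x0_1 : List (ℕ × ℕ) := steps100 ++ steps101

theorem cat2x0_1_ok : cert.stepsOK 25600 cat2x0_1 = true ∧ ruleBound spec.length cat2x0_1 = true :=
  stepsOK_cat steps100_ok steps101_ok (by decide +kernel)

def cat2x0_2 : List (ℕ × ℕ) := steps102 ++ steps103

theorem cat2x0_2_ok : cert.stepsOK 26112 cat2x0_2 = true ∧ ruleBound spec.length cat2x0_2 = true :=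
  stepsOK_cat steps102_ok steps103_ok (by decide +kernel)

def cat2x0_3 : List (ℕ × ℕ) := steps104 ++ steps105

theorem cat2x0_3_ok : cert.stepsOK 26624 cat2x0_3 = true ∧ ruleBound spec.length cat2x0_3 = true :=
  stepsOK_cat steps104_ok steps105_ok (by decide +kernel)

def cat2x0_4 : List (ℕ × ℕ) := steps106 ++ steps107

theorem cat2x0_4_ok : cert.stepsOK 27136 cat2x0_4 = true ∧ ruleBound spec.length cat2x0_4 = true :=
  stepsOK_cat steps106_ok steps107_ok (by decide +kernel)

def cat2x0_5 : List (ℕ × ℕ) := steps108 ++ steps109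

theorem cat2x0_5_ok : cert.stepsOK 27648 cat2x0_5 = true ∧ ruleBound spec.length cat2x0_5 = true :=
  stepsOK_cat steps108_ok steps109_ok (by decide +kernel)

def cat2x0_6 : List (ℕ × ℕ) := steps110 ++ steps111

theorem cat2x0_6_ok : cert.stepsOK 28160 cat2x0_6 = true ∧ ruleBound spec.length cat2x0_6 = true :=
  stepsOK_cat steps110_ok steps111_ok (by decide +kernel)

def cat2x0_7 : List (ℕ × ℕ) := steps112 ++ steps113

theorem cat2x0_7_ok : cert.stepsOK 28672 cat2x0_7 = true ∧ ruleBound spec.length cat2x0_7 = true :=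
  stepsOK_cat steps112_ok steps113_ok (by decide +kernel)

def cat2x0_8 : List (ℕ × ℕ) := steps114 ++ steps115

theorem cat2x0_8_ok : cert.stepsOK 29184 cat2x0_8 = true ∧ ruleBound spec.length cat2x0_8 = true :=
  stepsOK_cat steps114_ok steps115_ok (by decide +kernel)

def cat2x0_9 : List (ℕ × ℕ) := steps116 ++ steps117

theorem cat2x0_9_ok : cert.stepsOK 29696 cat2x0_9 = true ∧ ruleBound spec.length cat2x0_9 = true :=
  stepsOK_cat steps116_ok steps117_ok (by decide +kernel)

def cat2x0_10 : List (ℕ × ℕ) := steps118 ++ steps119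

theorem cat2x0_10_ok : cert.stepsOK 30208 cat2x0_10 = true ∧ ruleBound spec.length cat2x0_10 = true :=
  stepsOK_cat steps118_ok steps119_ok (by decide +kernel)

def cat2x0_11 : List (ℕ × ℕ) := steps120 ++ steps121

theorem cat2x0_11_ok : cert.stepsOK 30720 cat2x0_11 = true ∧ ruleBound spec.length cat2x0_11 = true :=
  stepsOK_cat steps120_ok steps121_ok (by decide +kernel)

def cat2x0_12 : List (ℕ × ℕ) := steps122 ++ steps123

theorem cat2x0_12_ok : cert.stepsOK 31232 cat2x0_12 = true ∧ ruleBound spec.length cat2x0_12 = true :=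
  stepsOK_cat steps122_ok steps123_ok (by decide +kernel)

def cat2x0_13 : List (ℕ × ℕ) := steps124 ++ steps125

theorem cat2x0_13_ok : cert.stepsOK 31744 cat2x0_13 = true ∧ ruleBound spec.length cat2x0_13 = true :=
  stepsOK_cat steps124_ok steps125_ok (by decide +kernel)

def cat2x0_14 : List (ℕ × ℕ) := steps126 ++ steps127

theorem cat2x0_14_ok : cert.stepsOK 32256 cat2x0_14 = true ∧ ruleBound spec.length cat2x0_14 = true :=
  stepsOK_cat steps126_ok steps127_ok (by decide +kernel)

def cat2x0_15 : List (ℕ × ℕ) := steps128 ++ steps129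

theorem cat2x0_15_ok : cert.stepsOK 32768 cat2x0_15 = true ∧ ruleBound spec.length cat2x0_15 = true :=
  stepsOK_cat steps128_ok steps129_ok (by decide +kernel)

def cat2x0_16 : List (ℕ × ℕ) := steps130 ++ steps131

theorem cat2x0_16_ok : cert.stepsOK 33280 cat2x0_16 = true ∧ ruleBound spec.length cat2x0_16 = true :=
  stepsOK_cat steps130_ok steps131_ok (by decide +kernel)

def cat2x0_17 : List (ℕ × ℕ) := steps132 ++ steps133

theorem cat2x0_17_ok : cert.stepsOK 33792 cat2x0_17 = true ∧ ruleBound spec.length cat2x0_17 = true :=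
  stepsOK_cat steps132_ok steps133_ok (by decide +kernel)

def cat2x0_18 : List (ℕ × ℕ) := steps134 ++ steps135

theorem cat2x0_18_ok : cert.stepsOK 34304 cat2x0_18 = true ∧ ruleBound spec.length cat2x0_18 = true :=
  stepsOK_cat steps134_ok steps135_ok (by decide +kernel)

def cat2x0_19 : List (ℕ × ℕ) := steps136 ++ steps137

theorem cat2x0_19_ok : cert.stepsOK 34816 cat2x0_19 = true ∧ ruleBound spec.length cat2x0_19 = true :=
  stepsOK_cat steps136_ok steps137_ok (by decide +kernel)

def cat2x0_20 : List (ℕ × ℕ) := steps138 ++ steps139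

theorem cat2x0_20_ok : cert.stepsOK 35328 cat2x0_20 = true ∧ ruleBound spec.length cat2x0_20 = true :=
  stepsOK_cat steps138_ok steps139_ok (by decide +kernel)

def cat2x0_21 : List (ℕ × ℕ) := steps140 ++ steps141

theorem cat2x0_21_ok : cert.stepsOK 35840 cat2x0_21 = true ∧ ruleBound spec.length cat2x0_21 = true :=
  stepsOK_cat steps140_ok steps141_ok (by decide +kernel)

def cat2x0_22 : List (ℕ × ℕ) := steps142 ++ steps143

theorem cat2x0_22_ok : cert.stepsOK 36352 cat2x0_22 = true ∧ ruleBound spec.length cat2x0_22 = true :=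
  stepsOK_cat steps142_ok steps143_ok (by decide +kernel)

def cat2x0_23 : List (ℕ × ℕ) := steps144 ++ steps145

theorem cat2x0_23_ok : cert.stepsOK 36864 cat2x0_23 = true ∧ ruleBound spec.length cat2x0_23 = true :=
  stepsOK_cat steps144_ok steps145_ok (by decide +kernel)

def cat2x1_0 : List (ℕ × ℕ) := cat2x0_0 ++ cat2x0_1

theorem cat2x1_0_ok : cert.stepsOK 25088 cat2x1_0 = true ∧ ruleBound spec.length cat2x1_0 = true :=
  stepsOK_cat cat2x0_0_ok cat2x0_1_ok (by decide +kernel)

def cat2x1_1 : List (ℕ × ℕ) := cat2x0_2 ++ cat2x0_3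

theorem cat2x1_1_ok : cert.stepsOK 26112 cat2x1_1 = true ∧ ruleBound spec.length cat2x1_1 = true :=
  stepsOK_cat cat2x0_2_ok cat2x0_3_ok (by decide +kernel)

def cat2x1_2 : List (ℕ × ℕ) := cat2x0_4 ++ cat2x0_5

theorem cat2x1_2_ok : cert.stepsOK 27136 cat2x1_2 = true ∧ ruleBound spec.length cat2x1_2 = true :=
  stepsOK_cat cat2x0_4_ok cat2x0_5_ok (by decide +kernel)

def cat2x1_3 : List (ℕ × ℕ) := cat2x0_6 ++ cat2x0_7

theorem cat2x1_3_ok : cert.stepsOK 28160 cat2x1_3 = true ∧ ruleBound spec.length cat2x1_3 = true :=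
  stepsOK_cat cat2x0_6_ok cat2x0_7_ok (by decide +kernel)

def cat2x1_4 : List (ℕ × ℕ) := cat2x0_8 ++ cat2x0_9

theorem cat2x1_4_ok : cert.stepsOK 29184 cat2x1_4 = true ∧ ruleBound spec.length cat2x1_4 = true :=
  stepsOK_cat cat2x0_8_ok cat2x0_9_ok (by decide +kernel)

def cat2x1_5 : List (ℕ × ℕ) := cat2x0_10 ++ cat2x0_11

theorem cat2x1_5_ok : cert.stepsOK 30208 cat2x1_5 = true ∧ ruleBound spec.length cat2x1_5 = true :=
  stepsOK_cat cat2x0_10_ok cat2x0_11_ok (by decide +kernel)

def cat2x1_6 : List (ℕ × ℕ) := cat2x0_12 ++ cat2x0_13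

theorem cat2x1_6_ok : cert.stepsOK 31232 cat2x1_6 = true ∧ ruleBound spec.length cat2x1_6 = true :=
  stepsOK_cat cat2x0_12_ok cat2x0_13_ok (by decide +kernel)

def cat2x1_7 : List (ℕ × ℕ) := cat2x0_14 ++ cat2x0_15

theorem cat2x1_7_ok : cert.stepsOK 32256 cat2x1_7 = true ∧ ruleBound spec.length cat2x1_7 = true :=
  stepsOK_cat cat2x0_14_ok cat2x0_15_ok (by decide +kernel)

def cat2x1_8 : List (ℕ × ℕ) := cat2x0_16 ++ cat2x0_17

theorem cat2x1_8_ok : cert.stepsOK 33280 cat2x1_8 = true ∧ ruleBound spec.length cat2x1_8 = true :=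
  stepsOK_cat cat2x0_16_ok cat2x0_17_ok (by decide +kernel)

def cat2x1_9 : List (ℕ × ℕ) := cat2x0_18 ++ cat2x0_19

theorem cat2x1_9_ok : cert.stepsOK 34304 cat2x1_9 = true ∧ ruleBound spec.length cat2x1_9 = true :=
  stepsOK_cat cat2x0_18_ok cat2x0_19_ok (by decide +kernel)

def cat2x1_10 : List (ℕ × ℕ) := cat2x0_20 ++ cat2x0_21

theorem cat2x1_10_ok : cert.stepsOK 35328 cat2x1_10 = true ∧ ruleBound spec.length cat2x1_10 = true :=
  stepsOK_cat cat2x0_20_ok cat2x0_21_ok (by decide +kernel)

def cat2x1_11 : List (ℕ × ℕ) := cat2x0_22 ++ cat2x0_23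

theorem cat2x1_11_ok : cert.stepsOK 36352 cat2x1_11 = true ∧ ruleBound spec.length cat2x1_11 = true :=
  stepsOK_cat cat2x0_22_ok cat2x0_23_ok (by decide +kernel)

def cat2x2_0 : List (ℕ × ℕ) := cat2x1_0 ++ cat2x1_1

theorem cat2x2_0_ok : cert.stepsOK 25088 cat2x2_0 = true ∧ ruleBound spec.length cat2x2_0 = true :=
  stepsOK_cat cat2x1_0_ok cat2x1_1_ok (by decide +kernel)

def cat2x2_1 : List (ℕ × ℕ) := cat2x1_2 ++ cat2x1_3

theorem cat2x2_1_ok : cert.stepsOK 27136 cat2x2_1 = true ∧ ruleBound spec.length cat2x2_1 = true :=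
  stepsOK_cat cat2x1_2_ok cat2x1_3_ok (by decide +kernel)

def cat2x2_2 : List (ℕ × ℕ) := cat2x1_4 ++ cat2x1_5

theorem cat2x2_2_ok : cert.stepsOK 29184 cat2x2_2 = true ∧ ruleBound spec.length cat2x2_2 = true :=
  stepsOK_cat cat2x1_4_ok cat2x1_5_ok (by decide +kernel)

def cat2x2_3 : List (ℕ × ℕ) := cat2x1_6 ++ cat2x1_7

theorem cat2x2_3_ok : cert.stepsOK 31232 cat2x2_3 = true ∧ ruleBound spec.length cat2x2_3 = true :=
  stepsOK_cat cat2x1_6_ok cat2x1_7_ok (by decide +kernel)

def cat2x2_4 : List (ℕ × ℕ) := cat2x1_8 ++ cat2x1_9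

theorem cat2x2_4_ok : cert.stepsOK 33280 cat2x2_4 = true ∧ ruleBound spec.length cat2x2_4 = true :=
  stepsOK_cat cat2x1_8_ok cat2x1_9_ok (by decide +kernel)

def cat2x2_5 : List (ℕ × ℕ) := cat2x1_10 ++ cat2x1_11

theorem cat2x2_5_ok : cert.stepsOK 35328 cat2x2_5 = true ∧ ruleBound spec.length cat2x2_5 = true :=
  stepsOK_cat cat2x1_10_ok cat2x1_11_ok (by decide +kernel)

def cat2x3_0 : List (ℕ × ℕ) := cat2x2_0 ++ cat2x2_1

theorem cat2x3_0_ok : cert.stepsOK 25088 cat2x3_0 = true ∧ ruleBound spec.length cat2x3_0 = true :=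
  stepsOK_cat cat2x2_0_ok cat2x2_1_ok (by decide +kernel)

def cat2x3_1 : List (ℕ × ℕ) := cat2x2_2 ++ cat2x2_3

theorem cat2x3_1_ok : cert.stepsOK 29184 cat2x3_1 = true ∧ ruleBound spec.length cat2x3_1 = true :=
  stepsOK_cat cat2x2_2_ok cat2x2_3_ok (by decide +kernel)

def cat2x3_2 : List (ℕ × ℕ) := cat2x2_4 ++ cat2x2_5

theorem cat2x3_2_ok : cert.stepsOK 33280 cat2x3_2 = true ∧ ruleBound spec.length cat2x3_2 = true :=
  stepsOK_cat cat2x2_4_ok cat2x2_5_ok (by decide +kernel)

def cat2x4_0 : List (ℕ × ℕ) := cat2x3_0 ++ cat2x3_1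

theorem cat2x4_0_ok : cert.stepsOK 25088 cat2x4_0 = true ∧ ruleBound spec.length cat2x4_0 = true :=
  stepsOK_cat cat2x3_0_ok cat2x3_1_ok (by decide +kernel)

def cat2x4_1 : List (ℕ × ℕ) := cat2x3_2 ++ steps146

theorem cat2x4_1_ok : cert.stepsOK 33280 cat2x4_1 = true ∧ ruleBound spec.length cat2x4_1 = true :=
  stepsOK_cat cat2x3_2_ok steps146_ok (by decide +kernel)

def cat2x5_0 : List (ℕ × ℕ) := cat2x4_0 ++ cat2x4_1

theorem cat2x5_0_ok : cert.stepsOK 25088 cat2x5_0 = true ∧ ruleBound spec.length cat2x5_0 = true :=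
  stepsOK_cat cat2x4_0_ok cat2x4_1_ok (by decide +kernel)

end Cfsg.Lib.FiPres.D5
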