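import Cfsg.Agent.FiPres.D5Data

/-!
The certificate is valid.
-/

set_option autoImplicit false

namespace Cfsg.Lib.FiPres.D5

open Cfsg.Lib.CosetCert

theorem steps147_ok : cert.stepsOK 37632 steps147 = true ∧ ruleBound spec.length steps147 = true := by decide +kernel

theorem steps148_ok : cert.stepsOK 37888 steps148 = true ∧ ruleBound spec.length steps148 = true := by decide +kernel

theorem steps149_ok : cert.stepsOK 38144 steps149 = true ∧ ruleBound spec.length steps149 = true := by decide +kernel

theorem steps150_ok : cert.stepsOK 38400 steps150 = true ∧ ruleBound spec.length steps150 = true := by decide +kernel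

theorem steps151_ok : cert.stepsOK 38656 steps151 = true ∧ ruleBound spec.length steps151 = true := by decide +kernel

theorem steps152_ok : cert.stepsOK 38912 steps152 = true ∧ ruleBound spec.length steps152 = true := by decide +kernel

theorem steps153_ok : cert.stepsOK 39168 steps153 = true ∧ ruleBound spec.length steps153 = true := by decide +kernel

theorem steps154_ok : cert.stepsOK 39424 steps154 = true ∧ ruleBound spec.length steps154 = true := by decide +kernel

theorem steps155_ok : cert.stepsOK 39680 steps155 = true ∧ ruleBound spec.length steps155 = true := by decide +kernel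

theorem steps156_ok : cert.stepsOK 39936 steps156 = true ∧ ruleBound spec.length steps156 = true := by decide +kernel

theorem steps157_ok : cert.stepsOK 40192 steps157 = true ∧ ruleBound spec.length steps157 = true := by decide +kernel

theorem steps158_ok : cert.stepsOK 40448 steps158 = true ∧ ruleBound spec.length steps158 = true := by decide +kernel

theorem steps159_ok : cert.stepsOK 40704 steps159 = true ∧ ruleBound spec.length steps159 = true := by decide +kernel

theorem steps160_ok : cert.stepsOK 40960 steps160 = true ∧ ruleBound spec.length steps160 = true := by decide +kernel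

theorem steps161_ok : cert.stepsOK 41216 steps161 = true ∧ ruleBound spec.length steps161 = true := by decide +kernel

theorem steps162_ok : cert.stepsOK 41472 steps162 = true ∧ ruleBound spec.length steps162 = true := by decide +kernel

theorem steps163_ok : cert.stepsOK 41728 steps163 = true ∧ ruleBound spec.length steps163 = true := by decide +kernel

theorem steps164_ok : cert.stepsOK 41984 steps164 = true ∧ ruleBound spec.length steps164 = true := by decide +kernel

theorem steps165_ok : cert.stepsOK 42240 steps165 = true ∧ ruleBound spec.length steps165 = true := by decide +kernel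

theorem steps166_ok : cert.stepsOK 42496 steps166 = true ∧ ruleBound spec.length steps166 = true := by decide +kernel

theorem steps167_ok : cert.stepsOK 42752 steps167 = true ∧ ruleBound spec.length steps167 = true := by decide +kernel

theorem steps168_ok : cert.stepsOK 43008 steps168 = true ∧ ruleBound spec.length steps168 = true := by decide +kernel

theorem steps169_ok : cert.stepsOK 43264 steps169 = true ∧ ruleBound spec.length steps169 = true := by decide +kernel

theorem steps170_ok : cert.stepsOK 43520 steps170 = true ∧ ruleBound spec.length steps170 = true := by decide +kernel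

theorem steps171_ok : cert.stepsOK 43776 steps171 = true ∧ ruleBound spec.length steps171 = true := by decide +kernel

theorem steps172_ok : cert.stepsOK 44032 steps172 = true ∧ ruleBound spec.length steps172 = true := by decide +kernel

theorem steps173_ok : cert.stepsOK 44288 steps173 = true ∧ ruleBound spec.length steps173 = true := by decide +kernel

theorem steps174_ok : cert.stepsOK 44544 steps174 = true ∧ ruleBound spec.length steps174 = true := by decide +kernel

theorem steps175_ok : cert.stepsOK 44800 steps175 = true ∧ ruleBound spec.length steps175 = true := by decide +kernel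

theorem steps176_ok : cert.stepsOK 45056 steps176 = true ∧ ruleBound spec.length steps176 = true := by decide +kernel

theorem steps177_ok : cert.stepsOK 45312 steps177 = true ∧ ruleBound spec.length steps177 = true := by decide +kernel

theorem steps178_ok : cert.stepsOK 45568 steps178 = true ∧ ruleBound spec.length steps178 = true := by decide +kernel

theorem steps179_ok : cert.stepsOK 45824 steps179 = true ∧ ruleBound spec.length steps179 = true := by decide +kernel

theorem steps180_ok : cert.stepsOK 46080 steps180 = true ∧ ruleBound spec.length steps180 = true := by decide +kernel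

theorem steps181_ok : cert.stepsOK 46336 steps181 = true ∧ ruleBound spec.length steps181 = true := by decide +kernel

theorem steps182_ok : cert.stepsOK 46592 steps182 = true ∧ ruleBound spec.length steps182 = true := by decide +kernel

theorem steps183_ok : cert.stepsOK 46848 steps183 = true ∧ ruleBound spec.length steps183 = true := by decide +kernel

theorem steps184_ok : cert.stepsOK 47104 steps184 = true ∧ ruleBound spec.length steps184 = true := by decide +kernel

theorem steps185_ok : cert.stepsOK 47360 steps185 = true ∧ ruleBound spec.length steps185 = true := by decide +kernel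

theorem steps186_ok : cert.stepsOK 47616 steps186 = true ∧ ruleBound spec.length steps186 = true := by decide +kernel

theorem steps187_ok : cert.stepsOK 47872 steps187 = true ∧ ruleBound spec.length steps187 = true := by decide +kernel

theorem steps188_ok : cert.stepsOK 48128 steps188 = true ∧ ruleBound spec.length steps188 = true := by decide +kernel

theorem steps189_ok : cert.stepsOK 48384 steps189 = true ∧ ruleBound spec.length steps189 = true := by decide +kernel

theorem steps190_ok : cert.stepsOK 48640 steps190 = true ∧ ruleBound spec.length steps190 = true := by decide +kernel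

theorem steps191_ok : cert.stepsOK 48896 steps191 = true ∧ ruleBound spec.length steps191 = true := by decide +kernel

theorem steps192_ok : cert.stepsOK 49152 steps192 = true ∧ ruleBound spec.length steps192 = true := by decide +kernel

theorem steps193_ok : cert.stepsOK 49408 steps193 = true ∧ ruleBound spec.length steps193 = true := by decide +kernel

theorem steps194_ok : cert.stepsOK 49664 steps194 = true ∧ ruleBound spec.length steps194 = true := by decide +kernel

theorem steps195_ok : cert.stepsOK 49920 steps195 = true ∧ ruleBound spec.length steps195 = true := by decide +kernel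

def cat3x0_0 : List (ℕ × ℕ) := steps147 ++ steps148

theorem cat3x0_0_ok : cert.stepsOK 37632 cat3x0_0 = true ∧ ruleBound spec.length cat3x0_0 = true :=
  stepsOK_cat steps147_ok steps148_ok (by decide +kernel)

def cat3x0_1 : List (ℕ × ℕ) := steps149 ++ steps150

theorem cat3x0_1_ok : cert.stepsOK 38144 cat3x0_1 = true ∧ ruleBound spec.length cat3x0_1 = true :=
  stepsOK_cat steps149_ok steps150_ok (by decide +kernel)

def cat3x0_2 : List (ℕ × ℕ) := steps151 ++ steps152

theorem cat3x0_2_ok : cert.stepsOK 38656 cat3x0_2 = true ∧ ruleBound spec.length cat3x0_2 = true :=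
  stepsOK_cat steps151_ok steps152_ok (by decide +kernel)

def cat3x0_3 : List (ℕ × ℕ) := steps153 ++ steps154

theorem cat3x0_3_ok : cert.stepsOK 39168 cat3x0_3 = true ∧ ruleBound spec.length cat3x0_3 = true :=
  stepsOK_cat steps153_ok steps154_ok (by decide +kernel)

def cat3x0_4 : List (ℕ × ℕ) := steps155 ++ steps156

theorem cat3x0_4_ok : cert.stepsOK 39680 cat3x0_4 = true ∧ ruleBound spec.length cat3x0_4 = true :=
  stepsOK_cat steps155_ok steps156_ok (by decide +kernel)

def cat3x0_5 : List (ℕ × ℕ) := steps157 ++ steps158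

theorem cat3x0_5_ok : cert.stepsOK 40192 cat3x0_5 = true ∧ ruleBound spec.length cat3x0_5 = true :=
  stepsOK_cat steps157_ok steps158_ok (by decide +kernel)

def cat3x0_6 : List (ℕ × ℕ) := steps159 ++ steps160

theorem cat3x0_6_ok : cert.stepsOK 40704 cat3x0_6 = true ∧ ruleBound spec.length cat3x0_6 = true :=
  stepsOK_cat steps159_ok steps160_ok (by decide +kernel)

def cat3x0_7 : List (ℕ × ℕ) := steps161 ++ steps162

theorem cat3x0_7_ok : cert.stepsOK 41216 cat3x0_7 = true ∧ ruleBound spec.length cat3x0_7 = true :=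
  stepsOK_cat steps161_ok steps162_ok (by decide +kernel)

def cat3x0_8 : List (ℕ × ℕ) := steps163 ++ steps164

theorem cat3x0_8_ok : cert.stepsOK 41728 cat3x0_8 = true ∧ ruleBound spec.length cat3x0_8 = true :=
  stepsOK_cat steps163_ok steps164_ok (by decide +kernel)

def cat3x0_9 : List (ℕ × ℕ) := steps165 ++ steps166

theorem cat3x0_9_ok : cert.stepsOK 42240 cat3x0_9 = true ∧ ruleBound spec.length cat3x0_9 = true :=
  stepsOK_cat steps165_ok steps166_ok (by decide +kernel)

def cat3x0_10 : List (ℕ × ℕ) := steps167 ++ steps168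

theorem cat3x0_10_ok : cert.stepsOK 42752 cat3x0_10 = true ∧ ruleBound spec.length cat3x0_10 = true :=
  stepsOK_cat steps167_ok steps168_ok (by decide +kernel)

def cat3x0_11 : List (ℕ × ℕ) := steps169 ++ steps170

theorem cat3x0_11_ok : cert.stepsOK 43264 cat3x0_11 = true ∧ ruleBound spec.length cat3x0_11 = true :=
  stepsOK_cat steps169_ok steps170_ok (by decide +kernel)

def cat3x0_12 : List (ℕ × ℕ) := steps171 ++ steps172

theorem cat3x0_12_ok : cert.stepsOK 43776 cat3x0_12 = true ∧ ruleBound spec.length cat3x0_12 = true :=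
  stepsOK_cat steps171_ok steps172_ok (by decide +kernel)

def cat3x0_13 : List (ℕ × ℕ) := steps173 ++ steps174

theorem cat3x0_13_ok : cert.stepsOK 44288 cat3x0_13 = true ∧ ruleBound spec.length cat3x0_13 = true :=
  stepsOK_cat steps173_ok steps174_ok (by decide +kernel)

def cat3x0_14 : List (ℕ × ℕ) := steps175 ++ steps176

theorem cat3x0_14_ok : cert.stepsOK 44800 cat3x0_14 = true ∧ ruleBound spec.length cat3x0_14 = true :=
  stepsOK_cat steps175_ok steps176_ok (by decide +kernel)

def cat3x0_15 : List (ℕ × ℕ) := steps177 ++ steps178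

theorem cat3x0_15_ok : cert.stepsOK 45312 cat3x0_15 = true ∧ ruleBound spec.length cat3x0_15 = true :=
  stepsOK_cat steps177_ok steps178_ok (by decide +kernel)

def cat3x0_16 : List (ℕ × ℕ) := steps179 ++ steps180

theorem cat3x0_16_ok : cert.stepsOK 45824 cat3x0_16 = true ∧ ruleBound spec.length cat3x0_16 = true :=
  stepsOK_cat steps179_ok steps180_ok (by decide +kernel)

def cat3x0_17 : List (ℕ × ℕ) := steps181 ++ steps182

theorem cat3x0_17_ok : cert.stepsOK 46336 cat3x0_17 = true ∧ ruleBound spec.length cat3x0_17 = true :=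
  stepsOK_cat steps181_ok steps182_ok (by decide +kernel)

def cat3x0_18 : List (ℕ × ℕ) := steps183 ++ steps184

theorem cat3x0_18_ok : cert.stepsOK 46848 cat3x0_18 = true ∧ ruleBound spec.length cat3x0_18 = true :=
  stepsOK_cat steps183_ok steps184_ok (by decide +kernel)

def cat3x0_19 : List (ℕ × ℕ) := steps185 ++ steps186

theorem cat3x0_19_ok : cert.stepsOK 47360 cat3x0_19 = true ∧ ruleBound spec.length cat3x0_19 = true :=
  stepsOK_cat steps185_ok steps186_ok (by decide +kernel)

def cat3x0_20 : List (ℕ × ℕ) := steps187 ++ steps188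

theorem cat3x0_20_ok : cert.stepsOK 47872 cat3x0_20 = true ∧ ruleBound spec.length cat3x0_20 = true :=
  stepsOK_cat steps187_ok steps188_ok (by decide +kernel)

def cat3x0_21 : List (ℕ × ℕ) := steps189 ++ steps190

theorem cat3x0_21_ok : cert.stepsOK 48384 cat3x0_21 = true ∧ ruleBound spec.length cat3x0_21 = true :=
  stepsOK_cat steps189_ok steps190_ok (by decide +kernel)

def cat3x0_22 : List (ℕ × ℕ) := steps191 ++ steps192

theorem cat3x0_22_ok : cert.stepsOK 48896 cat3x0_22 = true ∧ ruleBound spec.length cat3x0_22 = true :=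
  stepsOK_cat steps191_ok steps192_ok (by decide +kernel)

def cat3x0_23 : List (ℕ × ℕ) := steps193 ++ steps194

theorem cat3x0_23_ok : cert.stepsOK 49408 cat3x0_23 = true ∧ ruleBound spec.length cat3x0_23 = true :=
  stepsOK_cat steps193_ok steps194_ok (by decide +kernel)

def cat3x1_0 : List (ℕ × ℕ) := cat3x0_0 ++ cat3x0_1

theorem cat3x1_0_ok : cert.stepsOK 37632 cat3x1_0 = true ∧ ruleBound spec.length cat3x1_0 = true :=
  stepsOK_cat cat3x0_0_ok cat3x0_1_ok (by decide +kernel)

def cat3x1_1 : List (ℕ × ℕ) := cat3x0_2 ++ cat3x0_3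

theorem cat3x1_1_ok : cert.stepsOK 38656 cat3x1_1 = true ∧ ruleBound spec.length cat3x1_1 = true :=
  stepsOK_cat cat3x0_2_ok cat3x0_3_ok (by decide +kernel)

def cat3x1_2 : List (ℕ × ℕ) := cat3x0_4 ++ cat3x0_5

theorem cat3x1_2_ok : cert.stepsOK 39680 cat3x1_2 = true ∧ ruleBound spec.length cat3x1_2 = true :=
  stepsOK_cat cat3x0_4_ok cat3x0_5_ok (by decide +kernel)

def cat3x1_3 : List (ℕ × ℕ) := cat3x0_6 ++ cat3x0_7

theorem cat3x1_3_ok : cert.stepsOK 40704 cat3x1_3 = true ∧ ruleBound spec.length cat3x1_3 = true :=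
  stepsOK_cat cat3x0_6_ok cat3x0_7_ok (by decide +kernel)

def cat3x1_4 : List (ℕ × ℕ) := cat3x0_8 ++ cat3x0_9

theorem cat3x1_4_ok : cert.stepsOK 41728 cat3x1_4 = true ∧ ruleBound spec.length cat3x1_4 = true :=
  stepsOK_cat cat3x0_8_ok cat3x0_9_ok (by decide +kernel)

def cat3x1_5 : List (ℕ × ℕ) := cat3x0_10 ++ cat3x0_11

theorem cat3x1_5_ok : cert.stepsOK 42752 cat3x1_5 = true ∧ ruleBound spec.length cat3x1_5 = true :=
  stepsOK_cat cat3x0_10_ok cat3x0_11_ok (by decide +kernel)

def cat3x1_6 : List (ℕ × ℕ) := cat3x0_12 ++ cat3x0_13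

theorem cat3x1_6_ok : cert.stepsOK 43776 cat3x1_6 = true ∧ ruleBound spec.length cat3x1_6 = true :=
  stepsOK_cat cat3x0_12_ok cat3x0_13_ok (by decide +kernel)

def cat3x1_7 : List (ℕ × ℕ) := cat3x0_14 ++ cat3x0_15

theorem cat3x1_7_ok : cert.stepsOK 44800 cat3x1_7 = true ∧ ruleBound spec.length cat3x1_7 = true :=
  stepsOK_cat cat3x0_14_ok cat3x0_15_ok (by decide +kernel)

def cat3x1_8 : List (ℕ × ℕ) := cat3x0_16 ++ cat3x0_17

theorem cat3x1_8_ok : cert.stepsOK 45824 cat3x1_8 = true ∧ ruleBound spec.length cat3x1_8 = true :=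
  stepsOK_cat cat3x0_16_ok cat3x0_17_ok (by decide +kernel)

def cat3x1_9 : List (ℕ × ℕ) := cat3x0_18 ++ cat3x0_19

theorem cat3x1_9_ok : cert.stepsOK 46848 cat3x1_9 = true ∧ ruleBound spec.length cat3x1_9 = true :=
  stepsOK_cat cat3x0_18_ok cat3x0_19_ok (by decide +kernel)

def cat3x1_10 : List (ℕ × ℕ) := cat3x0_20 ++ cat3x0_21

theorem cat3x1_10_ok : cert.stepsOK 47872 cat3x1_10 = true ∧ ruleBound spec.length cat3x1_10 = true :=
  stepsOK_cat cat3x0_20_ok cat3x0_21_ok (by decide +kernel)

def cat3x1_11 : List (ℕ × ℕ) := cat3x0_22 ++ cat3x0_23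

theorem cat3x1_11_ok : cert.stepsOK 48896 cat3x1_11 = true ∧ ruleBound spec.length cat3x1_11 = true :=
  stepsOK_cat cat3x0_22_ok cat3x0_23_ok (by decide +kernel)

def cat3x2_0 : List (ℕ × ℕ) := cat3x1_0 ++ cat3x1_1

theorem cat3x2_0_ok : cert.stepsOK 37632 cat3x2_0 = true ∧ ruleBound spec.length cat3x2_0 = true :=
  stepsOK_cat cat3x1_0_ok cat3x1_1_ok (by decide +kernel)

def cat3x2_1 : List (ℕ × ℕ) := cat3x1_2 ++ cat3x1_3

theorem cat3x2_1_ok : cert.stepsOK 39680 cat3x2_1 = true ∧ ruleBound spec.length cat3x2_1 = true :=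
  stepsOK_cat cat3x1_2_ok cat3x1_3_ok (by decide +kernel)

def cat3x2_2 : List (ℕ × ℕ) := cat3x1_4 ++ cat3x1_5

theorem cat3x2_2_ok : cert.stepsOK 41728 cat3x2_2 = true ∧ ruleBound spec.length cat3x2_2 = true :=
  stepsOK_cat cat3x1_4_ok cat3x1_5_ok (by decide +kernel)

def cat3x2_3 : List (ℕ × ℕ) := cat3x1_6 ++ cat3x1_7

theorem cat3x2_3_ok : cert.stepsOK 43776 cat3x2_3 = true ∧ ruleBound spec.length cat3x2_3 = true :=
  stepsOK_cat cat3x1_6_ok cat3x1_7_ok (by decide +kernel)

def cat3x2_4 : List (ℕ × ℕ) := cat3x1_8 ++ cat3x1_9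

theorem cat3x2_4_ok : cert.stepsOK 45824 cat3x2_4 = true ∧ ruleBound spec.length cat3x2_4 = true :=
  stepsOK_cat cat3x1_8_ok cat3x1_9_ok (by decide +kernel)

def cat3x2_5 : List (ℕ × ℕ) := cat3x1_10 ++ cat3x1_11

theorem cat3x2_5_ok : cert.stepsOK 47872 cat3x2_5 = true ∧ ruleBound spec.length cat3x2_5 = true :=
  stepsOK_cat cat3x1_10_ok cat3x1_11_ok (by decide +kernel)

def cat3x3_0 : List (ℕ × ℕ) := cat3x2_0 ++ cat3x2_1

theorem cat3x3_0_ok : cert.stepsOK 37632 cat3x3_0 = true ∧ ruleBound spec.length cat3x3_0 = true :=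
  stepsOK_cat cat3x2_0_ok cat3x2_1_ok (by decide +kernel)

def cat3x3_1 : List (ℕ × ℕ) := cat3x2_2 ++ cat3x2_3

theorem cat3x3_1_ok : cert.stepsOK 41728 cat3x3_1 = true ∧ ruleBound spec.length cat3x3_1 = true :=
  stepsOK_cat cat3x2_2_ok cat3x2_3_ok (by decide +kernel)

def cat3x3_2 : List (ℕ × ℕ) := cat3x2_4 ++ cat3x2_5

theorem cat3x3_2_ok : cert.stepsOK 45824 cat3x3_2 = true ∧ ruleBound spec.length cat3x3_2 = true :=
  stepsOK_cat cat3x2_4_ok cat3x2_5_ok (by decide +kernel)

def cat3x4_0 : List (ℕ × ℕ) := cat3x3_0 ++ cat3x3_1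

theorem cat3x4_0_ok : cert.stepsOK 37632 cat3x4_0 = true ∧ ruleBound spec.length cat3x4_0 = true :=
  stepsOK_cat cat3x3_0_ok cat3x3_1_ok (by decide +kernel)

def cat3x4_1 : List (ℕ × ℕ) := cat3x3_2 ++ steps195

theorem cat3x4_1_ok : cert.stepsOK 45824 cat3x4_1 = true ∧ ruleBound spec.length cat3x4_1 = true :=
  stepsOK_cat cat3x3_2_ok steps195_ok (by decide +kernel)

def cat3x5_0 : List (ℕ × ℕ) := cat3x4_0 ++ cat3x4_1

theorem cat3x5_0_ok : cert.stepsOK 37632 cat3x5_0 = true ∧ ruleBound spec.length cat3x5_0 = true :=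
  stepsOK_cat cat3x4_0_ok cat3x4_1_ok (by decide +kernel)

end Cfsg.Lib.FiPres.D5
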