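import Cfsg.Agent.FiPres.D5Data

/-!
The certificate is valid.
-/

set_option autoImplicit false

namespace Cfsg.Lib.FiPres.D5

open Cfsg.Lib.CosetCert

theorem steps196_ok : cert.stepsOK 50176 steps196 = true ∧ ruleBound spec.length steps196 = true := by decide +kernel

theorem steps197_ok : cert.stepsOK 50432 steps197 = true ∧ ruleBound spec.length steps197 = true := by decide +kernel

theorem steps198_ok : cert.stepsOK 50688 steps198 = true ∧ ruleBound spec.length steps198 = true := by decide +kernel

theorem steps199_ok : cert.stepsOK 50944 steps199 = true ∧ ruleBound spec.length steps199 = true := by decide +kernel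

theorem steps200_ok : cert.stepsOK 51200 steps200 = true ∧ ruleBound spec.length steps200 = true := by decide +kernel

theorem steps201_ok : cert.stepsOK 51456 steps201 = true ∧ ruleBound spec.length steps201 = true := by decide +kernel

theorem steps202_ok : cert.stepsOK 51712 steps202 = true ∧ ruleBound spec.length steps202 = true := by decide +kernel

theorem steps203_ok : cert.stepsOK 51968 steps203 = true ∧ ruleBound spec.length steps203 = true := by decide +kernel

theorem steps204_ok : cert.stepsOK 52224 steps204 = true ∧ ruleBound spec.length steps204 = true := by decide +kernel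

theorem steps205_ok : cert.stepsOK 52480 steps205 = true ∧ ruleBound spec.length steps205 = true := by decide +kernel

theorem steps206_ok : cert.stepsOK 52736 steps206 = true ∧ ruleBound spec.length steps206 = true := by decide +kernel

theorem steps207_ok : cert.stepsOK 52992 steps207 = true ∧ ruleBound spec.length steps207 = true := by decide +kernel

theorem steps208_ok : cert.stepsOK 53248 steps208 = true ∧ ruleBound spec.length steps208 = true := by decide +kernel

theorem steps209_ok : cert.stepsOK 53504 steps209 = true ∧ ruleBound spec.length steps209 = true := by decide +kernel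

theorem steps210_ok : cert.stepsOK 53760 steps210 = true ∧ ruleBound spec.length steps210 = true := by decide +kernel

theorem steps211_ok : cert.stepsOK 54016 steps211 = true ∧ ruleBound spec.length steps211 = true := by decide +kernel

theorem steps212_ok : cert.stepsOK 54272 steps212 = true ∧ ruleBound spec.length steps212 = true := by decide +kernel

theorem steps213_ok : cert.stepsOK 54528 steps213 = true ∧ ruleBound spec.length steps213 = true := by decide +kernel

theorem steps214_ok : cert.stepsOK 54784 steps214 = true ∧ ruleBound spec.length steps214 = true := by decide +kernel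

theorem steps215_ok : cert.stepsOK 55040 steps215 = true ∧ ruleBound spec.length steps215 = true := by decide +kernel

theorem steps216_ok : cert.stepsOK 55296 steps216 = true ∧ ruleBound spec.length steps216 = true := by decide +kernel

theorem steps217_ok : cert.stepsOK 55552 steps217 = true ∧ ruleBound spec.length steps217 = true := by decide +kernel

theorem steps218_ok : cert.stepsOK 55808 steps218 = true ∧ ruleBound spec.length steps218 = true := by decide +kernel

theorem steps219_ok : cert.stepsOK 56064 steps219 = true ∧ ruleBound spec.length steps219 = true := by decide +kernel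

theorem steps220_ok : cert.stepsOK 56320 steps220 = true ∧ ruleBound spec.length steps220 = true := by decide +kernel

theorem steps221_ok : cert.stepsOK 56576 steps221 = true ∧ ruleBound spec.length steps221 = true := by decide +kernel

theorem steps222_ok : cert.stepsOK 56832 steps222 = true ∧ ruleBound spec.length steps222 = true := by decide +kernel

theorem steps223_ok : cert.stepsOK 57088 steps223 = true ∧ ruleBound spec.length steps223 = true := by decide +kernel

theorem steps224_ok : cert.stepsOK 57344 steps224 = true ∧ ruleBound spec.length steps224 = true := by decide +kernel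

theorem steps225_ok : cert.stepsOK 57600 steps225 = true ∧ ruleBound spec.length steps225 = true := by decide +kernel

theorem steps226_ok : cert.stepsOK 57856 steps226 = true ∧ ruleBound spec.length steps226 = true := by decide +kernel

theorem steps227_ok : cert.stepsOK 58112 steps227 = true ∧ ruleBound spec.length steps227 = true := by decide +kernel

theorem steps228_ok : cert.stepsOK 58368 steps228 = true ∧ ruleBound spec.length steps228 = true := by decide +kernel

theorem steps229_ok : cert.stepsOK 58624 steps229 = true ∧ ruleBound spec.length steps229 = true := by decide +kernel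

theorem steps230_ok : cert.stepsOK 58880 steps230 = true ∧ ruleBound spec.length steps230 = true := by decide +kernel

theorem steps231_ok : cert.stepsOK 59136 steps231 = true ∧ ruleBound spec.length steps231 = true := by decide +kernel

theorem steps232_ok : cert.stepsOK 59392 steps232 = true ∧ ruleBound spec.length steps232 = true := by decide +kernel

theorem steps233_ok : cert.stepsOK 59648 steps233 = true ∧ ruleBound spec.length steps233 = true := by decide +kernel

theorem steps234_ok : cert.stepsOK 59904 steps234 = true ∧ ruleBound spec.length steps234 = true := by decide +kernel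

theorem steps235_ok : cert.stepsOK 60160 steps235 = true ∧ ruleBound spec.length steps235 = true := by decide +kernel

theorem steps236_ok : cert.stepsOK 60416 steps236 = true ∧ ruleBound spec.length steps236 = true := by decide +kernel

theorem steps237_ok : cert.stepsOK 60672 steps237 = true ∧ ruleBound spec.length steps237 = true := by decide +kernel

theorem steps238_ok : cert.stepsOK 60928 steps238 = true ∧ ruleBound spec.length steps238 = true := by decide +kernel

theorem steps239_ok : cert.stepsOK 61184 steps239 = true ∧ ruleBound spec.length steps239 = true := by decide +kernel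

theorem steps240_ok : cert.stepsOK 61440 steps240 = true ∧ ruleBound spec.length steps240 = true := by decide +kernel

theorem steps241_ok : cert.stepsOK 61696 steps241 = true ∧ ruleBound spec.length steps241 = true := by decide +kernel

theorem steps242_ok : cert.stepsOK 61952 steps242 = true ∧ ruleBound spec.length steps242 = true := by decide +kernel

theorem steps243_ok : cert.stepsOK 62208 steps243 = true ∧ ruleBound spec.length steps243 = true := by decide +kernel

theorem steps244_ok : cert.stepsOK 62464 steps244 = true ∧ ruleBound spec.length steps244 = true := by decide +kernel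

def cat4x0_0 : List (ℕ × ℕ) := steps196 ++ steps197

theorem cat4x0_0_ok : cert.stepsOK 50176 cat4x0_0 = true ∧ ruleBound spec.length cat4x0_0 = true :=
  stepsOK_cat steps196_ok steps197_ok (by decide +kernel)

def cat4x0_1 : List (ℕ × ℕ) := steps198 ++ steps199

theorem cat4x0_1_ok : cert.stepsOK 50688 cat4x0_1 = true ∧ ruleBound spec.length cat4x0_1 = true :=
  stepsOK_cat steps198_ok steps199_ok (by decide +kernel)

def cat4x0_2 : List (ℕ × ℕ) := steps200 ++ steps201

theorem cat4x0_2_ok : cert.stepsOK 51200 cat4x0_2 = true ∧ ruleBound spec.length cat4x0_2 = true :=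
  stepsOK_cat steps200_ok steps201_ok (by decide +kernel)

def cat4x0_3 : List (ℕ × ℕ) := steps202 ++ steps203

theorem cat4x0_3_ok : cert.stepsOK 51712 cat4x0_3 = true ∧ ruleBound spec.length cat4x0_3 = true :=
  stepsOK_cat steps202_ok steps203_ok (by decide +kernel)

def cat4x0_4 : List (ℕ × ℕ) := steps204 ++ steps205

theorem cat4x0_4_ok : cert.stepsOK 52224 cat4x0_4 = true ∧ ruleBound spec.length cat4x0_4 = true :=
  stepsOK_cat steps204_ok steps205_ok (by decide +kernel)

def cat4x0_5 : List (ℕ × ℕ) := steps206 ++ steps207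

theorem cat4x0_5_ok : cert.stepsOK 52736 cat4x0_5 = true ∧ ruleBound spec.length cat4x0_5 = true :=
  stepsOK_cat steps206_ok steps207_ok (by decide +kernel)

def cat4x0_6 : List (ℕ × ℕ) := steps208 ++ steps209

theorem cat4x0_6_ok : cert.stepsOK 53248 cat4x0_6 = true ∧ ruleBound spec.length cat4x0_6 = true :=
  stepsOK_cat steps208_ok steps209_ok (by decide +kernel)

def cat4x0_7 : List (ℕ × ℕ) := steps210 ++ steps211

theorem cat4x0_7_ok : cert.stepsOK 53760 cat4x0_7 = true ∧ ruleBound spec.length cat4x0_7 = true :=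
  stepsOK_cat steps210_ok steps211_ok (by decide +kernel)

def cat4x0_8 : List (ℕ × ℕ) := steps212 ++ steps213

theorem cat4x0_8_ok : cert.stepsOK 54272 cat4x0_8 = true ∧ ruleBound spec.length cat4x0_8 = true :=
  stepsOK_cat steps212_ok steps213_ok (by decide +kernel)

def cat4x0_9 : List (ℕ × ℕ) := steps214 ++ steps215

theorem cat4x0_9_ok : cert.stepsOK 54784 cat4x0_9 = true ∧ ruleBound spec.length cat4x0_9 = true :=
  stepsOK_cat steps214_ok steps215_ok (by decide +kernel)

def cat4x0_10 : List (ℕ × ℕ) := steps216 ++ steps217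

theorem cat4x0_10_ok : cert.stepsOK 55296 cat4x0_10 = true ∧ ruleBound spec.length cat4x0_10 = true :=
  stepsOK_cat steps216_ok steps217_ok (by decide +kernel)

def cat4x0_11 : List (ℕ × ℕ) := steps218 ++ steps219

theorem cat4x0_11_ok : cert.stepsOK 55808 cat4x0_11 = true ∧ ruleBound spec.length cat4x0_11 = true :=
  stepsOK_cat steps218_ok steps219_ok (by decide +kernel)

def cat4x0_12 : List (ℕ × ℕ) := steps220 ++ steps221

theorem cat4x0_12_ok : cert.stepsOK 56320 cat4x0_12 = true ∧ ruleBound spec.length cat4x0_12 = true :=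
  stepsOK_cat steps220_ok steps221_ok (by decide +kernel)

def cat4x0_13 : List (ℕ × ℕ) := steps222 ++ steps223

theorem cat4x0_13_ok : cert.stepsOK 56832 cat4x0_13 = true ∧ ruleBound spec.length cat4x0_13 = true :=
  stepsOK_cat steps222_ok steps223_ok (by decide +kernel)

def cat4x0_14 : List (ℕ × ℕ) := steps224 ++ steps225

theorem cat4x0_14_ok : cert.stepsOK 57344 cat4x0_14 = true ∧ ruleBound spec.length cat4x0_14 = true :=
  stepsOK_cat steps224_ok steps225_ok (by decide +kernel)

def cat4x0_15 : List (ℕ × ℕ) := steps226 ++ steps227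

theorem cat4x0_15_ok : cert.stepsOK 57856 cat4x0_15 = true ∧ ruleBound spec.length cat4x0_15 = true :=
  stepsOK_cat steps226_ok steps227_ok (by decide +kernel)

def cat4x0_16 : List (ℕ × ℕ) := steps228 ++ steps229

theorem cat4x0_16_ok : cert.stepsOK 58368 cat4x0_16 = true ∧ ruleBound spec.length cat4x0_16 = true :=
  stepsOK_cat steps228_ok steps229_ok (by decide +kernel)

def cat4x0_17 : List (ℕ × ℕ) := steps230 ++ steps231

theorem cat4x0_17_ok : cert.stepsOK 58880 cat4x0_17 = true ∧ ruleBound spec.length cat4x0_17 = true :=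
  stepsOK_cat steps230_ok steps231_ok (by decide +kernel)

def cat4x0_18 : List (ℕ × ℕ) := steps232 ++ steps233

theorem cat4x0_18_ok : cert.stepsOK 59392 cat4x0_18 = true ∧ ruleBound spec.length cat4x0_18 = true :=
  stepsOK_cat steps232_ok steps233_ok (by decide +kernel)

def cat4x0_19 : List (ℕ × ℕ) := steps234 ++ steps235

theorem cat4x0_19_ok : cert.stepsOK 59904 cat4x0_19 = true ∧ ruleBound spec.length cat4x0_19 = true :=
  stepsOK_cat steps234_ok steps235_ok (by decide +kernel)

def cat4x0_20 : List (ℕ × ℕ) := steps236 ++ steps237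

theorem cat4x0_20_ok : cert.stepsOK 60416 cat4x0_20 = true ∧ ruleBound spec.length cat4x0_20 = true :=
  stepsOK_cat steps236_ok steps237_ok (by decide +kernel)

def cat4x0_21 : List (ℕ × ℕ) := steps238 ++ steps239

theorem cat4x0_21_ok : cert.stepsOK 60928 cat4x0_21 = true ∧ ruleBound spec.length cat4x0_21 = true :=
  stepsOK_cat steps238_ok steps239_ok (by decide +kernel)

def cat4x0_22 : List (ℕ × ℕ) := steps240 ++ steps241

theorem cat4x0_22_ok : cert.stepsOK 61440 cat4x0_22 = true ∧ ruleBound spec.length cat4x0_22 = true :=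
  stepsOK_cat steps240_ok steps241_ok (by decide +kernel)

def cat4x0_23 : List (ℕ × ℕ) := steps242 ++ steps243

theorem cat4x0_23_ok : cert.stepsOK 61952 cat4x0_23 = true ∧ ruleBound spec.length cat4x0_23 = true :=
  stepsOK_cat steps242_ok steps243_ok (by decide +kernel)

def cat4x1_0 : List (ℕ × ℕ) := cat4x0_0 ++ cat4x0_1

theorem cat4x1_0_ok : cert.stepsOK 50176 cat4x1_0 = true ∧ ruleBound spec.length cat4x1_0 = true :=
  stepsOK_cat cat4x0_0_ok cat4x0_1_ok (by decide +kernel)

def cat4x1_1 : List (ℕ × ℕ) := cat4x0_2 ++ cat4x0_3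

theorem cat4x1_1_ok : cert.stepsOK 51200 cat4x1_1 = true ∧ ruleBound spec.length cat4x1_1 = true :=
  stepsOK_cat cat4x0_2_ok cat4x0_3_ok (by decide +kernel)

def cat4x1_2 : List (ℕ × ℕ) := cat4x0_4 ++ cat4x0_5

theorem cat4x1_2_ok : cert.stepsOK 52224 cat4x1_2 = true ∧ ruleBound spec.length cat4x1_2 = true :=
  stepsOK_cat cat4x0_4_ok cat4x0_5_ok (by decide +kernel)

def cat4x1_3 : List (ℕ × ℕ) := cat4x0_6 ++ cat4x0_7

theorem cat4x1_3_ok : cert.stepsOK 53248 cat4x1_3 = true ∧ ruleBound spec.length cat4x1_3 = true :=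
  stepsOK_cat cat4x0_6_ok cat4x0_7_ok (by decide +kernel)

def cat4x1_4 : List (ℕ × ℕ) := cat4x0_8 ++ cat4x0_9

theorem cat4x1_4_ok : cert.stepsOK 54272 cat4x1_4 = true ∧ ruleBound spec.length cat4x1_4 = true :=
  stepsOK_cat cat4x0_8_ok cat4x0_9_ok (by decide +kernel)

def cat4x1_5 : List (ℕ × ℕ) := cat4x0_10 ++ cat4x0_11

theorem cat4x1_5_ok : cert.stepsOK 55296 cat4x1_5 = true ∧ ruleBound spec.length cat4x1_5 = true :=
  stepsOK_cat cat4x0_10_ok cat4x0_11_ok (by decide +kernel)

def cat4x1_6 : List (ℕ × ℕ) := cat4x0_12 ++ cat4x0_13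

theorem cat4x1_6_ok : cert.stepsOK 56320 cat4x1_6 = true ∧ ruleBound spec.length cat4x1_6 = true :=
  stepsOK_cat cat4x0_12_ok cat4x0_13_ok (by decide +kernel)

def cat4x1_7 : List (ℕ × ℕ) := cat4x0_14 ++ cat4x0_15

theorem cat4x1_7_ok : cert.stepsOK 57344 cat4x1_7 = true ∧ ruleBound spec.length cat4x1_7 = true :=
  stepsOK_cat cat4x0_14_ok cat4x0_15_ok (by decide +kernel)

def cat4x1_8 : List (ℕ × ℕ) := cat4x0_16 ++ cat4x0_17

theorem cat4x1_8_ok : cert.stepsOK 58368 cat4x1_8 = true ∧ ruleBound spec.length cat4x1_8 = true :=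
  stepsOK_cat cat4x0_16_ok cat4x0_17_ok (by decide +kernel)

def cat4x1_9 : List (ℕ × ℕ) := cat4x0_18 ++ cat4x0_19

theorem cat4x1_9_ok : cert.stepsOK 59392 cat4x1_9 = true ∧ ruleBound spec.length cat4x1_9 = true :=
  stepsOK_cat cat4x0_18_ok cat4x0_19_ok (by decide +kernel)

def cat4x1_10 : List (ℕ × ℕ) := cat4x0_20 ++ cat4x0_21

theorem cat4x1_10_ok : cert.stepsOK 60416 cat4x1_10 = true ∧ ruleBound spec.length cat4x1_10 = true :=
  stepsOK_cat cat4x0_20_ok cat4x0_21_ok (by decide +kernel)

def cat4x1_11 : List (ℕ × ℕ) := cat4x0_22 ++ cat4x0_23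

theorem cat4x1_11_ok : cert.stepsOK 61440 cat4x1_11 = true ∧ ruleBound spec.length cat4x1_11 = true :=
  stepsOK_cat cat4x0_22_ok cat4x0_23_ok (by decide +kernel)

def cat4x2_0 : List (ℕ × ℕ) := cat4x1_0 ++ cat4x1_1

theorem cat4x2_0_ok : cert.stepsOK 50176 cat4x2_0 = true ∧ ruleBound spec.length cat4x2_0 = true :=
  stepsOK_cat cat4x1_0_ok cat4x1_1_ok (by decide +kernel)

def cat4x2_1 : List (ℕ × ℕ) := cat4x1_2 ++ cat4x1_3

theorem cat4x2_1_ok : cert.stepsOK 52224 cat4x2_1 = true ∧ ruleBound spec.length cat4x2_1 = true :=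
  stepsOK_cat cat4x1_2_ok cat4x1_3_ok (by decide +kernel)

def cat4x2_2 : List (ℕ × ℕ) := cat4x1_4 ++ cat4x1_5

theorem cat4x2_2_ok : cert.stepsOK 54272 cat4x2_2 = true ∧ ruleBound spec.length cat4x2_2 = true :=
  stepsOK_cat cat4x1_4_ok cat4x1_5_ok (by decide +kernel)

def cat4x2_3 : List (ℕ × ℕ) := cat4x1_6 ++ cat4x1_7

theorem cat4x2_3_ok : cert.stepsOK 56320 cat4x2_3 = true ∧ ruleBound spec.length cat4x2_3 = true :=
  stepsOK_cat cat4x1_6_ok cat4x1_7_ok (by decide +kernel)

def cat4x2_4 : List (ℕ × ℕ) := cat4x1_8 ++ cat4x1_9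

theorem cat4x2_4_ok : cert.stepsOK 58368 cat4x2_4 = true ∧ ruleBound spec.length cat4x2_4 = true :=
  stepsOK_cat cat4x1_8_ok cat4x1_9_ok (by decide +kernel)

def cat4x2_5 : List (ℕ × ℕ) := cat4x1_10 ++ cat4x1_11

theorem cat4x2_5_ok : cert.stepsOK 60416 cat4x2_5 = true ∧ ruleBound spec.length cat4x2_5 = true :=
  stepsOK_cat cat4x1_10_ok cat4x1_11_ok (by decide +kernel)

def cat4x3_0 : List (ℕ × ℕ) := cat4x2_0 ++ cat4x2_1

theorem cat4x3_0_ok : cert.stepsOK 50176 cat4x3_0 = true ∧ ruleBound spec.length cat4x3_0 = true :=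
  stepsOK_cat cat4x2_0_ok cat4x2_1_ok (by decide +kernel)

def cat4x3_1 : List (ℕ × ℕ) := cat4x2_2 ++ cat4x2_3

theorem cat4x3_1_ok : cert.stepsOK 54272 cat4x3_1 = true ∧ ruleBound spec.length cat4x3_1 = true :=
  stepsOK_cat cat4x2_2_ok cat4x2_3_ok (by decide +kernel)

def cat4x3_2 : List (ℕ × ℕ) := cat4x2_4 ++ cat4x2_5

theorem cat4x3_2_ok : cert.stepsOK 58368 cat4x3_2 = true ∧ ruleBound spec.length cat4x3_2 = true :=
  stepsOK_cat cat4x2_4_ok cat4x2_5_ok (by decide +kernel)

def cat4x4_0 : List (ℕ × ℕ) := cat4x3_0 ++ cat4x3_1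

theorem cat4x4_0_ok : cert.stepsOK 50176 cat4x4_0 = true ∧ ruleBound spec.length cat4x4_0 = true :=
  stepsOK_cat cat4x3_0_ok cat4x3_1_ok (by decide +kernel)

def cat4x4_1 : List (ℕ × ℕ) := cat4x3_2 ++ steps244

theorem cat4x4_1_ok : cert.stepsOK 58368 cat4x4_1 = true ∧ ruleBound spec.length cat4x4_1 = true :=
  stepsOK_cat cat4x3_2_ok steps244_ok (by decide +kernel)

def cat4x5_0 : List (ℕ × ℕ) := cat4x4_0 ++ cat4x4_1

theorem cat4x5_0_ok : cert.stepsOK 50176 cat4x5_0 = true ∧ ruleBound spec.length cat4x5_0 = true :=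
  stepsOK_cat cat4x4_0_ok cat4x4_1_ok (by decide +kernel)

end Cfsg.Lib.FiPres.D5
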