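import Cfsg.Agent.FiPres.D5Data

/-!
The certificate is valid.
-/

set_option autoImplicit false

namespace Cfsg.Lib.FiPres.D5

open Cfsg.Lib.CosetCert

theorem steps245_ok : cert.stepsOK 62720 steps245 = true ∧ ruleBound spec.length steps245 = true := by decide +kernel

theorem steps246_ok : cert.stepsOK 62976 steps246 = true ∧ ruleBound spec.length steps246 = true := by decide +kernel

theorem steps247_ok : cert.stepsOK 63232 steps247 = true ∧ ruleBound spec.length steps247 = true := by decide +kernel

theorem steps248_ok : cert.stepsOK 63488 steps248 = true ∧ ruleBound spec.length steps248 = true := by decide +kernel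

theorem steps249_ok : cert.stepsOK 63744 steps249 = true ∧ ruleBound spec.length steps249 = true := by decide +kernel

theorem steps250_ok : cert.stepsOK 64000 steps250 = true ∧ ruleBound spec.length steps250 = true := by decide +kernel

theorem steps251_ok : cert.stepsOK 64256 steps251 = true ∧ ruleBound spec.length steps251 = true := by decide +kernel

theorem steps252_ok : cert.stepsOK 64512 steps252 = true ∧ ruleBound spec.length steps252 = true := by decide +kernel

theorem steps253_ok : cert.stepsOK 64768 steps253 = true ∧ ruleBound spec.length steps253 = true := by decide +kernel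

theorem steps254_ok : cert.stepsOK 65024 steps254 = true ∧ ruleBound spec.length steps254 = true := by decide +kernel

theorem steps255_ok : cert.stepsOK 65280 steps255 = true ∧ ruleBound spec.length steps255 = true := by decide +kernel

theorem steps256_ok : cert.stepsOK 65536 steps256 = true ∧ ruleBound spec.length steps256 = true := by decide +kernel

theorem steps257_ok : cert.stepsOK 65792 steps257 = true ∧ ruleBound spec.length steps257 = true := by decide +kernel

theorem steps258_ok : cert.stepsOK 66048 steps258 = true ∧ ruleBound spec.length steps258 = true := by decide +kernel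

theorem steps259_ok : cert.stepsOK 66304 steps259 = true ∧ ruleBound spec.length steps259 = true := by decide +kernel

theorem steps260_ok : cert.stepsOK 66560 steps260 = true ∧ ruleBound spec.length steps260 = true := by decide +kernel

theorem steps261_ok : cert.stepsOK 66816 steps261 = true ∧ ruleBound spec.length steps261 = true := by decide +kernel

theorem steps262_ok : cert.stepsOK 67072 steps262 = true ∧ ruleBound spec.length steps262 = true := by decide +kernel

theorem steps263_ok : cert.stepsOK 67328 steps263 = true ∧ ruleBound spec.length steps263 = true := by decide +kernel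

theorem steps264_ok : cert.stepsOK 67584 steps264 = true ∧ ruleBound spec.length steps264 = true := by decide +kernel

theorem steps265_ok : cert.stepsOK 67840 steps265 = true ∧ ruleBound spec.length steps265 = true := by decide +kernel

theorem steps266_ok : cert.stepsOK 68096 steps266 = true ∧ ruleBound spec.length steps266 = true := by decide +kernel

theorem steps267_ok : cert.stepsOK 68352 steps267 = true ∧ ruleBound spec.length steps267 = true := by decide +kernel

theorem steps268_ok : cert.stepsOK 68608 steps268 = true ∧ ruleBound spec.length steps268 = true := by decide +kernel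

theorem steps269_ok : cert.stepsOK 68864 steps269 = true ∧ ruleBound spec.length steps269 = true := by decide +kernel

theorem steps270_ok : cert.stepsOK 69120 steps270 = true ∧ ruleBound spec.length steps270 = true := by decide +kernel

theorem steps271_ok : cert.stepsOK 69376 steps271 = true ∧ ruleBound spec.length steps271 = true := by decide +kernel

theorem steps272_ok : cert.stepsOK 69632 steps272 = true ∧ ruleBound spec.length steps272 = true := by decide +kernel

theorem steps273_ok : cert.stepsOK 69888 steps273 = true ∧ ruleBound spec.length steps273 = true := by decide +kernel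

theorem steps274_ok : cert.stepsOK 70144 steps274 = true ∧ ruleBound spec.length steps274 = true := by decide +kernel

theorem steps275_ok : cert.stepsOK 70400 steps275 = true ∧ ruleBound spec.length steps275 = true := by decide +kernel

theorem steps276_ok : cert.stepsOK 70656 steps276 = true ∧ ruleBound spec.length steps276 = true := by decide +kernel

theorem steps277_ok : cert.stepsOK 70912 steps277 = true ∧ ruleBound spec.length steps277 = true := by decide +kernel

theorem steps278_ok : cert.stepsOK 71168 steps278 = true ∧ ruleBound spec.length steps278 = true := by decide +kernel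

theorem steps279_ok : cert.stepsOK 71424 steps279 = true ∧ ruleBound spec.length steps279 = true := by decide +kernel

theorem steps280_ok : cert.stepsOK 71680 steps280 = true ∧ ruleBound spec.length steps280 = true := by decide +kernel

theorem steps281_ok : cert.stepsOK 71936 steps281 = true ∧ ruleBound spec.length steps281 = true := by decide +kernel

theorem steps282_ok : cert.stepsOK 72192 steps282 = true ∧ ruleBound spec.length steps282 = true := by decide +kernel

theorem steps283_ok : cert.stepsOK 72448 steps283 = true ∧ ruleBound spec.length steps283 = true := by decide +kernel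

theorem steps284_ok : cert.stepsOK 72704 steps284 = true ∧ ruleBound spec.length steps284 = true := by decide +kernel

theorem steps285_ok : cert.stepsOK 72960 steps285 = true ∧ ruleBound spec.length steps285 = true := by decide +kernel

theorem steps286_ok : cert.stepsOK 73216 steps286 = true ∧ ruleBound spec.length steps286 = true := by decide +kernel

theorem steps287_ok : cert.stepsOK 73472 steps287 = true ∧ ruleBound spec.length steps287 = true := by decide +kernel

theorem steps288_ok : cert.stepsOK 73728 steps288 = true ∧ ruleBound spec.length steps288 = true := by decide +kernel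

theorem steps289_ok : cert.stepsOK 73984 steps289 = true ∧ ruleBound spec.length steps289 = true := by decide +kernel

theorem steps290_ok : cert.stepsOK 74240 steps290 = true ∧ ruleBound spec.length steps290 = true := by decide +kernel

theorem steps291_ok : cert.stepsOK 74496 steps291 = true ∧ ruleBound spec.length steps291 = true := by decide +kernel

def cat5x0_0 : List (ℕ × ℕ) := steps245 ++ steps246

theorem cat5x0_0_ok : cert.stepsOK 62720 cat5x0_0 = true ∧ ruleBound spec.length cat5x0_0 = true :=
  stepsOK_cat steps245_ok steps246_ok (by decide +kernel)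

def cat5x0_1 : List (ℕ × ℕ) := steps247 ++ steps248

theorem cat5x0_1_ok : cert.stepsOK 63232 cat5x0_1 = true ∧ ruleBound spec.length cat5x0_1 = true :=
  stepsOK_cat steps247_ok steps248_ok (by decide +kernel)

def cat5x0_2 : List (ℕ × ℕ) := steps249 ++ steps250

theorem cat5x0_2_ok : cert.stepsOK 63744 cat5x0_2 = true ∧ ruleBound spec.length cat5x0_2 = true :=
  stepsOK_cat steps249_ok steps250_ok (by decide +kernel)

def cat5x0_3 : List (ℕ × ℕ) := steps251 ++ steps252

theorem cat5x0_3_ok : cert.stepsOK 64256 cat5x0_3 = true ∧ ruleBound spec.length cat5x0_3 = true :=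
  stepsOK_cat steps251_ok steps252_ok (by decide +kernel)

def cat5x0_4 : List (ℕ × ℕ) := steps253 ++ steps254

theorem cat5x0_4_ok : cert.stepsOK 64768 cat5x0_4 = true ∧ ruleBound spec.length cat5x0_4 = true :=
  stepsOK_cat steps253_ok steps254_ok (by decide +kernel)

def cat5x0_5 : List (ℕ × ℕ) := steps255 ++ steps256

theorem cat5x0_5_ok : cert.stepsOK 65280 cat5x0_5 = true ∧ ruleBound spec.length cat5x0_5 = true :=
  stepsOK_cat steps255_ok steps256_ok (by decide +kernel)

def cat5x0_6 : List (ℕ × ℕ) := steps257 ++ steps258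

theorem cat5x0_6_ok : cert.stepsOK 65792 cat5x0_6 = true ∧ ruleBound spec.length cat5x0_6 = true :=
  stepsOK_cat steps257_ok steps258_ok (by decide +kernel)

def cat5x0_7 : List (ℕ × ℕ) := steps259 ++ steps260

theorem cat5x0_7_ok : cert.stepsOK 66304 cat5x0_7 = true ∧ ruleBound spec.length cat5x0_7 = true :=
  stepsOK_cat steps259_ok steps260_ok (by decide +kernel)

def cat5x0_8 : List (ℕ × ℕ) := steps261 ++ steps262

theorem cat5x0_8_ok : cert.stepsOK 66816 cat5x0_8 = true ∧ ruleBound spec.length cat5x0_8 = true :=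
  stepsOK_cat steps261_ok steps262_ok (by decide +kernel)

def cat5x0_9 : List (ℕ × ℕ) := steps263 ++ steps264

theorem cat5x0_9_ok : cert.stepsOK 67328 cat5x0_9 = true ∧ ruleBound spec.length cat5x0_9 = true :=
  stepsOK_cat steps263_ok steps264_ok (by decide +kernel)

def cat5x0_10 : List (ℕ × ℕ) := steps265 ++ steps266

theorem cat5x0_10_ok : cert.stepsOK 67840 cat5x0_10 = true ∧ ruleBound spec.length cat5x0_10 = true :=
  stepsOK_cat steps265_ok steps266_ok (by decide +kernel)

def cat5x0_11 : List (ℕ × ℕ) := steps267 ++ steps268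

theorem cat5x0_11_ok : cert.stepsOK 68352 cat5x0_11 = true ∧ ruleBound spec.length cat5x0_11 = true :=
  stepsOK_cat steps267_ok steps268_ok (by decide +kernel)

def cat5x0_12 : List (ℕ × ℕ) := steps269 ++ steps270

theorem cat5x0_12_ok : cert.stepsOK 68864 cat5x0_12 = true ∧ ruleBound spec.length cat5x0_12 = true :=
  stepsOK_cat steps269_ok steps270_ok (by decide +kernel)

def cat5x0_13 : List (ℕ × ℕ) := steps271 ++ steps272

theorem cat5x0_13_ok : cert.stepsOK 69376 cat5x0_13 = true ∧ ruleBound spec.length cat5x0_13 = true :=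
  stepsOK_cat steps271_ok steps272_ok (by decide +kernel)

def cat5x0_14 : List (ℕ × ℕ) := steps273 ++ steps274

theorem cat5x0_14_ok : cert.stepsOK 69888 cat5x0_14 = true ∧ ruleBound spec.length cat5x0_14 = true :=
  stepsOK_cat steps273_ok steps274_ok (by decide +kernel)

def cat5x0_15 : List (ℕ × ℕ) := steps275 ++ steps276

theorem cat5x0_15_ok : cert.stepsOK 70400 cat5x0_15 = true ∧ ruleBound spec.length cat5x0_15 = true :=
  stepsOK_cat steps275_ok steps276_ok (by decide +kernel)

def cat5x0_16 : List (ℕ × ℕ) := steps277 ++ steps278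

theorem cat5x0_16_ok : cert.stepsOK 70912 cat5x0_16 = true ∧ ruleBound spec.length cat5x0_16 = true :=
  stepsOK_cat steps277_ok steps278_ok (by decide +kernel)

def cat5x0_17 : List (ℕ × ℕ) := steps279 ++ steps280

theorem cat5x0_17_ok : cert.stepsOK 71424 cat5x0_17 = true ∧ ruleBound spec.length cat5x0_17 = true :=
  stepsOK_cat steps279_ok steps280_ok (by decide +kernel)

def cat5x0_18 : List (ℕ × ℕ) := steps281 ++ steps282

theorem cat5x0_18_ok : cert.stepsOK 71936 cat5x0_18 = true ∧ ruleBound spec.length cat5x0_18 = true :=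
  stepsOK_cat steps281_ok steps282_ok (by decide +kernel)

def cat5x0_19 : List (ℕ × ℕ) := steps283 ++ steps284

theorem cat5x0_19_ok : cert.stepsOK 72448 cat5x0_19 = true ∧ ruleBound spec.length cat5x0_19 = true :=
  stepsOK_cat steps283_ok steps284_ok (by decide +kernel)

def cat5x0_20 : List (ℕ × ℕ) := steps285 ++ steps286

theorem cat5x0_20_ok : cert.stepsOK 72960 cat5x0_20 = true ∧ ruleBound spec.length cat5x0_20 = true :=
  stepsOK_cat steps285_ok steps286_ok (by decide +kernel)

def cat5x0_21 : List (ℕ × ℕ) := steps287 ++ steps288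

theorem cat5x0_21_ok : cert.stepsOK 73472 cat5x0_21 = true ∧ ruleBound spec.length cat5x0_21 = true :=
  stepsOK_cat steps287_ok steps288_ok (by decide +kernel)

def cat5x0_22 : List (ℕ × ℕ) := steps289 ++ steps290

theorem cat5x0_22_ok : cert.stepsOK 73984 cat5x0_22 = true ∧ ruleBound spec.length cat5x0_22 = true :=
  stepsOK_cat steps289_ok steps290_ok (by decide +kernel)

def cat5x1_0 : List (ℕ × ℕ) := cat5x0_0 ++ cat5x0_1

theorem cat5x1_0_ok : cert.stepsOK 62720 cat5x1_0 = true ∧ ruleBound spec.length cat5x1_0 = true :=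
  stepsOK_cat cat5x0_0_ok cat5x0_1_ok (by decide +kernel)

def cat5x1_1 : List (ℕ × ℕ) := cat5x0_2 ++ cat5x0_3

theorem cat5x1_1_ok : cert.stepsOK 63744 cat5x1_1 = true ∧ ruleBound spec.length cat5x1_1 = true :=
  stepsOK_cat cat5x0_2_ok cat5x0_3_ok (by decide +kernel)

def cat5x1_2 : List (ℕ × ℕ) := cat5x0_4 ++ cat5x0_5

theorem cat5x1_2_ok : cert.stepsOK 64768 cat5x1_2 = true ∧ ruleBound spec.length cat5x1_2 = true :=
  stepsOK_cat cat5x0_4_ok cat5x0_5_ok (by decide +kernel)

def cat5x1_3 : List (ℕ × ℕ) := cat5x0_6 ++ cat5x0_7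

theorem cat5x1_3_ok : cert.stepsOK 65792 cat5x1_3 = true ∧ ruleBound spec.length cat5x1_3 = true :=
  stepsOK_cat cat5x0_6_ok cat5x0_7_ok (by decide +kernel)

def cat5x1_4 : List (ℕ × ℕ) := cat5x0_8 ++ cat5x0_9

theorem cat5x1_4_ok : cert.stepsOK 66816 cat5x1_4 = true ∧ ruleBound spec.length cat5x1_4 = true :=
  stepsOK_cat cat5x0_8_ok cat5x0_9_ok (by decide +kernel)

def cat5x1_5 : List (ℕ × ℕ) := cat5x0_10 ++ cat5x0_11

theorem cat5x1_5_ok : cert.stepsOK 67840 cat5x1_5 = true ∧ ruleBound spec.length cat5x1_5 = true :=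
  stepsOK_cat cat5x0_10_ok cat5x0_11_ok (by decide +kernel)

def cat5x1_6 : List (ℕ × ℕ) := cat5x0_12 ++ cat5x0_13

theorem cat5x1_6_ok : cert.stepsOK 68864 cat5x1_6 = true ∧ ruleBound spec.length cat5x1_6 = true :=
  stepsOK_cat cat5x0_12_ok cat5x0_13_ok (by decide +kernel)

def cat5x1_7 : List (ℕ × ℕ) := cat5x0_14 ++ cat5x0_15

theorem cat5x1_7_ok : cert.stepsOK 69888 cat5x1_7 = true ∧ ruleBound spec.length cat5x1_7 = true :=
  stepsOK_cat cat5x0_14_ok cat5x0_15_ok (by decide +kernel)

def cat5x1_8 : List (ℕ × ℕ) := cat5x0_16 ++ cat5x0_17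

theorem cat5x1_8_ok : cert.stepsOK 70912 cat5x1_8 = true ∧ ruleBound spec.length cat5x1_8 = true :=
  stepsOK_cat cat5x0_16_ok cat5x0_17_ok (by decide +kernel)

def cat5x1_9 : List (ℕ × ℕ) := cat5x0_18 ++ cat5x0_19

theorem cat5x1_9_ok : cert.stepsOK 71936 cat5x1_9 = true ∧ ruleBound spec.length cat5x1_9 = true :=
  stepsOK_cat cat5x0_18_ok cat5x0_19_ok (by decide +kernel)

def cat5x1_10 : List (ℕ × ℕ) := cat5x0_20 ++ cat5x0_21

theorem cat5x1_10_ok : cert.stepsOK 72960 cat5x1_10 = true ∧ ruleBound spec.length cat5x1_10 = true :=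
  stepsOK_cat cat5x0_20_ok cat5x0_21_ok (by decide +kernel)

def cat5x1_11 : List (ℕ × ℕ) := cat5x0_22 ++ steps291

theorem cat5x1_11_ok : cert.stepsOK 73984 cat5x1_11 = true ∧ ruleBound spec.length cat5x1_11 = true :=
  stepsOK_cat cat5x0_22_ok steps291_ok (by decide +kernel)

def cat5x2_0 : List (ℕ × ℕ) := cat5x1_0 ++ cat5x1_1

theorem cat5x2_0_ok : cert.stepsOK 62720 cat5x2_0 = true ∧ ruleBound spec.length cat5x2_0 = true :=
  stepsOK_cat cat5x1_0_ok cat5x1_1_ok (by decide +kernel)

def cat5x2_1 : List (ℕ × ℕ) := cat5x1_2 ++ cat5x1_3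

theorem cat5x2_1_ok : cert.stepsOK 64768 cat5x2_1 = true ∧ ruleBound spec.length cat5x2_1 = true :=
  stepsOK_cat cat5x1_2_ok cat5x1_3_ok (by decide +kernel)

def cat5x2_2 : List (ℕ × ℕ) := cat5x1_4 ++ cat5x1_5

theorem cat5x2_2_ok : cert.stepsOK 66816 cat5x2_2 = true ∧ ruleBound spec.length cat5x2_2 = true :=
  stepsOK_cat cat5x1_4_ok cat5x1_5_ok (by decide +kernel)

def cat5x2_3 : List (ℕ × ℕ) := cat5x1_6 ++ cat5x1_7

theorem cat5x2_3_ok : cert.stepsOK 68864 cat5x2_3 = true ∧ ruleBound spec.length cat5x2_3 = true :=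
  stepsOK_cat cat5x1_6_ok cat5x1_7_ok (by decide +kernel)

def cat5x2_4 : List (ℕ × ℕ) := cat5x1_8 ++ cat5x1_9

theorem cat5x2_4_ok : cert.stepsOK 70912 cat5x2_4 = true ∧ ruleBound spec.length cat5x2_4 = true :=
  stepsOK_cat cat5x1_8_ok cat5x1_9_ok (by decide +kernel)

def cat5x2_5 : List (ℕ × ℕ) := cat5x1_10 ++ cat5x1_11

theorem cat5x2_5_ok : cert.stepsOK 72960 cat5x2_5 = true ∧ ruleBound spec.length cat5x2_5 = true :=
  stepsOK_cat cat5x1_10_ok cat5x1_11_ok (by decide +kernel)

def cat5x3_0 : List (ℕ × ℕ) := cat5x2_0 ++ cat5x2_1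

theorem cat5x3_0_ok : cert.stepsOK 62720 cat5x3_0 = true ∧ ruleBound spec.length cat5x3_0 = true :=
  stepsOK_cat cat5x2_0_ok cat5x2_1_ok (by decide +kernel)

def cat5x3_1 : List (ℕ × ℕ) := cat5x2_2 ++ cat5x2_3

theorem cat5x3_1_ok : cert.stepsOK 66816 cat5x3_1 = true ∧ ruleBound spec.length cat5x3_1 = true :=
  stepsOK_cat cat5x2_2_ok cat5x2_3_ok (by decide +kernel)

def cat5x3_2 : List (ℕ × ℕ) := cat5x2_4 ++ cat5x2_5

theorem cat5x3_2_ok : cert.stepsOK 70912 cat5x3_2 = true ∧ ruleBound spec.length cat5x3_2 = true :=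
  stepsOK_cat cat5x2_4_ok cat5x2_5_ok (by decide +kernel)

def cat5x4_0 : List (ℕ × ℕ) := cat5x3_0 ++ cat5x3_1

theorem cat5x4_0_ok : cert.stepsOK 62720 cat5x4_0 = true ∧ ruleBound spec.length cat5x4_0 = true :=
  stepsOK_cat cat5x3_0_ok cat5x3_1_ok (by decide +kernel)

def cat5x5_0 : List (ℕ × ℕ) := cat5x4_0 ++ cat5x3_2

theorem cat5x5_0_ok : cert.stepsOK 62720 cat5x5_0 = true ∧ ruleBound spec.length cat5x5_0 = true :=
  stepsOK_cat cat5x4_0_ok cat5x3_2_ok (by decide +kernel)

end Cfsg.Lib.FiPres.D5
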