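import Cfsg.Agent.CosetCert.TabSplit
import Cfsg.Agent.FiPres.D5Part0
import Cfsg.Agent.FiPres.D5Part1
import Cfsg.Agent.FiPres.D5Part2
import Cfsg.Agent.FiPres.D5Part3
import Cfsg.Agent.FiPres.D5Part4
import Cfsg.Agent.FiPres.D5Part5

/-!
The certificate is valid.
-/

set_option autoImplicit false
set_option Elab.async false

namespace Cfsg.Lib.FiPres.D5

open Cfsg.Lib.CosetCert

theorem cat0x5_0_len : cat0x5_0.length = 12544 := by decide +kernel

theorem cat1x5_0_len : cat1x5_0.length = 12544 := by decide +kernel

theorem cat2x5_0_len : cat2x5_0.length = 12544 := by decide +kernel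

theorem cat3x5_0_len : cat3x5_0.length = 12544 := by decide +kernel

theorem cat4x5_0_len : cat4x5_0.length = 12544 := by decide +kernel

theorem cat5x5_0_len : cat5x5_0.length = 11993 := by decide +kernel

def top0_0 : List (ℕ × ℕ) := cat0x5_0 ++ cat1x5_0

theorem top0_0_len : top0_0.length = 25088 := by
  rw [top0_0, List.length_append, cat0x5_0_len, cat1x5_0_len]

theorem top0_0_ok : cert.stepsOK 0 top0_0 = true ∧ ruleBound spec.length top0_0 = true :=
  stepsOK_cat cat0x5_0_ok cat1x5_0_ok (by rw [cat0x5_0_len])

def top0_1 : List (ℕ × ℕ) := cat2x5_0 ++ cat3x5_0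

theorem top0_1_len : top0_1.length = 25088 := by
  rw [top0_1, List.length_append, cat2x5_0_len, cat3x5_0_len]

theorem top0_1_ok : cert.stepsOK 25088 top0_1 = true ∧ ruleBound spec.length top0_1 = true :=
  stepsOK_cat cat2x5_0_ok cat3x5_0_ok (by rw [cat2x5_0_len])

def top0_2 : List (ℕ × ℕ) := cat4x5_0 ++ cat5x5_0

theorem top0_2_len : top0_2.length = 24537 := by
  rw [top0_2, List.length_append, cat4x5_0_len, cat5x5_0_len]

theorem top0_2_ok : cert.stepsOK 50176 top0_2 = true ∧ ruleBound spec.length top0_2 = true :=
  stepsOK_cat cat4x5_0_ok cat5x5_0_ok (by rw [cat4x5_0_len])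

def top1_0 : List (ℕ × ℕ) := top0_0 ++ top0_1

theorem top1_0_len : top1_0.length = 50176 := by
  rw [top1_0, List.length_append, top0_0_len, top0_1_len]

theorem top1_0_ok : cert.stepsOK 0 top1_0 = true ∧ ruleBound spec.length top1_0 = true :=
  stepsOK_cat top0_0_ok top0_1_ok (by rw [top0_0_len])

def top2_0 : List (ℕ × ℕ) := top1_0 ++ top0_2

theorem top2_0_len : top2_0.length = 74713 := by
  rw [top2_0, List.length_append, top1_0_len, top0_2_len]

theorem top2_0_ok : cert.stepsOK 0 top2_0 = true ∧ ruleBound spec.length top2_0 = true :=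
  stepsOK_cat top1_0_ok top0_2_ok (by rw [top1_0_len])

theorem spec_ok : cert.rotsOK rels spec = true := by decide +kernel

theorem top_length : top2_0.length = 74713 := top2_0_len

theorem tab0_ok : cert.tabPart 74713 0 440 = true := by decide +kernel

theorem tab1_ok : cert.tabPart 74713 440 440 = true := by decide +kernel

theorem tab2_ok : cert.tabPart 74713 880 440 = true := by decide +kernel

theorem tab3_ok : cert.tabPart 74713 1320 440 = true := by decide +kernel

theorem tab4_ok : cert.tabPart 74713 1760 440 = true := by decide +kernel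

theorem tab5_ok : cert.tabPart 74713 2200 440 = true := by decide +kernel

theorem tab6_ok : cert.tabPart 74713 2640 440 = true := by decide +kernel

theorem tab7_ok : cert.tabPart 74713 3080 440 = true := by decide +kernel

theorem tab8_ok : cert.tabPart 74713 3520 440 = true := by decide +kernel

theorem tab9_ok : cert.tabPart 74713 3960 440 = true := by decide +kernel

theorem tab10_ok : cert.tabPart 74713 4400 440 = true := by decide +kernel

theorem tab11_ok : cert.tabPart 74713 4840 440 = true := by decide +kernel

theorem tab12_ok : cert.tabPart 74713 5280 440 = true := by decide +kernel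

theorem tab13_ok : cert.tabPart 74713 5720 440 = true := by decide +kernel

theorem tab14_ok : cert.tabPart 74713 6160 440 = true := by decide +kernel

theorem tab15_ok : cert.tabPart 74713 6600 440 = true := by decide +kernel

theorem tab16_ok : cert.tabPart 74713 7040 440 = true := by decide +kernel

theorem tab17_ok : cert.tabPart 74713 7480 440 = true := by decide +kernel

theorem tab18_ok : cert.tabPart 74713 7920 440 = true := by decide +kernel

theorem tab19_ok : cert.tabPart 74713 8360 440 = true := by decide +kernel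

theorem tab20_ok : cert.tabPart 74713 8800 440 = true := by decide +kernel

theorem tab21_ok : cert.tabPart 74713 9240 440 = true := by decide +kernel

theorem tab22_ok : cert.tabPart 74713 9680 440 = true := by decide +kernel

theorem tab23_ok : cert.tabPart 74713 10120 440 = true := by decide +kernel

theorem tab24_ok : cert.tabPart 74713 10560 440 = true := by decide +kernel

theorem tab25_ok : cert.tabPart 74713 11000 440 = true := by decide +kernel

theorem tab26_ok : cert.tabPart 74713 11440 440 = true := by decide +kernel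

theorem tab27_ok : cert.tabPart 74713 11880 440 = true := by decide +kernel

theorem tab28_ok : cert.tabPart 74713 12320 440 = true := by decide +kernel

theorem tab29_ok : cert.tabPart 74713 12760 440 = true := by decide +kernel

theorem tab30_ok : cert.tabPart 74713 13200 440 = true := by decide +kernel

theorem tab31_ok : cert.tabPart 74713 13640 440 = true := by decide +kernel

theorem tabTo1_ok : cert.tabPart 74713 0 880 = true :=
  Cert.tabPart_add (b := 440) (c := 440) tab0_ok (by rw [Nat.zero_add]; exact tab1_ok)

theorem tabTo2_ok : cert.tabPart 74713 0 1320 = true :=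
  Cert.tabPart_add (b := 880) (c := 440) tabTo1_ok (by rw [Nat.zero_add]; exact tab2_ok)

theorem tabTo3_ok : cert.tabPart 74713 0 1760 = true :=
  Cert.tabPart_add (b := 1320) (c := 440) tabTo2_ok (by rw [Nat.zero_add]; exact tab3_ok)

theorem tabTo4_ok : cert.tabPart 74713 0 2200 = true :=
  Cert.tabPart_add (b := 1760) (c := 440) tabTo3_ok (by rw [Nat.zero_add]; exact tab4_ok)

theorem tabTo5_ok : cert.tabPart 74713 0 2640 = true :=
  Cert.tabPart_add (b := 2200) (c := 440) tabTo4_ok (by rw [Nat.zero_add]; exact tab5_ok)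

theorem tabTo6_ok : cert.tabPart 74713 0 3080 = true :=
  Cert.tabPart_add (b := 2640) (c := 440) tabTo5_ok (by rw [Nat.zero_add]; exact tab6_ok)

theorem tabTo7_ok : cert.tabPart 74713 0 3520 = true :=
  Cert.tabPart_add (b := 3080) (c := 440) tabTo6_ok (by rw [Nat.zero_add]; exact tab7_ok)

theorem tabTo8_ok : cert.tabPart 74713 0 3960 = true :=
  Cert.tabPart_add (b := 3520) (c := 440) tabTo7_ok (by rw [Nat.zero_add]; exact tab8_ok)

theorem tabTo9_ok : cert.tabPart 74713 0 4400 = true :=
  Cert.tabPart_add (b := 3960) (c := 440) tabTo8_ok (by rw [Nat.zero_add]; exact tab9_ok)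

theorem tabTo10_ok : cert.tabPart 74713 0 4840 = true :=
  Cert.tabPart_add (b := 4400) (c := 440) tabTo9_ok (by rw [Nat.zero_add]; exact tab10_ok)

theorem tabTo11_ok : cert.tabPart 74713 0 5280 = true :=
  Cert.tabPart_add (b := 4840) (c := 440) tabTo10_ok (by rw [Nat.zero_add]; exact tab11_ok)

theorem tabTo12_ok : cert.tabPart 74713 0 5720 = true :=
  Cert.tabPart_add (b := 5280) (c := 440) tabTo11_ok (by rw [Nat.zero_add]; exact tab12_ok)

theorem tabTo13_ok : cert.tabPart 74713 0 6160 = true :=
  Cert.tabPart_add (b := 5720) (c := 440) tabTo12_ok (by rw [Nat.zero_add]; exact tab13_ok)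

theorem tabTo14_ok : cert.tabPart 74713 0 6600 = true :=
  Cert.tabPart_add (b := 6160) (c := 440) tabTo13_ok (by rw [Nat.zero_add]; exact tab14_ok)

theorem tabTo15_ok : cert.tabPart 74713 0 7040 = true :=
  Cert.tabPart_add (b := 6600) (c := 440) tabTo14_ok (by rw [Nat.zero_add]; exact tab15_ok)

theorem tabTo16_ok : cert.tabPart 74713 0 7480 = true :=
  Cert.tabPart_add (b := 7040) (c := 440) tabTo15_ok (by rw [Nat.zero_add]; exact tab16_ok)

theorem tabTo17_ok : cert.tabPart 74713 0 7920 = true :=
  Cert.tabPart_add (b := 7480) (c := 440) tabTo16_ok (by rw [Nat.zero_add]; exact tab17_ok)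

theorem tabTo18_ok : cert.tabPart 74713 0 8360 = true :=
  Cert.tabPart_add (b := 7920) (c := 440) tabTo17_ok (by rw [Nat.zero_add]; exact tab18_ok)

theorem tabTo19_ok : cert.tabPart 74713 0 8800 = true :=
  Cert.tabPart_add (b := 8360) (c := 440) tabTo18_ok (by rw [Nat.zero_add]; exact tab19_ok)

theorem tabTo20_ok : cert.tabPart 74713 0 9240 = true :=
  Cert.tabPart_add (b := 8800) (c := 440) tabTo19_ok (by rw [Nat.zero_add]; exact tab20_ok)

theorem tabTo21_ok : cert.tabPart 74713 0 9680 = true :=
  Cert.tabPart_add (b := 9240) (c := 440) tabTo20_ok (by rw [Nat.zero_add]; exact tab21_ok)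

theorem tabTo22_ok : cert.tabPart 74713 0 10120 = true :=
  Cert.tabPart_add (b := 9680) (c := 440) tabTo21_ok (by rw [Nat.zero_add]; exact tab22_ok)

theorem tabTo23_ok : cert.tabPart 74713 0 10560 = true :=
  Cert.tabPart_add (b := 10120) (c := 440) tabTo22_ok (by rw [Nat.zero_add]; exact tab23_ok)

theorem tabTo24_ok : cert.tabPart 74713 0 11000 = true :=
  Cert.tabPart_add (b := 10560) (c := 440) tabTo23_ok (by rw [Nat.zero_add]; exact tab24_ok)

theorem tabTo25_ok : cert.tabPart 74713 0 11440 = true :=
  Cert.tabPart_add (b := 11000) (c := 440) tabTo24_ok (by rw [Nat.zero_add]; exact tab25_ok)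

theorem tabTo26_ok : cert.tabPart 74713 0 11880 = true :=
  Cert.tabPart_add (b := 11440) (c := 440) tabTo25_ok (by rw [Nat.zero_add]; exact tab26_ok)

theorem tabTo27_ok : cert.tabPart 74713 0 12320 = true :=
  Cert.tabPart_add (b := 11880) (c := 440) tabTo26_ok (by rw [Nat.zero_add]; exact tab27_ok)

theorem tabTo28_ok : cert.tabPart 74713 0 12760 = true :=
  Cert.tabPart_add (b := 12320) (c := 440) tabTo27_ok (by rw [Nat.zero_add]; exact tab28_ok)

theorem tabTo29_ok : cert.tabPart 74713 0 13200 = true :=
  Cert.tabPart_add (b := 12760) (c := 440) tabTo28_ok (by rw [Nat.zero_add]; exact tab29_ok)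

theorem tabTo30_ok : cert.tabPart 74713 0 13640 = true :=
  Cert.tabPart_add (b := 13200) (c := 440) tabTo29_ok (by rw [Nat.zero_add]; exact tab30_ok)

theorem tabTo31_ok : cert.tabPart 74713 0 14080 = true :=
  Cert.tabPart_add (b := 13640) (c := 440) tabTo30_ok (by rw [Nat.zero_add]; exact tab31_ok)

theorem tab_ok : cert.tabOK top2_0.length = true := by
  rw [top_length]
  exact Cert.tabOK_of_part (by decide +kernel) tabTo31_ok

theorem valid : cert.Valid rels :=
  ⟨by decide, spec, top2_0, spec_ok, top2_0_ok.1, top2_0_ok.2, tab_ok⟩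

theorem fins_length : cert.fin.length = 14080 := by rw [Cert.fin, List.length_map, List.length_range]; rfl

end Cfsg.Lib.FiPres.D5
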