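import Cfsg.Agent.FiPres.D8Data

/-!
The certificate is valid.
-/

set_option autoImplicit false

namespace Cfsg.Lib.FiPres.D8

open Cfsg.Lib.CosetCert

theorem steps0_ok : cert.stepsOK 0 steps0 = true ∧ ruleBound spec.length steps0 = true := by decide +kernel

theorem steps1_ok : cert.stepsOK 256 steps1 = true ∧ ruleBound spec.length steps1 = true := by decide +kernel

theorem steps2_ok : cert.stepsOK 512 steps2 = true ∧ ruleBound spec.length steps2 = true := by decide +kernel

theorem steps3_ok : cert.stepsOK 768 steps3 = true ∧ ruleBound spec.length steps3 = true := by decide +kernel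

theorem steps4_ok : cert.stepsOK 1024 steps4 = true ∧ ruleBound spec.length steps4 = true := by decide +kernel

theorem steps5_ok : cert.stepsOK 1280 steps5 = true ∧ ruleBound spec.length steps5 = true := by decide +kernel

theorem steps6_ok : cert.stepsOK 1536 steps6 = true ∧ ruleBound spec.length steps6 = true := by decide +kernel

theorem steps7_ok : cert.stepsOK 1792 steps7 = true ∧ ruleBound spec.length steps7 = true := by decide +kernel

theorem steps8_ok : cert.stepsOK 2048 steps8 = true ∧ ruleBound spec.length steps8 = true := by decide +kernel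

theorem steps9_ok : cert.stepsOK 2304 steps9 = true ∧ ruleBound spec.length steps9 = true := by decide +kernel

theorem steps10_ok : cert.stepsOK 2560 steps10 = true ∧ ruleBound spec.length steps10 = true := by decide +kernel

theorem steps11_ok : cert.stepsOK 2816 steps11 = true ∧ ruleBound spec.length steps11 = true := by decide +kernel

theorem steps12_ok : cert.stepsOK 3072 steps12 = true ∧ ruleBound spec.length steps12 = true := by decide +kernel

theorem steps13_ok : cert.stepsOK 3328 steps13 = true ∧ ruleBound spec.length steps13 = true := by decide +kernel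

theorem steps14_ok : cert.stepsOK 3584 steps14 = true ∧ ruleBound spec.length steps14 = true := by decide +kernel

theorem steps15_ok : cert.stepsOK 3840 steps15 = true ∧ ruleBound spec.length steps15 = true := by decide +kernel

theorem steps16_ok : cert.stepsOK 4096 steps16 = true ∧ ruleBound spec.length steps16 = true := by decide +kernel

theorem steps17_ok : cert.stepsOK 4352 steps17 = true ∧ ruleBound spec.length steps17 = true := by decide +kernel

theorem steps18_ok : cert.stepsOK 4608 steps18 = true ∧ ruleBound spec.length steps18 = true := by decide +kernel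

theorem steps19_ok : cert.stepsOK 4864 steps19 = true ∧ ruleBound spec.length steps19 = true := by decide +kernel

theorem steps20_ok : cert.stepsOK 5120 steps20 = true ∧ ruleBound spec.length steps20 = true := by decide +kernel

theorem steps21_ok : cert.stepsOK 5376 steps21 = true ∧ ruleBound spec.length steps21 = true := by decide +kernel

theorem steps22_ok : cert.stepsOK 5632 steps22 = true ∧ ruleBound spec.length steps22 = true := by decide +kernel

theorem steps23_ok : cert.stepsOK 5888 steps23 = true ∧ ruleBound spec.length steps23 = true := by decide +kernel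

theorem steps24_ok : cert.stepsOK 6144 steps24 = true ∧ ruleBound spec.length steps24 = true := by decide +kernel

theorem steps25_ok : cert.stepsOK 6400 steps25 = true ∧ ruleBound spec.length steps25 = true := by decide +kernel

theorem steps26_ok : cert.stepsOK 6656 steps26 = true ∧ ruleBound spec.length steps26 = true := by decide +kernel

theorem steps27_ok : cert.stepsOK 6912 steps27 = true ∧ ruleBound spec.length steps27 = true := by decide +kernel

theorem steps28_ok : cert.stepsOK 7168 steps28 = true ∧ ruleBound spec.length steps28 = true := by decide +kernel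

theorem steps29_ok : cert.stepsOK 7424 steps29 = true ∧ ruleBound spec.length steps29 = true := by decide +kernel

theorem steps30_ok : cert.stepsOK 7680 steps30 = true ∧ ruleBound spec.length steps30 = true := by decide +kernel

theorem steps31_ok : cert.stepsOK 7936 steps31 = true ∧ ruleBound spec.length steps31 = true := by decide +kernel

theorem steps32_ok : cert.stepsOK 8192 steps32 = true ∧ ruleBound spec.length steps32 = true := by decide +kernel

theorem steps33_ok : cert.stepsOK 8448 steps33 = true ∧ ruleBound spec.length steps33 = true := by decide +kernel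

theorem steps34_ok : cert.stepsOK 8704 steps34 = true ∧ ruleBound spec.length steps34 = true := by decide +kernel

theorem steps35_ok : cert.stepsOK 8960 steps35 = true ∧ ruleBound spec.length steps35 = true := by decide +kernel

theorem steps36_ok : cert.stepsOK 9216 steps36 = true ∧ ruleBound spec.length steps36 = true := by decide +kernel

theorem steps37_ok : cert.stepsOK 9472 steps37 = true ∧ ruleBound spec.length steps37 = true := by decide +kernel

theorem steps38_ok : cert.stepsOK 9728 steps38 = true ∧ ruleBound spec.length steps38 = true := by decide +kernel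

theorem steps39_ok : cert.stepsOK 9984 steps39 = true ∧ ruleBound spec.length steps39 = true := by decide +kernel

theorem steps40_ok : cert.stepsOK 10240 steps40 = true ∧ ruleBound spec.length steps40 = true := by decide +kernel

theorem steps41_ok : cert.stepsOK 10496 steps41 = true ∧ ruleBound spec.length steps41 = true := by decide +kernel

theorem steps42_ok : cert.stepsOK 10752 steps42 = true ∧ ruleBound spec.length steps42 = true := by decide +kernel

theorem steps43_ok : cert.stepsOK 11008 steps43 = true ∧ ruleBound spec.length steps43 = true := by decide +kernel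

def cat0x0_0 : List (ℕ × ℕ) := steps0 ++ steps1

theorem cat0x0_0_ok : cert.stepsOK 0 cat0x0_0 = true ∧ ruleBound spec.length cat0x0_0 = true :=
  stepsOK_cat steps0_ok steps1_ok (by decide +kernel)

def cat0x0_1 : List (ℕ × ℕ) := steps2 ++ steps3

theorem cat0x0_1_ok : cert.stepsOK 512 cat0x0_1 = true ∧ ruleBound spec.length cat0x0_1 = true :=
  stepsOK_cat steps2_ok steps3_ok (by decide +kernel)

def cat0x0_2 : List (ℕ × ℕ) := steps4 ++ steps5

theorem cat0x0_2_ok : cert.stepsOK 1024 cat0x0_2 = true ∧ ruleBound spec.length cat0x0_2 = true :=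
  stepsOK_cat steps4_ok steps5_ok (by decide +kernel)

def cat0x0_3 : List (ℕ × ℕ) := steps6 ++ steps7

theorem cat0x0_3_ok : cert.stepsOK 1536 cat0x0_3 = true ∧ ruleBound spec.length cat0x0_3 = true :=
  stepsOK_cat steps6_ok steps7_ok (by decide +kernel)

def cat0x0_4 : List (ℕ × ℕ) := steps8 ++ steps9

theorem cat0x0_4_ok : cert.stepsOK 2048 cat0x0_4 = true ∧ ruleBound spec.length cat0x0_4 = true :=
  stepsOK_cat steps8_ok steps9_ok (by decide +kernel)

def cat0x0_5 : List (ℕ × ℕ) := steps10 ++ steps11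

theorem cat0x0_5_ok : cert.stepsOK 2560 cat0x0_5 = true ∧ ruleBound spec.length cat0x0_5 = true :=
  stepsOK_cat steps10_ok steps11_ok (by decide +kernel)

def cat0x0_6 : List (ℕ × ℕ) := steps12 ++ steps13

theorem cat0x0_6_ok : cert.stepsOK 3072 cat0x0_6 = true ∧ ruleBound spec.length cat0x0_6 = true :=
  stepsOK_cat steps12_ok steps13_ok (by decide +kernel)

def cat0x0_7 : List (ℕ × ℕ) := steps14 ++ steps15

theorem cat0x0_7_ok : cert.stepsOK 3584 cat0x0_7 = true ∧ ruleBound spec.length cat0x0_7 = true :=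
  stepsOK_cat steps14_ok steps15_ok (by decide +kernel)

def cat0x0_8 : List (ℕ × ℕ) := steps16 ++ steps17

theorem cat0x0_8_ok : cert.stepsOK 4096 cat0x0_8 = true ∧ ruleBound spec.length cat0x0_8 = true :=
  stepsOK_cat steps16_ok steps17_ok (by decide +kernel)

def cat0x0_9 : List (ℕ × ℕ) := steps18 ++ steps19

theorem cat0x0_9_ok : cert.stepsOK 4608 cat0x0_9 = true ∧ ruleBound spec.length cat0x0_9 = true :=
  stepsOK_cat steps18_ok steps19_ok (by decide +kernel)

def cat0x0_10 : List (ℕ × ℕ) := steps20 ++ steps21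

theorem cat0x0_10_ok : cert.stepsOK 5120 cat0x0_10 = true ∧ ruleBound spec.length cat0x0_10 = true :=
  stepsOK_cat steps20_ok steps21_ok (by decide +kernel)

def cat0x0_11 : List (ℕ × ℕ) := steps22 ++ steps23

theorem cat0x0_11_ok : cert.stepsOK 5632 cat0x0_11 = true ∧ ruleBound spec.length cat0x0_11 = true :=
  stepsOK_cat steps22_ok steps23_ok (by decide +kernel)

def cat0x0_12 : List (ℕ × ℕ) := steps24 ++ steps25

theorem cat0x0_12_ok : cert.stepsOK 6144 cat0x0_12 = true ∧ ruleBound spec.length cat0x0_12 = true :=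
  stepsOK_cat steps24_ok steps25_ok (by decide +kernel)

def cat0x0_13 : List (ℕ × ℕ) := steps26 ++ steps27

theorem cat0x0_13_ok : cert.stepsOK 6656 cat0x0_13 = true ∧ ruleBound spec.length cat0x0_13 = true :=
  stepsOK_cat steps26_ok steps27_ok (by decide +kernel)

def cat0x0_14 : List (ℕ × ℕ) := steps28 ++ steps29

theorem cat0x0_14_ok : cert.stepsOK 7168 cat0x0_14 = true ∧ ruleBound spec.length cat0x0_14 = true :=
  stepsOK_cat steps28_ok steps29_ok (by decide +kernel)

def cat0x0_15 : List (ℕ × ℕ) := steps30 ++ steps31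

theorem cat0x0_15_ok : cert.stepsOK 7680 cat0x0_15 = true ∧ ruleBound spec.length cat0x0_15 = true :=
  stepsOK_cat steps30_ok steps31_ok (by decide +kernel)

def cat0x0_16 : List (ℕ × ℕ) := steps32 ++ steps33

theorem cat0x0_16_ok : cert.stepsOK 8192 cat0x0_16 = true ∧ ruleBound spec.length cat0x0_16 = true :=
  stepsOK_cat steps32_ok steps33_ok (by decide +kernel)

def cat0x0_17 : List (ℕ × ℕ) := steps34 ++ steps35

theorem cat0x0_17_ok : cert.stepsOK 8704 cat0x0_17 = true ∧ ruleBound spec.length cat0x0_17 = true :=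
  stepsOK_cat steps34_ok steps35_ok (by decide +kernel)

def cat0x0_18 : List (ℕ × ℕ) := steps36 ++ steps37

theorem cat0x0_18_ok : cert.stepsOK 9216 cat0x0_18 = true ∧ ruleBound spec.length cat0x0_18 = true :=
  stepsOK_cat steps36_ok steps37_ok (by decide +kernel)

def cat0x0_19 : List (ℕ × ℕ) := steps38 ++ steps39

theorem cat0x0_19_ok : cert.stepsOK 9728 cat0x0_19 = true ∧ ruleBound spec.length cat0x0_19 = true :=
  stepsOK_cat steps38_ok steps39_ok (by decide +kernel)

def cat0x0_20 : List (ℕ × ℕ) := steps40 ++ steps41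

theorem cat0x0_20_ok : cert.stepsOK 10240 cat0x0_20 = true ∧ ruleBound spec.length cat0x0_20 = true :=
  stepsOK_cat steps40_ok steps41_ok (by decide +kernel)

def cat0x0_21 : List (ℕ × ℕ) := steps42 ++ steps43

theorem cat0x0_21_ok : cert.stepsOK 10752 cat0x0_21 = true ∧ ruleBound spec.length cat0x0_21 = true :=
  stepsOK_cat steps42_ok steps43_ok (by decide +kernel)

def cat0x1_0 : List (ℕ × ℕ) := cat0x0_0 ++ cat0x0_1

theorem cat0x1_0_ok : cert.stepsOK 0 cat0x1_0 = true ∧ ruleBound spec.length cat0x1_0 = true :=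
  stepsOK_cat cat0x0_0_ok cat0x0_1_ok (by decide +kernel)

def cat0x1_1 : List (ℕ × ℕ) := cat0x0_2 ++ cat0x0_3

theorem cat0x1_1_ok : cert.stepsOK 1024 cat0x1_1 = true ∧ ruleBound spec.length cat0x1_1 = true :=
  stepsOK_cat cat0x0_2_ok cat0x0_3_ok (by decide +kernel)

def cat0x1_2 : List (ℕ × ℕ) := cat0x0_4 ++ cat0x0_5

theorem cat0x1_2_ok : cert.stepsOK 2048 cat0x1_2 = true ∧ ruleBound spec.length cat0x1_2 = true :=
  stepsOK_cat cat0x0_4_ok cat0x0_5_ok (by decide +kernel)

def cat0x1_3 : List (ℕ × ℕ) := cat0x0_6 ++ cat0x0_7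

theorem cat0x1_3_ok : cert.stepsOK 3072 cat0x1_3 = true ∧ ruleBound spec.length cat0x1_3 = true :=
  stepsOK_cat cat0x0_6_ok cat0x0_7_ok (by decide +kernel)

def cat0x1_4 : List (ℕ × ℕ) := cat0x0_8 ++ cat0x0_9

theorem cat0x1_4_ok : cert.stepsOK 4096 cat0x1_4 = true ∧ ruleBound spec.length cat0x1_4 = true :=
  stepsOK_cat cat0x0_8_ok cat0x0_9_ok (by decide +kernel)

def cat0x1_5 : List (ℕ × ℕ) := cat0x0_10 ++ cat0x0_11

theorem cat0x1_5_ok : cert.stepsOK 5120 cat0x1_5 = true ∧ ruleBound spec.length cat0x1_5 = true :=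
  stepsOK_cat cat0x0_10_ok cat0x0_11_ok (by decide +kernel)

def cat0x1_6 : List (ℕ × ℕ) := cat0x0_12 ++ cat0x0_13

theorem cat0x1_6_ok : cert.stepsOK 6144 cat0x1_6 = true ∧ ruleBound spec.length cat0x1_6 = true :=
  stepsOK_cat cat0x0_12_ok cat0x0_13_ok (by decide +kernel)

def cat0x1_7 : List (ℕ × ℕ) := cat0x0_14 ++ cat0x0_15

theorem cat0x1_7_ok : cert.stepsOK 7168 cat0x1_7 = true ∧ ruleBound spec.length cat0x1_7 = true :=
  stepsOK_cat cat0x0_14_ok cat0x0_15_ok (by decide +kernel)

def cat0x1_8 : List (ℕ × ℕ) := cat0x0_16 ++ cat0x0_17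

theorem cat0x1_8_ok : cert.stepsOK 8192 cat0x1_8 = true ∧ ruleBound spec.length cat0x1_8 = true :=
  stepsOK_cat cat0x0_16_ok cat0x0_17_ok (by decide +kernel)

def cat0x1_9 : List (ℕ × ℕ) := cat0x0_18 ++ cat0x0_19

theorem cat0x1_9_ok : cert.stepsOK 9216 cat0x1_9 = true ∧ ruleBound spec.length cat0x1_9 = true :=
  stepsOK_cat cat0x0_18_ok cat0x0_19_ok (by decide +kernel)

def cat0x1_10 : List (ℕ × ℕ) := cat0x0_20 ++ cat0x0_21

theorem cat0x1_10_ok : cert.stepsOK 10240 cat0x1_10 = true ∧ ruleBound spec.length cat0x1_10 = true :=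
  stepsOK_cat cat0x0_20_ok cat0x0_21_ok (by decide +kernel)

def cat0x2_0 : List (ℕ × ℕ) := cat0x1_0 ++ cat0x1_1

theorem cat0x2_0_ok : cert.stepsOK 0 cat0x2_0 = true ∧ ruleBound spec.length cat0x2_0 = true :=
  stepsOK_cat cat0x1_0_ok cat0x1_1_ok (by decide +kernel)

def cat0x2_1 : List (ℕ × ℕ) := cat0x1_2 ++ cat0x1_3

theorem cat0x2_1_ok : cert.stepsOK 2048 cat0x2_1 = true ∧ ruleBound spec.length cat0x2_1 = true :=
  stepsOK_cat cat0x1_2_ok cat0x1_3_ok (by decide +kernel)

def cat0x2_2 : List (ℕ × ℕ) := cat0x1_4 ++ cat0x1_5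

theorem cat0x2_2_ok : cert.stepsOK 4096 cat0x2_2 = true ∧ ruleBound spec.length cat0x2_2 = true :=
  stepsOK_cat cat0x1_4_ok cat0x1_5_ok (by decide +kernel)

def cat0x2_3 : List (ℕ × ℕ) := cat0x1_6 ++ cat0x1_7

theorem cat0x2_3_ok : cert.stepsOK 6144 cat0x2_3 = true ∧ ruleBound spec.length cat0x2_3 = true :=
  stepsOK_cat cat0x1_6_ok cat0x1_7_ok (by decide +kernel)

def cat0x2_4 : List (ℕ × ℕ) := cat0x1_8 ++ cat0x1_9

theorem cat0x2_4_ok : cert.stepsOK 8192 cat0x2_4 = true ∧ ruleBound spec.length cat0x2_4 = true :=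
  stepsOK_cat cat0x1_8_ok cat0x1_9_ok (by decide +kernel)

def cat0x3_0 : List (ℕ × ℕ) := cat0x2_0 ++ cat0x2_1

theorem cat0x3_0_ok : cert.stepsOK 0 cat0x3_0 = true ∧ ruleBound spec.length cat0x3_0 = true :=
  stepsOK_cat cat0x2_0_ok cat0x2_1_ok (by decide +kernel)

def cat0x3_1 : List (ℕ × ℕ) := cat0x2_2 ++ cat0x2_3

theorem cat0x3_1_ok : cert.stepsOK 4096 cat0x3_1 = true ∧ ruleBound spec.length cat0x3_1 = true :=
  stepsOK_cat cat0x2_2_ok cat0x2_3_ok (by decide +kernel)

def cat0x3_2 : List (ℕ × ℕ) := cat0x2_4 ++ cat0x1_10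

theorem cat0x3_2_ok : cert.stepsOK 8192 cat0x3_2 = true ∧ ruleBound spec.length cat0x3_2 = true :=
  stepsOK_cat cat0x2_4_ok cat0x1_10_ok (by decide +kernel)

def cat0x4_0 : List (ℕ × ℕ) := cat0x3_0 ++ cat0x3_1

theorem cat0x4_0_ok : cert.stepsOK 0 cat0x4_0 = true ∧ ruleBound spec.length cat0x4_0 = true :=
  stepsOK_cat cat0x3_0_ok cat0x3_1_ok (by decide +kernel)

def cat0x5_0 : List (ℕ × ℕ) := cat0x4_0 ++ cat0x3_2

theorem cat0x5_0_ok : cert.stepsOK 0 cat0x5_0 = true ∧ ruleBound spec.length cat0x5_0 = true :=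
  stepsOK_cat cat0x4_0_ok cat0x3_2_ok (by decide +kernel)

end Cfsg.Lib.FiPres.D8
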