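import Cfsg.Agent.FiPres.Transp
import Cfsg.Agent.FiPres.AutData

/-!
An element of order eleven of the presented Fischer group commutes with only one involution, so automorphisms keep the
class of three-transpositions.
-/

set_option autoImplicit false
set_option Elab.async false

namespace Cfsg.Lib.FiPres

open Cfsg.Lib.CosetCert Cfsg.Lib.PermCert
open Cfsg.Lib.PrimeGraph
open Matrix Polynomial

/-- The element of order eleven. -/
def eleven : Cfsg.Spor.Fi22 := wval im10 word11

theorem word11_ok : (word11.all fun l => lamH.contains l) = true ∧ trivWord 3510 sigTabs (rpt 11 word11) = true ∧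
    ((List.range 3510).all fun x => decide (x = 0) || (evalW sigTabs word11 x != x)) = true ∧
    evalW sigTabs word11 1 ≠ 1 := by decide +kernel

theorem word11_lam {l : ℕ} (h : l ∈ word11) : l ∈ lamH :=
  List.contains_iff_mem.1 (List.all_eq_true.1 word11_ok.1 l h)

theorem eleven_pow : eleven ^ 11 = 1 := by
  rw [eleven, ← wval_rpt]
  exact factG.2 ((tabled.trivWord_sound word11_ok.2.1).trans (map_one psi).symm)

theorem eleven_moves {x : Fin 3510} (h : eleven • x = x) : x = p0 := by
  have h0 := List.all_eq_true.1 word11_ok.2.2.1 x.val (List.mem_range.2 x.isLt)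
  simp only [Bool.or_eq_true, decide_eq_true_eq, bne_iff_ne] at h0
  rcases h0 with e | e
  · exact Fin.ext e
  · refine absurd ?_ e
    rw [← evalW_apply im10 psi sigTabs tabled.act word11 (fun l hl => lamH_lt l (word11_lam hl)) x]
    refine congrArg Fin.val ?_
    rw [← map_inv, ← smul_eq, inv_smul_eq_iff]
    exact h.symm

theorem eleven_order : orderOf eleven = 11 := by
  haveI : Fact (Nat.Prime 11) := ⟨by norm_num⟩
  refine orderOf_eq_prime eleven_pow fun h => ?_
  have := eleven_moves (x := ⟨1, by norm_num⟩) (by rw [h, one_smul])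
  exact absurd (congrArg Fin.val this) (by decide)

/-- The element of order eleven in the stabiliser. -/
def elevenH : HFi := wval imH10 word11

theorem elevenH_val : elevenH.1 = eleven := wval_imH10 fun _ => word11_lam

/-- Its matrix. -/
def U11 : Matrix (Fin 6) (Fin 6) KQuad := matL mat11

/-- The lift to the special unitary group. -/
def elevenU : SU6 := wval genU word11

/-- The powers of the matrix on the cyclic vector. -/
def cycPow : ℕ → Fin 6 → KQuad
  | 0 => fun i => KQuad.ofCode (cyc11.getD i.val 0)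
  | n + 1 => U11 *ᵥ cycPow n

theorem cycPow_eq (n : ℕ) : cycPow n = (U11 ^ n) *ᵥ cycPow 0 := by
  induction n with
  | zero => rw [pow_zero, Matrix.one_mulVec]
  | succ n ih =>
    show U11 *ᵥ cycPow n = _
    rw [ih, Matrix.mulVec_mulVec, ← pow_succ']

theorem krylov_ok : matL kry11 = Matrix.of (fun i k : Fin 6 => cycPow k.val i) ∧
    matL evenKry11 = Matrix.of (fun i k : Fin 6 => cycPow (2 * k.val) i) ∧
    matL kry11 * matL kryInv11 = 1 ∧ matL evenKryInv11 * matL evenKry11 = 1 := by decide +kernel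

theorem krylov_spans (w : Fin 6 → KQuad) : ∃ c : Fin 6 → KQuad, w = ∑ k, c k • cycPow k.val := by
  refine ⟨matL kryInv11 *ᵥ w, ?_⟩
  conv_lhs => rw [← Matrix.one_mulVec w, ← krylov_ok.2.2.1, ← Matrix.mulVec_mulVec]
  funext i
  rw [Finset.sum_apply]
  rw [krylov_ok.1]
  simp only [Matrix.mulVec, dotProduct, Pi.smul_apply, smul_eq_mul, Matrix.of_apply]
  exact Finset.sum_congr rfl fun k _ => mul_comm _ _

/-- A matrix commuting with the element and squaring to zero is zero. -/
theorem nil_comm {B : Matrix (Fin 6) (Fin 6) KQuad} (hc : B * U11 = U11 * B) (h2 : B * B = 0) : B = 0 := by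
  have hcp : ∀ n, B * U11 ^ n = U11 ^ n * B := fun n => (Commute.pow_right hc n).eq
  obtain ⟨c, hcv⟩ := krylov_spans (B *ᵥ cycPow 0)
  set q : Polynomial KQuad := ∑ k : Fin 6, Polynomial.C (c k) * Polynomial.X ^ (k.val) with hq
  have hqv : aeval U11 q *ᵥ cycPow 0 = B *ᵥ cycPow 0 := by
    rw [hq, map_sum, Matrix.sum_mulVec, hcv]
    refine Finset.sum_congr rfl fun k _ => ?_
    rw [map_mul, aeval_C, map_pow, aeval_X, ← Algebra.smul_def, Matrix.smul_mulVec, ← cycPow_eq]
  have hqB : ∀ w, aeval U11 q *ᵥ w = B *ᵥ w := fun w => by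
    obtain ⟨d, rfl⟩ := krylov_spans w
    rw [Matrix.mulVec_sum, Matrix.mulVec_sum]
    refine Finset.sum_congr rfl fun k _ => ?_
    rw [Matrix.mulVec_smul, Matrix.mulVec_smul, cycPow_eq, Matrix.mulVec_mulVec, Matrix.mulVec_mulVec, hcp]
    have hcq : aeval U11 q * U11 ^ k.val = U11 ^ k.val * aeval U11 q := by
      rw [show U11 ^ k.val = aeval U11 ((Polynomial.X : Polynomial KQuad) ^ k.val) by simp, ← map_mul, ← map_mul, mul_comm]
    rw [hcq, ← Matrix.mulVec_mulVec, ← Matrix.mulVec_mulVec, hqv]
  have hB : aeval U11 q = B := Matrix.toLin'.injective (LinearMap.ext fun w => by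
    rw [Matrix.toLin'_apply, Matrix.toLin'_apply]; exact hqB w)
  have hsq : q * q = ∑ k : Fin 6, Polynomial.C (c k ^ 2) * Polynomial.X ^ (2 * k.val) := by
    rw [← sq, hq, CharTwo.sum_sq]
    refine Finset.sum_congr rfl fun k _ => ?_
    rw [mul_pow, ← map_pow, ← pow_mul, mul_comm k.val 2]
  have h0 : aeval U11 (q * q) *ᵥ cycPow 0 = 0 := by rw [map_mul, hB, h2, Matrix.zero_mulVec]
  rw [hsq, map_sum, Matrix.sum_mulVec] at h0
  have h1 : matL evenKry11 *ᵥ (fun k => c k ^ 2) = 0 := by
    rw [← h0, krylov_ok.2.1]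
    funext i
    rw [Finset.sum_apply, Matrix.mulVec, dotProduct]
    refine Finset.sum_congr rfl fun k _ => ?_
    rw [map_mul, aeval_C, map_pow (aeval U11) Polynomial.X, aeval_X, ← Algebra.smul_def, Matrix.smul_mulVec, ← cycPow_eq]
    rw [Pi.smul_apply, smul_eq_mul, Matrix.of_apply, mul_comm]
  have hc0 : ∀ k, c k = 0 := fun k => by
    have h3 := congrArg (fun v => matL evenKryInv11 *ᵥ v) h1
    simp only [Matrix.mulVec_mulVec, krylov_ok.2.2.2, Matrix.one_mulVec, Matrix.mulVec_zero] at h3
    exact eq_zero_of_pow_eq_zero (congrFun h3 k)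
  rw [← hB, hq]
  simp [hc0]

theorem elevenU_mat : mat6 elevenU = U11 := by
  decide +kernel

theorem elevenU_agrees : Agrees elevenH elevenU := by
  have : ∀ w : List ℕ, (∀ l ∈ w, l ∈ lamH) → (wval imH10 w, wval genU w) ∈ pairs := by
    intro w
    induction w with
    | nil => intro _; exact one_mem pairs
    | cons l w ih =>
      intro h
      rw [wval_cons, wval_cons]
      exact pairs.mul_mem (x := (imH10 l, genU l)) (agrees_gen (h l List.mem_cons_self))
        (ih fun a ha => h a (List.mem_cons_of_mem l ha))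
  exact this word11 fun _ => word11_lam

/-- The only involution commuting with the element of order eleven. -/
theorem invol_eleven {t : Cfsg.Spor.Fi22} (ht : t * t = 1) (h1 : t ≠ 1) (hc : t * eleven = eleven * t) :
    t = im10 0 := by
  have hfix : t • p0 = p0 := by
    refine eleven_moves ?_
    rw [← mul_smul, ← hc, mul_smul]
    haveI := transitive
    have hu : eleven • p0 = p0 := by
      have hm : eleven ∈ MulAction.stabilizer Cfsg.Spor.Fi22 p0 := by
        rw [index_eq.2, ← elevenH_val]
        exact elevenH.2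
      exact hm
    rw [hu]
  have hmem : t ∈ lgp im10 lamH := by
    rw [← index_eq.2]
    exact hfix
  set s : HFi := ⟨t, hmem⟩
  obtain ⟨A, hA⟩ := exists_pair s
  have hscal : ∀ {B : SU6}, B ∈ Subgroup.center SU6 → ∃ μ : KQuad, μ ≠ 0 ∧ mat6 B = Matrix.diagonal fun _ => μ := by
    intro B hB
    rw [← SetLike.mem_coe, center6] at hB
    obtain ⟨k, rfl⟩ := hB
    exact ⟨KQuad.ofCode (k.val + 1), (show ∀ t : Fin 3, KQuad.ofCode (t.val + 1) ≠ 0 by decide +kernel) k, rfl⟩
  -- the lift commutes up to a scalar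
  have hcomm : (A * elevenU)⁻¹ * (elevenU * A) ∈ Subgroup.center SU6 := by
    refine QuotientGroup.eq.1 (agrees_eq (g := s * elevenH) (pairs.mul_mem (x := (s, A)) (y := (elevenH, elevenU)) hA elevenU_agrees) ?_)
    have := pairs.mul_mem (x := (elevenH, elevenU)) (y := (s, A)) elevenU_agrees hA
    rw [show s * elevenH = elevenH * s from Subtype.ext (by
      show t * elevenH.1 = elevenH.1 * t
      rw [elevenH_val]
      exact hc)]
    exact this
  have hsq : A * A ∈ Subgroup.center SU6 := by
    have hAA : Agrees (1 : HFi) (A * A) := by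
      have := pairs.mul_mem (x := (s, A)) (y := (s, A)) hA hA
      rwa [Prod.mk_mul_mk, show s * s = 1 from Subtype.ext ht] at this
    exact (QuotientGroup.eq_one_iff _).1 (agrees_eq hAA (pairs.one_mem))
  obtain ⟨ν, hν, eν⟩ := hscal hcomm
  obtain ⟨μ, hμ, eμ⟩ := hscal hsq
  have eAU : mat6 elevenU * mat6 A = ν • (mat6 A * mat6 elevenU) := by
    rw [← mat6_mul, ← mat6_mul, show elevenU * A = A * elevenU * ((A * elevenU)⁻¹ * (elevenU * A)) by group,
      mat6_mul (A * elevenU), eν]
    ext i j
    simp [Matrix.mul_diagonal, mul_comm]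
  rw [elevenU_mat] at eAU
  have hpow : ∀ n, U11 ^ n * mat6 A = ν ^ n • (mat6 A * U11 ^ n) := by
    intro n
    induction n with
    | zero => simp
    | succ n ih =>
      rw [pow_succ', Matrix.mul_assoc, ih, Matrix.mul_smul, ← Matrix.mul_assoc, eAU, Matrix.smul_mul, smul_smul,
        Matrix.mul_assoc, pow_succ]
  have h11 : U11 ^ 11 = KQuad.ofCode 2 • (1 : Matrix (Fin 6) (Fin 6) KQuad) := by decide +kernel
  have hν1 : ν = 1 := by
    have h := hpow 11
    rw [h11, Matrix.smul_mul, Matrix.mul_smul, Matrix.one_mul, Matrix.mul_one, smul_smul] at h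
    have hne : mat6 A ≠ 0 := fun e => by
      have hd : (mat6 A).det = 1 := A.1.2
      rw [e, Matrix.det_zero] at hd
      exact zero_ne_one hd
    have h' := smul_left_injective KQuad hne h
    exact (show ∀ x : KQuad, KQuad.ofCode 2 = x ^ 11 * KQuad.ofCode 2 → x = 1 by
      simp only [KQuad.forall_iff]; decide +kernel) ν h'
  rw [hν1, one_smul] at eAU
  have hA2 : mat6 A * mat6 A = Matrix.diagonal fun _ => μ := by rw [← mat6_mul]; exact eμ
  obtain ⟨lam, hlam⟩ : ∃ l : KQuad, l * l = μ := by
    revert μ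
    intro μ _ _ _
    exact ⟨μ * μ, (show ∀ x : KQuad, x * x * (x * x) = x by simp only [KQuad.forall_iff]; decide +kernel) μ⟩
  have hB : mat6 A + lam • 1 = 0 := by
    refine nil_comm ?_ ?_
    · rw [Matrix.add_mul, Matrix.mul_add, Matrix.smul_mul, Matrix.mul_smul, Matrix.one_mul, Matrix.mul_one, eAU]
    · rw [Matrix.add_mul, Matrix.mul_add, Matrix.mul_add, Matrix.smul_mul, Matrix.mul_smul, Matrix.one_mul,
        Matrix.mul_one, hA2, Matrix.smul_mul, Matrix.one_mul, smul_smul, hlam]
      ext i j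
      simp only [Matrix.add_apply, Matrix.smul_apply, Matrix.diagonal_apply, Matrix.one_apply, Matrix.zero_apply,
        smul_eq_mul, mul_ite, mul_one, mul_zero]
      split_ifs
      · rw [show μ + lam * mat6 A i j + (lam * mat6 A i j + μ) = (μ + μ) + (lam * mat6 A i j + lam * mat6 A i j) by ring,
          CharTwo.add_self_eq_zero, CharTwo.add_self_eq_zero, add_zero]
      · rw [show (0 : KQuad) + lam * mat6 A i j + (lam * mat6 A i j + 0) = lam * mat6 A i j + lam * mat6 A i j by ring,
          CharTwo.add_self_eq_zero]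
  have hcen : A ∈ Subgroup.center SU6 := by
    refine fixing_scalar fun j => ⟨lam, fun e => hμ (by rw [← hlam, e, mul_zero]), ?_⟩
    rw [eq_neg_of_add_eq_zero_left hB, CharTwo.neg_eq, Matrix.smul_mulVec, Matrix.one_mulVec]
  have hker : s ∈ toPSU.ker := by
    show (QuotientGroup.mk (exists_pair s).choose : Cfsg.PSU 6 KQuad 2) = 1
    rw [agrees_eq (exists_pair s).choose_spec hA]
    exact (QuotientGroup.eq_one_iff _).2 hcen
  haveI : Finite HFi := Nat.finite_of_card_ne_zero (by rw [card_lamH]; norm_num)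
  have hset : (toPSU.ker : Set HFi) = {1, imH10 0} := by
    refine (Set.eq_of_subset_of_ncard_le (fun y hy => ?_) ?_ (Set.toFinite _)).symm
    · rcases hy with rfl | rfl
      · exact one_mem _
      · exact center_ker.1 ▸ center_ker.2
    · rw [Set.ncard_pair (Ne.symm a_ne_one), ← Nat.card_coe_set_eq]
      exact toPSU_facts.2.le
  have hs : s ∈ ({1, imH10 0} : Set HFi) := hset ▸ hker
  rcases hs with e | e
  · exact absurd (congrArg Subtype.val e) h1
  · have := congrArg Subtype.val e
    rwa [imH10, dif_pos zero_lam] at this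

/-- Automorphisms keep the class. -/
theorem aut_transp (φ : MulAut Cfsg.Spor.Fi22) : φ (im10 0) ∈ transp := by
  haveI := finite_fi
  haveI : Fact (Nat.Prime 11) := ⟨by norm_num⟩
  set v := φ eleven
  have hv : orderOf v = 11 := by rw [MulEquiv.orderOf_eq, eleven_order]
  have hS : ∀ x : Cfsg.Spor.Fi22, orderOf x = 11 → Nat.card (Subgroup.zpowers x) =
      11 ^ (Nat.card Cfsg.Spor.Fi22).factorization 11 := fun x hx => by
    rw [Nat.card_zpowers, hx, factG.1]
    rw [show (64561751654400 : ℕ).factorization 11 = 1 from ?_, pow_one]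
    rw [show (64561751654400 : ℕ) = 11 * 5869250150400 by norm_num, Nat.factorization_mul (by norm_num) (by norm_num),
      Finsupp.add_apply, Nat.Prime.factorization_self (by norm_num), Nat.factorization_eq_zero_of_not_dvd (by norm_num)]
  let P : Sylow 11 Cfsg.Spor.Fi22 := Sylow.ofCard _ (hS eleven eleven_order)
  let Q : Sylow 11 Cfsg.Spor.Fi22 := Sylow.ofCard _ (hS v hv)
  obtain ⟨g, hg⟩ := MulAction.exists_smul_eq Cfsg.Spor.Fi22 Q P
  have hmem : g⁻¹ * eleven * g ∈ Subgroup.zpowers v := by
    have h : eleven ∈ (g • Q : Sylow 11 Cfsg.Spor.Fi22).toSubgroup := hg ▸ Subgroup.mem_zpowers eleven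
    rw [Sylow.coe_subgroup_smul, Subgroup.mem_pointwise_smul_iff_inv_smul_mem] at h
    have hQ : (Q : Subgroup Cfsg.Spor.Fi22) = Subgroup.zpowers v := Sylow.coe_ofCard _ _
    simpa [hQ, MulAut.smul_def] using h
  have hac : φ (im10 0) * v = v * φ (im10 0) := by
    have hu : eleven * im10 0 = im10 0 * eleven := a_comm (elevenH_val ▸ elevenH.2)
    rw [← map_mul, ← map_mul, hu]
  obtain ⟨k, hk⟩ := Subgroup.mem_zpowers_iff.1 hmem
  have hc : g * φ (im10 0) * g⁻¹ * eleven = eleven * (g * φ (im10 0) * g⁻¹) := by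
    have h := (Commute.zpow_right hac k).eq
    rw [hk] at h
    calc g * φ (im10 0) * g⁻¹ * eleven = g * (φ (im10 0) * (g⁻¹ * eleven * g)) * g⁻¹ := by group
      _ = g * ((g⁻¹ * eleven * g) * φ (im10 0)) * g⁻¹ := by rw [h]
      _ = eleven * (g * φ (im10 0) * g⁻¹) := by group
  have e := invol_eleven (t := g * φ (im10 0) * g⁻¹) (by
      rw [show g * φ (im10 0) * g⁻¹ * (g * φ (im10 0) * g⁻¹) = g * (φ (im10 0) * φ (im10 0)) * g⁻¹ by group,
        ← map_mul, im10_zero_sq, map_one, mul_one, mul_inv_cancel])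
    (fun h => im10_zero_ne (by
      rw [mul_inv_eq_one, mul_eq_left] at h
      exact φ.injective (h.trans (map_one φ).symm))) hc
  refine mem_transp.2 ⟨g⁻¹, ?_⟩
  calc g⁻¹ * im10 0 * g⁻¹⁻¹ = g⁻¹ * (g * φ (im10 0) * g⁻¹) * g := by rw [e, inv_inv]
    _ = φ (im10 0) := by group

end Cfsg.Lib.FiPres
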