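import Cfsg.Agent.FiPres.Action
import Cfsg.Agent.FiPres.D0Check
import Cfsg.Agent.FiPres.D1Check
import Cfsg.Agent.FiPres.D2Check
import Cfsg.Agent.FiPres.D3Check
import Cfsg.Agent.FiPres.D4Check
import Cfsg.Agent.FiPres.D5Check
import Cfsg.Agent.FiPres.D6Check
import Cfsg.Agent.FiPres.D7Check
import Cfsg.Agent.FiPres.D8Check

/-!
The order of the presented Fischer group on nine letters and the indices of two subgroups.
-/

set_option autoImplicit false

namespace Cfsg.Lib.FiPres

open Cfsg.Lib.CosetCert Cfsg.Lib.PermCert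

/-- The list of relators of a level maps into the relators. -/
def relsIn (R : List (List ℕ)) (Λ : List ℕ) : Bool :=
  R.all fun r => words.contains (r.map (pickL Λ)) && r.all fun l => decide (l < Λ.length)

/-- The subgroup letters of a level are among given letters. -/
def subsIn (subs Λ S : List ℕ) : Bool := subs.all fun s => S.contains (pickL Λ s)

theorem words_low : (words.all fun w => w.all fun l => decide (l < 9)) = true := by decide +kernel

theorem step {C : Cert} {R : List (List ℕ)} (hC : C.Valid R) (Λ S : List ℕ) (hng : C.ng = Λ.length)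
    (hrel : relsIn R Λ = true) (hΛ : Λ.all (fun l => decide (l < 9)) = true) (hsub : subsIn C.subs Λ S = true)
    (hK : Finite (lgp im10 S)) :
    Finite (lgp im10 Λ) ∧ Nat.card (lgp im10 Λ) ≤ C.fin.length * Nat.card (lgp im10 S) := by
  haveI := hK
  simp only [relsIn, List.all_eq_true, Bool.and_eq_true, decide_eq_true_eq, List.contains_iff_mem] at hrel
  refine lgp_bound im10 hC Λ hng (fun r hr => ?_) (List.all_eq_true.2 fun r hr => List.all_eq_true.2 fun l hl =>
    decide_eq_true ((hrel r hr).2 l hl)) (fun l hl => ?_) (fun s hs => ?_)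
  · have hl : ∀ l ∈ r.map (pickL Λ), l < 9 := fun l hl =>
      decide_eq_true_eq.mp (List.all_eq_true.1 (List.all_eq_true.1 words_low _ (hrel r hr).1) l hl)
    rw [wval_low hl]
    rcases List.mem_cons.1 (hrel r hr).1 with e | h
    · rw [e]; rfl
    · exact good_im _ h
  · have h : l < 9 := decide_eq_true_eq.mp (List.all_eq_true.1 hΛ l hl)
    rw [im10_low h]
    exact good_im.inv h
  · exact lgp_mem im10 (List.contains_iff_mem.1 (List.all_eq_true.1 hsub s hs))

theorem fin_nil : Finite (lgp im10 []) ∧ Nat.card (lgp im10 []) = 1 := by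
  have : lgp im10 [] = ⊥ := by simp [lgp]
  rw [this]
  exact ⟨inferInstance, Subgroup.card_bot⟩

theorem bound_cdeh : Finite (lgp im10 [2, 3, 4, 7]) ∧ Nat.card (lgp im10 [2, 3, 4, 7]) ≤ 192 := by
  have h := step D0.valid [2, 3, 4, 7] [] rfl (by decide +kernel) (by decide) (by decide +kernel) fin_nil.1
  rw [D0.fins_length, fin_nil.2] at h
  exact ⟨h.1, h.2.trans (by norm_num)⟩

theorem bound_cdefgh : Finite (lgp im10 [2, 3, 4, 5, 6, 7]) ∧ Nat.card (lgp im10 [2, 3, 4, 5, 6, 7]) ≤ 23040 := by
  have h1 := step D1.valid [2, 3, 4, 5, 7] [2, 3, 4, 7] rfl (by decide +kernel) (by decide) (by decide +kernel)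
    bound_cdeh.1
  rw [D1.fins_length] at h1
  have h2 := step D2.valid [2, 3, 4, 5, 6, 7] [2, 3, 4, 5, 7] rfl (by decide +kernel) (by decide) (by decide +kernel)
    h1.1
  rw [D2.fins_length] at h2
  have := bound_cdeh.2
  have := h1.2
  exact ⟨h2.1, h2.2.trans (by omega)⟩

theorem bound_k : Finite (lgp im10 [1, 2, 3, 4, 5, 6, 7, 8]) ∧
    Nat.card (lgp im10 [1, 2, 3, 4, 5, 6, 7, 8]) ≤ 4585351680 := by
  have h1 := step D3.valid [1, 2, 3, 4, 5, 6, 7] [2, 3, 4, 5, 6, 7] rfl (by decide +kernel) (by decide)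
    (by decide +kernel) bound_cdefgh.1
  rw [D3.fins_length] at h1
  have h2 := step D4.valid [1, 2, 3, 4, 5, 6, 7, 8] [1, 2, 3, 4, 5, 6, 7] rfl (by decide +kernel) (by decide)
    (by decide +kernel) h1.1
  rw [D4.fins_length] at h2
  have := bound_cdefgh.2
  have := h1.2
  exact ⟨h2.1, h2.2.trans (by omega)⟩

theorem lgp_top : lgp im10 [0, 1, 2, 3, 4, 5, 6, 7, 8] = ⊤ := by
  refine top_le_iff.1 (closure_im ▸ (Subgroup.closure_le _).2 ?_)
  rintro _ ⟨k, hk, rfl⟩
  have h : k < 9 := hk
  rw [SetLike.mem_coe, ← im10_low h]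
  exact lgp_mem im10 (by interval_cases k <;> decide)

theorem bound_all : Finite Cfsg.Spor.Fi22 ∧ Nat.card Cfsg.Spor.Fi22 ≤ 64561751654400 ∧
    Nat.card Cfsg.Spor.Fi22 ≤ 14080 * Nat.card (lgp im10 [1, 2, 3, 4, 5, 6, 7, 8]) := by
  have h := step D5.valid [0, 1, 2, 3, 4, 5, 6, 7, 8] [1, 2, 3, 4, 5, 6, 7, 8] rfl (by decide +kernel) (by decide)
    (by decide +kernel) bound_k.1
  rw [D5.fins_length, lgp_top, Subgroup.card_top] at h
  haveI := h.1
  have := bound_k.2
  exact ⟨Finite.of_equiv _ Subgroup.topEquiv.toEquiv, h.2.trans (by omega), h.2⟩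

instance finite_fi : Finite Cfsg.Spor.Fi22 := bound_all.1

theorem bound_d : Finite (lgp im10 [0, 1, 2, 3, 4, 7]) ∧ Nat.card (lgp im10 [0, 1, 2, 3, 4, 7]) ≤ 23040 := by
  have h1 := step D6.valid [1, 2, 3, 4, 7] [2, 3, 4, 7] rfl (by decide +kernel) (by decide) (by decide +kernel)
    bound_cdeh.1
  rw [D6.fins_length] at h1
  have h2 := step D7.valid [0, 1, 2, 3, 4, 7] [1, 2, 3, 4, 7] rfl (by decide +kernel) (by decide) (by decide +kernel)
    h1.1
  rw [D7.fins_length] at h2
  have := bound_cdeh.2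
  have := h1.2
  exact ⟨h2.1, h2.2.trans (by omega)⟩

theorem chainD_ok : (chainOK sigTabs 3510 9 chainD && (chainSize chainD == 23040) &&
    chainD.all fun K => K.gens.all (inLetters [0, 1, 2, 3, 4, 7])) = true := by decide +kernel

/-- The nine letters with their tables. -/
theorem tabled9 : Tabled im10 psi (sigTabs.take 9) where
  act l hl := by
    have h : l < 9 := hl
    rw [show (sigTabs.take 9).getD l (0, 0) = sigTabs.getD l (0, 0) by interval_cases l <;> rfl]
    exact psi_act l (show l < 10 by omega)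
  sq l hl := by
    rw [im10_low (show l < 9 from hl)]
    exact good_im.inv hl

theorem trivT : trivWord 3510 (sigTabs.take 9) (tWord ++ tWord) = true ∧
    inLetters [0, 1, 2, 3, 4, 7] (tWord ++ tWord) = true ∧
    chainOK (sigTabs.take 9) 3510 (sigTabs.take 9).length chainD = true ∧
    (tWord ++ tWord).all (fun l => decide (l < 9)) = true := by decide +kernel

theorem sq_t : im10 9 * im10 9 = 1 := by
  have hc := chainD_ok
  simp only [Bool.and_eq_true, beq_iff_eq] at hc
  have hf := tabled9.faithful bound_d trivT.2.2.1 hc.1.2 fun K hK w hw =>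
    lgp_wval im10 (List.all_eq_true.1 (List.all_eq_true.1 hc.2 K hK) w hw)
  have h := hf.2 _ (lgp_wval im10 trivT.2.1) (tabled9.trivWord_sound trivT.1)
  rw [wval_low (fun l hl => decide_eq_true_eq.mp (List.all_eq_true.1 trivT.2.2.2 l hl))] at h
  show wval im tWord * wval im tWord = 1
  rw [← wval_append]
  exact h

/-- All ten letters with their tables. -/
theorem tabled : Tabled im10 psi sigTabs where
  act := psi_act
  sq l hl := by
    have h : l < 10 := hl
    rcases Nat.lt_or_ge l 9 with h9 | h9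
    · rw [im10_low h9]; exact good_im.inv h9
    · rw [show l = 9 by omega]; exact sq_t

theorem chainG_ok : (chainOK sigTabs 3510 sigTabs.length chainG && (chainSize chainG == 64561751654400)) = true := by
  decide +kernel

theorem factG : Nat.card Cfsg.Spor.Fi22 = 64561751654400 ∧ Function.Injective psi := by
  have hc := chainG_ok
  simp only [Bool.and_eq_true, beq_iff_eq] at hc
  have h := tabled.faithful (S := ⊤) ⟨inferInstance, by rw [Subgroup.card_top]; exact bound_all.2.1⟩ hc.1 hc.2
    fun _ _ w _ => Subgroup.mem_top (wval im10 w)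
  rw [Subgroup.card_top] at h
  exact ⟨h.1, (injective_iff_map_eq_one psi).2 fun x hx => h.2 x (Subgroup.mem_top x) hx⟩

theorem index_k : (lgp im10 [1, 2, 3, 4, 5, 6, 7, 8]).index = 14080 := by
  haveI := bound_k.1
  have h1 := bound_all.2.2
  have h2 := bound_k.2
  rw [factG.1] at h1
  have h3 := Subgroup.card_mul_index (lgp im10 [1, 2, 3, 4, 5, 6, 7, 8])
  rw [factG.1, show Nat.card (lgp im10 [1, 2, 3, 4, 5, 6, 7, 8]) = 4585351680 by omega] at h3
  omega

/-- The letters of the point stabiliser. -/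
def lamH : List ℕ := [0, 2, 3, 4, 5, 6, 7, 8, 9]

theorem rels8 : (D8.rels.all fun r => r.all (fun l => decide (l < 10)) &&
    (words.contains r || r == 9 :: tWord)) = true := by decide +kernel

theorem rel8_one {r : List ℕ} (hr : r ∈ D8.rels) : wval im10 r = 1 ∧ ∀ l ∈ r, l < 10 := by
  have h := List.all_eq_true.1 rels8 r hr
  simp only [Bool.and_eq_true, List.all_eq_true, decide_eq_true_eq, Bool.or_eq_true, List.contains_iff_mem,
    beq_iff_eq] at h
  refine ⟨?_, h.1⟩
  rcases h.2 with h2 | rfl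
  · rw [wval_low fun l hl => decide_eq_true_eq.mp (List.all_eq_true.1 (List.all_eq_true.1 words_low r h2) l hl)]
    rcases List.mem_cons.1 h2 with e | h3
    · rw [e]; rfl
    · exact good_im _ h3
  · rw [wval_cons, wval_low fun l hl => decide_eq_true_eq.mp (List.all_eq_true.1 tenth_ok.2 l hl)]
    exact sq_t

theorem index_le : (lgp im10 lamH).index ≤ 3510 := by
  have hsub : ∀ s ∈ D8.cert.subs, im10 s ∈ lgp im10 lamH := fun s hs => lgp_mem im10 hs
  have hinv : ∀ l, l < D8.cert.ng → im10 l * im10 l = 1 := fun l hl => tabled.sq l hl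
  have hL : (⊤ : Subgroup Cfsg.Spor.Fi22) ≤ Subgroup.closure (im10 '' Set.Iio D8.cert.ng) := by
    rw [← lgp_top]
    refine (Subgroup.closure_le _).2 ?_
    rintro _ ⟨l, hl, rfl⟩
    exact Subgroup.subset_closure ⟨l, by
      simp only [List.mem_cons, List.mem_nil_iff, or_false] at hl
      show l < 10
      omega, rfl⟩
  let f : Fin D8.cert.fin.length → Cfsg.Spor.Fi22 ⧸ lgp im10 lamH := fun k =>
    QuotientGroup.mk (D8.cert.rep im10 D8.cert.fin[k])⁻¹
  have hf : Function.Surjective f := by
    intro q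
    induction q using QuotientGroup.induction_on with
    | H g =>
      obtain ⟨k, hk, hmem⟩ := exists_coset D8.cert im10 D8.valid hinv (fun r hr => (rel8_one hr).1)
        (fun r hr l hl => hinv l ((rel8_one hr).2 l hl)) hsub hL (Subgroup.mem_top g⁻¹)
      obtain ⟨i, hi, rfl⟩ := List.getElem_of_mem hk
      refine ⟨⟨i, hi⟩, ?_⟩
      exact (QuotientGroup.eq.2 hmem).symm
  have := Nat.card_le_card_of_surjective f hf
  rw [Nat.card_fin, D8.fins_length] at this
  exact this

end Cfsg.Lib.FiPres
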