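import Cfsg.Agent.FiPres.OrthPres
import Cfsg.Agent.FiPres.OrthData
import Cfsg.Agent.Classical.Misc.NegOne
import Cfsg.Agent.Classical.Orth.POmegaCard

/-!
The presented group on eight letters is the orthogonal group of dimension seven over three elements.
-/

set_option autoImplicit false

set_option Elab.async false

namespace Cfsg.Lib.FiPres

open Cfsg.Lib.CosetCert Cfsg.Lib.PermCert
open Cfsg.Lib.Classical
open Matrix

instance fact_three_fi : Fact (Nat.Prime 3) := ⟨Nat.prime_three⟩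

/-- The index set of the seven coordinates. -/
abbrev I7 := Unit ⊕ (Fin 3 ⊕ Fin 3)

/-- The number of a coordinate. -/
def numI : I7 → Fin 7
  | .inl _ => 0
  | .inr (.inl k) => Fin.ofNat 7 (1 + k.val)
  | .inr (.inr k) => Fin.ofNat 7 (4 + k.val)

/-- The coordinate with a number. -/
def coordI : Fin 7 → I7 :=
  ![.inl (), .inr (.inl 0), .inr (.inl 1), .inr (.inl 2), .inr (.inr 0), .inr (.inr 1), .inr (.inr 2)]

/-- The numbering of the coordinates. -/
def eqvI : I7 ≃ Fin 7 where
  toFun := numI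
  invFun := coordI
  left_inv := by unfold Function.LeftInverse; decide
  right_inv := by unfold Function.RightInverse Function.LeftInverse; decide

/-- The form. -/
noncomputable def Qf : QuadraticForm (ZMod 3) (I7 → ZMod 3) := Refl.oddForm 3 (ZMod 3)

theorem Qf_coe : ⇑Qf = Cfsg.quadFormOdd 3 (ZMod 3) := Refl.oddForm_coe 3

theorem two_ne : (2 : ZMod 3) ≠ 0 := by decide

theorem nondeg : (QuadraticMap.polarBilin Qf).Nondegenerate := Refl.oddForm_nondegenerate two_ne 3

/-- A vector from its digits. -/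
def vecL (l : List ℕ) : I7 → ZMod 3 := fun i => ((l.getD (numI i).val 0 : ℕ) : ZMod 3)

/-- An orthogonal basis. -/
def basisL : List (List ℕ) :=
  [[1, 0, 0, 0, 0, 0, 0], [0, 1, 0, 0, 1, 0, 0], [0, 1, 0, 0, 2, 0, 0], [0, 0, 1, 0, 0, 1, 0], [0, 0, 1, 0, 0, 2, 0],
    [0, 0, 0, 1, 0, 0, 1], [0, 0, 0, 1, 0, 0, 2]]

/-- A root. -/
def rootL (k : ℕ) : List ℕ := orthRoots.getD k []

theorem basis_ne : ∀ l ∈ basisL, Cfsg.quadFormOdd 3 (ZMod 3) (vecL l) ≠ 0 := by decide +kernel

theorem root_q : ∀ k : Fin 9, 1 ≤ k.val → Cfsg.quadFormOdd 3 (ZMod 3) (vecL (rootL k.val)) = 2 := by decide +kernel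

theorem root_ne {k : ℕ} (hk : k < 9) (h1 : 1 ≤ k) : Qf (vecL (rootL k)) ≠ 0 := by
  rw [Qf_coe, root_q ⟨k, hk⟩ h1]
  exact two_ne

/-- The product of the reflections in the basis. -/
noncomputable def minusOne : Cfsg.isometryGroup (ZMod 3) (⇑Qf) :=
  (basisL.pmap (fun l h => Refl.refl Qf (vecL l) (by rw [Qf_coe]; exact h)) basis_ne).prod

/-- The reflection matrix of a vector. -/
def rM (l : List ℕ) : Matrix I7 I7 (ZMod 3) := Cfsg.reflectionMatrix (Cfsg.quadFormOdd 3 (ZMod 3)) (vecL l)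

/-- A diagonal matrix with minus ones at the coordinates from a list. -/
def signD (s : List ℕ) : Matrix I7 I7 (ZMod 3) := Matrix.diagonal fun i => if (numI i).val ∈ s then -1 else 1

theorem pair_diag : rM [1, 0, 0, 0, 0, 0, 0] = signD [0] ∧
    rM [0, 1, 0, 0, 1, 0, 0] * rM [0, 1, 0, 0, 2, 0, 0] = signD [1, 4] ∧
    rM [0, 0, 1, 0, 0, 1, 0] * rM [0, 0, 1, 0, 0, 2, 0] = signD [2, 5] ∧
    rM [0, 0, 0, 1, 0, 0, 1] * rM [0, 0, 0, 1, 0, 0, 2] = signD [3, 6] := by decide +kernel

theorem sign_all : signD [0] * (signD [1, 4] * (signD [2, 5] * signD [3, 6])) = -1 := by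
  simp only [signD, Matrix.diagonal_mul_diagonal]
  decide +kernel

theorem mat_minusOne : ((minusOne : Matrix.GeneralLinearGroup I7 (ZMod 3)) : Matrix I7 I7 (ZMod 3)) = -1 := by
  have key : ∀ (l : List (List ℕ)) (hl : ∀ v ∈ l, Cfsg.quadFormOdd 3 (ZMod 3) (vecL v) ≠ 0),
      ((((l.pmap (fun v h => Refl.refl Qf (vecL v) (by rw [Qf_coe]; exact h)) hl).prod :
        Cfsg.isometryGroup (ZMod 3) (⇑Qf)) : Matrix.GeneralLinearGroup I7 (ZMod 3)) : Matrix I7 I7 (ZMod 3)) =
          (l.map rM).prod := by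
    intro l
    induction l with
    | nil => intro _; simp
    | cons a l ih =>
      intro hl
      rw [List.pmap, List.prod_cons, List.map_cons, List.prod_cons, Subgroup.coe_mul, Units.val_mul, ih,
        Refl.coe_refl, rM, Qf_coe]
  obtain ⟨p0, p1, p2, p3⟩ := pair_diag
  rw [minusOne, key]
  simp only [basisL, List.map_cons, List.map_nil, List.prod_cons, List.prod_nil, mul_one]
  rw [p0, ← Matrix.mul_assoc (rM [0, 1, 0, 0, 1, 0, 0]), p1, ← Matrix.mul_assoc (rM [0, 0, 1, 0, 0, 1, 0]), p2, p3,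
    sign_all]

/-- The images of the letters. -/
noncomputable def isoL (k : ℕ) : Cfsg.isometryGroup (ZMod 3) (⇑Qf) :=
  if h : k < 9 ∧ 1 ≤ k then minusOne * Refl.refl Qf (vecL (rootL k)) (root_ne h.1 h.2) else 1

theorem isoL_omega (k : ℕ) : isoL k ∈ Cfsg.Omega (ZMod 3) (⇑Qf) := by
  unfold isoL
  split_ifs with h
  · have hn : 2 ≤ Fintype.card I7 := by simp
    obtain ⟨κ, hκ⟩ := Refl.exists_spin_scale Qf two_ne nondeg hn
    have hb : Refl.detHom Qf minusOne = -1 ∧ ((Refl.spin Qf minusOne : ℤˣ) : ℤ) = -(κ : ℤ) ^ 7 := by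
      unfold minusOne
      simp only [basisL, List.pmap, List.prod_cons, List.prod_nil, mul_one, map_mul, Units.val_mul,
        Refl.detHom_refl, hκ]
      rw [Qf_coe]
      refine ⟨by decide +kernel, ?_⟩
      rw [show quadraticChar (ZMod 3) (Cfsg.quadFormOdd 3 (ZMod 3) (vecL [1, 0, 0, 0, 0, 0, 0])) = 1 by decide +kernel,
        show quadraticChar (ZMod 3) (Cfsg.quadFormOdd 3 (ZMod 3) (vecL [0, 1, 0, 0, 1, 0, 0])) = 1 by decide +kernel,
        show quadraticChar (ZMod 3) (Cfsg.quadFormOdd 3 (ZMod 3) (vecL [0, 1, 0, 0, 2, 0, 0])) = -1 by decide +kernel,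
        show quadraticChar (ZMod 3) (Cfsg.quadFormOdd 3 (ZMod 3) (vecL [0, 0, 1, 0, 0, 1, 0])) = 1 by decide +kernel,
        show quadraticChar (ZMod 3) (Cfsg.quadFormOdd 3 (ZMod 3) (vecL [0, 0, 1, 0, 0, 2, 0])) = -1 by decide +kernel,
        show quadraticChar (ZMod 3) (Cfsg.quadFormOdd 3 (ZMod 3) (vecL [0, 0, 0, 1, 0, 0, 1])) = 1 by decide +kernel,
        show quadraticChar (ZMod 3) (Cfsg.quadFormOdd 3 (ZMod 3) (vecL [0, 0, 0, 1, 0, 0, 2])) = -1 by decide +kernel]
      ring
    rw [Refl.mem_omega_iff Qf two_ne nondeg hn, map_mul, map_mul, hb.1, Refl.detHom_refl, Units.ext_iff,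
      Units.ext_iff, Units.val_mul, Units.val_mul, hb.2, hκ, Qf_coe, root_q ⟨k, h.1⟩ h.2,
      show quadraticChar (ZMod 3) 2 = -1 by decide +kernel, Units.val_one, Units.val_one]
    refine ⟨by simp, ?_⟩
    rcases Int.units_eq_one_or κ with e | e <;> simp [e] <;> norm_num
  · exact one_mem _

/-- The images in the commutator subgroup. -/
noncomputable def omL (k : ℕ) : Cfsg.Omega (ZMod 3) (⇑Qf) := ⟨isoL k, isoL_omega k⟩

/-- The isometries permute the vectors. -/
noncomputable def moveVec : Cfsg.isometryGroup (ZMod 3) (⇑Qf) →* Equiv.Perm (I7 → ZMod 3) where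
  toFun g :=
    { toFun := fun x => Refl.mat Qf g *ᵥ x
      invFun := fun x => Refl.mat Qf g⁻¹ *ᵥ x
      left_inv := fun x => Refl.mulVec_inv_cancel Qf g x
      right_inv := fun x => by
        have := Refl.mulVec_inv_cancel Qf g⁻¹ x
        rwa [inv_inv] at this }
  map_one' := Equiv.ext fun x => by simp [Refl.mat]
  map_mul' g h := Equiv.ext fun x => by simp [Refl.mat, Matrix.mulVec_mulVec]

/-- The vectors by numbers. -/
def numV : (I7 → ZMod 3) ≃ Fin (3 ^ 7) :=
  (Equiv.arrowCongr eqvI (Equiv.refl (ZMod 3))).trans (finFunctionFinEquiv (m := 3) (n := 7))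

/-- The action on numbers. -/
noncomputable def orthPerm : Cfsg.Omega (ZMod 3) (⇑Qf) →* Equiv.Perm (Fin (3 ^ 7)) :=
  (Equiv.permCongrHom numV).toMonoidHom.comp (moveVec.comp (Cfsg.Omega (ZMod 3) (⇑Qf)).subtype)

/-- An entry of a listed matrix. -/
def entL (k i l : ℕ) : ℕ := (((orthMats.getD k []).getD i []).getD l 0)

/-- The number of the image of a numbered vector. -/
def imgN (k j : ℕ) : ℕ :=
  (List.range 7).foldr (fun i acc => ((List.range 7).map fun l => entL k i l * (j / 3 ^ l % 3)).sum % 3 + 3 * acc) 0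

theorem mats_ok : ∀ k : Fin 9, 1 ≤ k.val → ∀ i l : I7,
    -(rM (rootL k.val) i l) = ((entL k.val (numI i).val (numI l).val : ℕ) : ZMod 3) := by decide +kernel

theorem orth_valid : ∀ k : Fin 9, valid (3 ^ 7) (orthTabs.getD k.val (0, 0)) = true := by decide +kernel

/-- The tables agree with the matrices. -/
def tabAgree (k : ℕ) : Bool := (List.range (3 ^ 7)).all fun j => ap (orthTabs.getD k (0, 0)).1 j == imgN k j

theorem agree : ((List.range 8).all fun k => tabAgree (k + 1)) = true ∧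
    (List.range (3 ^ 7)).all (fun j => ap (orthTabs.getD 0 (0, 0)).1 j == j) = true := by decide +kernel

theorem numV_val (x : I7 → ZMod 3) : (numV x : ℕ) = ∑ i : Fin 7, (x (coordI i)).val * 3 ^ (i : ℕ) := by
  simp only [numV, Equiv.trans_apply, finFunctionFinEquiv_apply]
  rfl

theorem numV_symm (j : Fin (3 ^ 7)) (l : Fin 7) :
    numV.symm j (coordI l) = (((j : ℕ) / 3 ^ (l : ℕ) % 3 : ℕ) : ZMod 3) := by
  have h : numV.symm j (coordI l) = finFunctionFinEquiv.symm j l := by
    simp only [numV, Equiv.symm_trans_apply]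
    show finFunctionFinEquiv.symm j (eqvI (eqvI.symm l)) = _
    rw [Equiv.apply_symm_apply]
  rw [h]
  refine ZMod.val_injective 3 ?_
  rw [ZMod.val_natCast, Nat.mod_mod]
  exact finFunctionFinEquiv_symm_apply_val (m := 3) (n := 7) j l

theorem mat_isoL (k : Fin 9) (h1 : 1 ≤ k.val) (i l : I7) :
    Refl.mat Qf (isoL k.val) i l = ((entL k.val (numI i).val (numI l).val : ℕ) : ZMod 3) := by
  rw [← mats_ok k h1 i l, isoL, dif_pos ⟨k.isLt, h1⟩]
  show (((minusOne * Refl.refl Qf _ _ : Cfsg.isometryGroup (ZMod 3) (⇑Qf)) : Matrix.GeneralLinearGroup I7 (ZMod 3)) :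
    Matrix I7 I7 (ZMod 3)) i l = _
  rw [Subgroup.coe_mul, Units.val_mul, mat_minusOne, Refl.coe_refl, rM, Qf_coe, neg_one_mul]
  rfl

theorem orthPerm_omL (k : Fin 9) : orthPerm (omL k.val) = perm (3 ^ 7) (orthTabs.getD k.val (0, 0)) := by
  refine Equiv.ext fun j => Fin.ext ?_
  rw [perm_apply (orth_valid k)]
  show (numV (Refl.mat Qf (isoL k.val) *ᵥ numV.symm j) : ℕ) = _
  rcases Nat.eq_zero_or_pos k.val with h | h
  · rw [h, show isoL 0 = 1 by simp [isoL]]
    have := List.all_eq_true.1 agree.2 j.val (List.mem_range.2 j.isLt)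
    rw [beq_iff_eq] at this
    rw [this, Refl.mat, OneMemClass.coe_one, Units.val_one, Matrix.one_mulVec, Equiv.apply_symm_apply]
  · have := List.all_eq_true.1 agree.1 (k.val - 1) (List.mem_range.2 (by omega))
    rw [tabAgree, show k.val - 1 + 1 = k.val by omega] at this
    have := List.all_eq_true.1 this j.val (List.mem_range.2 j.isLt)
    rw [beq_iff_eq] at this
    rw [this]
    have key : ∀ i : Fin 7, ((Refl.mat Qf (isoL k.val) *ᵥ numV.symm j) (coordI i)).val =
        ((List.range 7).map fun l => entL k.val i.val l * (j.val / 3 ^ l % 3)).sum % 3 := by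
      intro i
      rw [Matrix.mulVec, dotProduct, ← eqvI.symm.sum_comp]
      have e : ∀ l : Fin 7, Refl.mat Qf (isoL k.val) (coordI i) (eqvI.symm l) * numV.symm j (eqvI.symm l) =
          ((entL k.val i.val l.val * (j.val / 3 ^ (l : ℕ) % 3) : ℕ) : ZMod 3) := fun l => by
        rw [show eqvI.symm l = coordI l from rfl, numV_symm, mat_isoL k h,
          show numI (coordI i) = i from eqvI.apply_symm_apply i, show numI (coordI l) = l from eqvI.apply_symm_apply l,
          Nat.cast_mul]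
      simp only [e, Fin.sum_univ_seven]
      simp only [← Nat.cast_add, ZMod.val_natCast]
      simp [List.range_succ, add_assoc]
    rw [numV_val]
    simp only [key, Fin.sum_univ_seven]
    simp [imgN, List.range_succ]
    ring

/-- The letters satisfy the relators. -/
theorem orth_rels : (words8.all fun w => isId (3 ^ 7) (w.map fun l => orthTabs.getD l (0, 0))) = true := by
  decide +kernel

theorem orthPerm_injective : Function.Injective orthPerm := by
  intro a b h
  refine Subtype.ext (Refl.ext_mulVec Qf fun x => ?_)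
  have := congrArg (fun p => numV.symm (p (numV x))) h
  simpa [orthPerm, moveVec, Equiv.permCongr_apply] using this

theorem omL_rel : ∀ w ∈ words8, wval omL w = 1 := fun w hw => by
  refine orthPerm_injective ?_
  have hlt : ∀ l ∈ w, l < 9 := fun l hl =>
    decide_eq_true_eq.mp (List.all_eq_true.1 (List.all_eq_true.1 words8_ok.1 w hw) l hl)
  have h := isId_sound (w := w.map fun l => orthTabs.getD l (0, 0)) (fun g hg => by
    obtain ⟨l, hl, rfl⟩ := List.mem_map.1 hg
    exact orth_valid ⟨l, hlt l hl⟩) (List.all_eq_true.1 orth_rels w hw)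
  rw [wperm, List.map_map] at h
  rw [map_one, map_wval, wval]
  refine Eq.trans ?_ h
  refine congrArg List.prod (List.map_congr_left fun l hl => ?_)
  rw [Function.comp_apply]
  exact orthPerm_omL ⟨l, hlt l hl⟩

/-- The map to the orthogonal group. -/
noncomputable def toOm : P8 →* Cfsg.Omega (ZMod 3) (⇑Qf) := PresentedGroup.toGroup (lift8 omL omL_rel)

theorem toOm_im8 {l : ℕ} (hl : l < 9) : toOm (im8 l) = omL l := by
  rw [toOm, im8, PresentedGroup.toGroup.of]
  exact congrArg omL (Nat.mod_eq_of_lt hl)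

theorem chainO_ok : chainOK orthTabs (3 ^ 7) 9 chainO = true ∧ chainSize chainO = 4585351680 := by decide +kernel

theorem center_odd {F : Type} [Field F] [Fintype F] [DecidableEq F] (h2 : (2 : F) ≠ 0) {m : ℕ} (hm : 3 ≤ m) :
    Nat.card (Subgroup.center (Cfsg.Omega F (⇑(Refl.oddForm m F)))) = 1 := by
  have hn : 7 ≤ Fintype.card (Unit ⊕ (Fin m ⊕ Fin m)) := by simp; omega
  refine Refl.center_card_one (Refl.oddForm m F) (Refl.oddForm_nondegenerate h2 m) hn fun g hg e => ?_
  exfalso
  have h1 := Refl.hom_eq_one_of_omega (Refl.oddForm m F) (Refl.detHom (Refl.oddForm m F)) hg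
  have h3 : (Refl.mat (Refl.oddForm m F) g).det = 1 := congrArg Units.val h1
  rw [e, Matrix.det_neg, Matrix.det_one, mul_one, Odd.neg_one_pow (by simp [← two_mul, add_comm 1])] at h3
  exact h2 (by linear_combination -h3)

theorem card_omega7 : Nat.card (Cfsg.Omega (ZMod 3) (⇑Qf)) = 4585351680 ∧
    Subgroup.center (Cfsg.Omega (ZMod 3) (⇑Qf)) = ⊥ := by
  have hz : Nat.card (Subgroup.center (Cfsg.Omega (ZMod 3) (⇑Qf))) = 1 := center_odd two_ne le_rfl
  refine ⟨?_, Subgroup.card_eq_one.1 hz⟩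
  have h := Refl.card_pomega_odd (F := ZMod 3) (q := 3) (ZMod.card 3) (by decide) 3 le_rfl
  rw [← Qf_coe, show OrthCard.prodQ 3 3 = 465920 by simp [OrthCard.prodQ, Finset.prod_range_succ]] at h
  rw [Subgroup.card_eq_card_quotient_mul_card_subgroup (Subgroup.center (Cfsg.Omega (ZMod 3) (⇑Qf))), hz, mul_one]
  show Nat.card (Cfsg.POmega (ZMod 3) (⇑Qf)) = 4585351680
  omega

theorem toOm_bijective : Function.Bijective toOm := by
  haveI := finite_P8.1
  haveI : Finite (Cfsg.Omega (ZMod 3) (⇑Qf)) := Nat.finite_of_card_ne_zero (by rw [card_omega7.1]; norm_num)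
  have h1 : 4585351680 ≤ Nat.card (orthPerm.comp toOm).range := chainO_ok.2 ▸
    chain_bound (fun n => orthPerm.comp toOm (im8 n)) (MonoidHom.id _) orthTabs (fun l hl => by
      have h9 : l < 9 := hl
      refine ⟨orth_valid ⟨l, h9⟩, ?_⟩
      rw [MonoidHom.comp_apply, toOm_im8 h9]
      exact orthPerm_omL ⟨l, h9⟩) chainO (orthPerm.comp toOm).range
      chainO_ok.1 inferInstance (fun K _ w _ => ⟨_, map_wval im8 (orthPerm.comp toOm) w⟩)
  have h2 := Nat.card_le_card_of_surjective (orthPerm.comp toOm).rangeRestrict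
    (orthPerm.comp toOm).rangeRestrict_surjective
  have h3 := finite_P8.2
  have hb : Function.Bijective (orthPerm.comp toOm).rangeRestrict :=
    (Nat.bijective_iff_surjective_and_card _).2 ⟨(orthPerm.comp toOm).rangeRestrict_surjective, by omega⟩
  have hi : Function.Injective toOm := fun a b e => hb.1 (Subtype.ext (congrArg orthPerm e))
  refine (Nat.bijective_iff_injective_and_card _).2 ⟨hi, ?_⟩
  have := Nat.card_le_card_of_injective toOm hi
  rw [card_omega7.1] at this ⊢
  omega

/-- The subgroup on eight letters is the simple orthogonal group. -/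
theorem iso_k : Nonempty (lgp im10 [1, 2, 3, 4, 5, 6, 7, 8] ≃* Cfsg.POmega (ZMod 3) (Cfsg.quadFormOdd 3 (ZMod 3))) := by
  rw [← Qf_coe]
  exact ⟨((MulEquiv.ofBijective toK toK_bijective).symm.trans (MulEquiv.ofBijective toOm toOm_bijective)).trans
    (((QuotientGroup.quotientMulEquivOfEq card_omega7.2).trans QuotientGroup.quotientBot).symm)⟩

end Cfsg.Lib.FiPres
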