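import Cfsg.Agent.FiPres.Order

/-!
A presentation of the subgroup on the eight letters after the first one.
-/

set_option autoImplicit false

namespace Cfsg.Lib.FiPres

open Cfsg.Lib.CosetCert Cfsg.Lib.PermCert

/-- The relators avoiding the first letter. -/
def words8 : List (List ℕ) := [0] :: words.filter fun w => w.all fun l => l != 0

/-- A word in the free group on nine letters. -/
def free9 (w : List ℕ) : FreeGroup (Fin 9) := (w.map fun l => FreeGroup.of (Fin.ofNat 9 l)).prod

/-- The presented group on eight letters (the first of nine letters is trivial). -/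
abbrev P8 := PresentedGroup {r : FreeGroup (Fin 9) | ∃ w ∈ words8, r = free9 w}

/-- Its letters. -/
def im8 (n : ℕ) : P8 := PresentedGroup.of (Fin.ofNat 9 n)

theorem im8_rel {w : List ℕ} (hw : w ∈ words8) : wval im8 w = 1 := by
  have : wval im8 w = PresentedGroup.mk {r : FreeGroup (Fin 9) | ∃ w ∈ words8, r = free9 w} (free9 w) := by
    rw [free9, map_list_prod, List.map_map]
    rfl
  rw [this]
  exact PresentedGroup.one_of_mem ⟨w, hw, rfl⟩

theorem words8_ok : (words8.all fun r => r.all fun l => decide (l < 9)) = true ∧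
    ((List.range 9).all fun l => decide (l = 0) || words8.contains [l, l]) = true := by decide +kernel

theorem im8_sq {l : ℕ} (hl : l < 9) : im8 l * im8 l = 1 := by
  have h0 : im8 0 = 1 := by simpa [wval] using im8_rel (List.mem_cons_self : [0] ∈ words8)
  have := List.all_eq_true.1 words8_ok.2 l (List.mem_range.2 hl)
  rw [Bool.or_eq_true, decide_eq_true_eq, List.contains_iff_mem] at this
  rcases this with rfl | h
  · rw [h0, one_mul]
  · simpa [wval] using im8_rel h

/-- The relators of a level are relators on eight letters. -/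
def relsIn8 (R : List (List ℕ)) (Λ : List ℕ) : Bool :=
  R.all fun r => words8.contains (r.map (pickL Λ)) && r.all fun l => decide (l < Λ.length)

theorem step8 {C : Cert} {R : List (List ℕ)} (hC : C.Valid R) (Λ S : List ℕ) (hng : C.ng = Λ.length)
    (hrel : relsIn8 R Λ = true) (hΛ : Λ.all (fun l => decide (l < 9)) = true) (hsub : subsIn C.subs Λ S = true)
    (hK : Finite (lgp im8 S)) :
    Finite (lgp im8 Λ) ∧ Nat.card (lgp im8 Λ) ≤ C.fin.length * Nat.card (lgp im8 S) := by
  haveI := hK
  simp only [relsIn8, List.all_eq_true, Bool.and_eq_true, decide_eq_true_eq, List.contains_iff_mem] at hrel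
  refine lgp_bound im8 hC Λ hng (fun r hr => im8_rel (hrel r hr).1)
    (List.all_eq_true.2 fun r hr => List.all_eq_true.2 fun l hl => decide_eq_true ((hrel r hr).2 l hl))
    (fun l hl => im8_sq (decide_eq_true_eq.mp (List.all_eq_true.1 hΛ l hl))) (fun s hs => ?_)
  exact lgp_mem im8 (List.contains_iff_mem.1 (List.all_eq_true.1 hsub s hs))

theorem finite_P8 : Finite P8 ∧ Nat.card P8 ≤ 4585351680 := by
  have e0 : lgp im8 [] = ⊥ := by simp [lgp]
  have f : Finite (lgp im8 []) := by rw [e0]; infer_instance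
  have c : Nat.card (lgp im8 []) = 1 := by rw [e0]; exact Subgroup.card_bot
  have h0 := step8 D0.valid [2, 3, 4, 7] [] rfl (by decide +kernel) (by decide) (by decide +kernel) f
  rw [D0.fins_length, c] at h0
  have h1 := step8 D1.valid [2, 3, 4, 5, 7] [2, 3, 4, 7] rfl (by decide +kernel) (by decide) (by decide +kernel) h0.1
  rw [D1.fins_length] at h1
  have h2 := step8 D2.valid [2, 3, 4, 5, 6, 7] [2, 3, 4, 5, 7] rfl (by decide +kernel) (by decide) (by decide +kernel)
    h1.1
  rw [D2.fins_length] at h2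
  have h3 := step8 D3.valid [1, 2, 3, 4, 5, 6, 7] [2, 3, 4, 5, 6, 7] rfl (by decide +kernel) (by decide)
    (by decide +kernel) h2.1
  rw [D3.fins_length] at h3
  have h4 := step8 D4.valid [1, 2, 3, 4, 5, 6, 7, 8] [1, 2, 3, 4, 5, 6, 7] rfl (by decide +kernel) (by decide)
    (by decide +kernel) h3.1
  rw [D4.fins_length] at h4
  have htop : lgp im8 [1, 2, 3, 4, 5, 6, 7, 8] = ⊤ := by
    refine top_le_iff.1 ?_
    rw [← PresentedGroup.closure_range_of, Subgroup.closure_le]
    rintro _ ⟨x, rfl⟩
    have e : im8 x.val = PresentedGroup.of x := congrArg PresentedGroup.of (Fin.ext (Nat.mod_eq_of_lt x.isLt))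
    rw [SetLike.mem_coe, ← e]
    rcases Nat.eq_zero_or_pos x.val with h | h
    · rw [h, show im8 0 = 1 by simpa [wval] using im8_rel (List.mem_cons_self : [0] ∈ words8)]
      exact one_mem _
    · refine lgp_mem im8 ?_
      have := x.isLt
      simp only [List.mem_cons, List.mem_nil_iff, or_false]
      omega
  rw [htop, Subgroup.card_top] at h4
  haveI := h4.1
  have := h0.2
  have := h1.2
  have := h2.2
  have := h3.2
  have := h4.2
  exact ⟨Finite.of_equiv _ Subgroup.topEquiv.toEquiv, by omega⟩

theorem lift8 {G : Type*} [Group G] (f : ℕ → G) (hf : ∀ w ∈ words8, wval f w = 1) :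
    ∀ r ∈ {r : FreeGroup (Fin 9) | ∃ w ∈ words8, r = free9 w}, FreeGroup.lift (fun x : Fin 9 => f x.val) r = 1 := by
  rintro r ⟨w, hw, rfl⟩
  rw [free9, map_list_prod, List.map_map]
  refine Eq.trans ?_ (hf w hw)
  refine congrArg List.prod (List.map_congr_left fun l hl => ?_)
  rw [Function.comp_apply, FreeGroup.lift_apply_of]
  have := List.all_eq_true.1 (List.all_eq_true.1 words8_ok.1 w hw) l hl
  rw [decide_eq_true_eq] at this
  exact congrArg f (Nat.mod_eq_of_lt this)

/-- The letters of the subgroup, as its elements. -/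
def imK (n : ℕ) : lgp im10 [1, 2, 3, 4, 5, 6, 7, 8] :=
  if h : n ∈ [1, 2, 3, 4, 5, 6, 7, 8] then ⟨im10 n, lgp_mem im10 h⟩ else 1

theorem words8_cases {w : List ℕ} (hw : w ∈ words8) : w = [0] ∨ w ∈ words ∧ ∀ l ∈ w, l ≠ 0 ∧ l < 9 := by
  rcases List.mem_cons.1 hw with e | h
  · exact Or.inl e
  · obtain ⟨h1, h2⟩ := List.mem_filter.1 h
    refine Or.inr ⟨h1, fun l hl => ⟨by simpa using List.all_eq_true.1 h2 l hl, ?_⟩⟩
    exact decide_eq_true_eq.mp (List.all_eq_true.1 (List.all_eq_true.1 words_low w h1) l hl)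

theorem imK_rel : ∀ w ∈ words8, wval imK w = 1 := fun w hw => by
  rcases words8_cases hw with rfl | ⟨h, hl⟩
  · simp [wval, imK]
  · refine Subtype.ext ?_
    rw [wval, SubmonoidClass.coe_list_prod, List.map_map]
    have e : wval im10 w = 1 := by
      rw [wval_low fun l hl' => (hl l hl').2]
      rcases List.mem_cons.1 h with e | h3
      · rw [e]; rfl
      · exact good_im _ h3
    refine Eq.trans ?_ e
    refine congrArg List.prod (List.map_congr_left fun l hl' => ?_)
    have := hl l hl'
    have hm : l ∈ [1, 2, 3, 4, 5, 6, 7, 8] := by simp only [List.mem_cons, List.mem_nil_iff, or_false]; omega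
    rw [Function.comp_apply, imK, dif_pos hm]

/-- The map to the subgroup. -/
def toK : P8 →* lgp im10 [1, 2, 3, 4, 5, 6, 7, 8] := PresentedGroup.toGroup (lift8 imK imK_rel)

theorem card_k : Nat.card (lgp im10 [1, 2, 3, 4, 5, 6, 7, 8]) = 4585351680 := by
  have h := Subgroup.card_mul_index (lgp im10 [1, 2, 3, 4, 5, 6, 7, 8])
  rw [index_k, factG.1] at h
  exact Nat.eq_of_mul_eq_mul_right (by norm_num : (0 : ℕ) < 14080) (h.trans (by norm_num))

theorem toK_bijective : Function.Bijective toK := by
  haveI := finite_P8.1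
  have hs : Function.Surjective toK := by
    intro x
    have h : lgp im10 [1, 2, 3, 4, 5, 6, 7, 8] ≤ toK.range.map (lgp im10 [1, 2, 3, 4, 5, 6, 7, 8]).subtype := by
      refine (Subgroup.closure_le _).2 ?_
      rintro _ ⟨l, hl, rfl⟩
      have h9 : l < 9 := by
        simp only [List.mem_cons, List.mem_nil_iff, or_false] at hl
        omega
      refine ⟨imK l, ⟨PresentedGroup.of (⟨l, h9⟩ : Fin 9), PresentedGroup.toGroup.of _⟩, ?_⟩
      rw [imK, dif_pos hl]
      rfl
    obtain ⟨y, ⟨p, hp⟩, e⟩ := h x.2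
    exact ⟨p, hp.trans (Subtype.ext e)⟩
  refine (Nat.bijective_iff_surjective_and_card _).2 ⟨hs, le_antisymm ?_ (Nat.card_le_card_of_surjective _ hs)⟩
  rw [card_k]
  exact finite_P8.2

end Cfsg.Lib.FiPres
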