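import Cfsg.Agent.FiPres.Aut
import Cfsg.Agent.FiPres.PairData
import Cfsg.Agent.ThreeTransposition.FiTwentyTwo.PairFlip

/-!
The exchanging automorphism for the fourth and ninth letters, read off on the points.
-/

set_option autoImplicit false
set_option Elab.async false
set_option maxRecDepth 40000
set_option linter.style.haveILetI false

namespace Cfsg.Lib.FiPres

open Cfsg.Lib.CosetCert Cfsg.Lib.PermCert Cfsg.Lib.ThreeTr

/-- The exchanging map on points. -/
def flipPt (y : ℕ) : ℕ := ap symPerm (evalW sigTabs pairSwapWord.reverse y)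

theorem pair_mask_ok : ((List.range 3510).all fun z =>
    (pairMask.testBit z == (z != 10 && z != 86 && evalW sigTabs [3] z == z && evalW sigTabs [8] z == z)) &&
    (!pairMask.testBit z || pairPts.any fun p => p.1 == z)) = true := by decide +kernel

theorem pair_rows_ok : (pairPts.all fun p => decide (p.1 < 3510) && pairMask.testBit p.1 &&
    p.2.1.all (fun l => decide (l < 9)) && (evalW sigTabs p.2.1 0 == p.1) &&
    pairPts.all fun q => (p.2.2.testBit q.1 ==
      (evalW sigTabs [0] (evalW sigTabs p.2.1.reverse q.1) == evalW sigTabs p.2.1.reverse q.1))) = true := by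
  decide +kernel

theorem pair_flip_ok : (pairPts.all fun p =>
    let s := flipPt p.1
    pairMask.testBit s && (pairPts.all fun q => !p.2.2.testBit q.1 || q.2.2.testBit s) &&
    ((s != p.1) || pairPts.all fun q => (flipPt q.1 == q.1) || pairPts.any fun e =>
      p.2.2.testBit e.1 && !q.2.2.testBit e.1)) = true := by decide +kernel

theorem pair_word_ok : pairSwapWord.all (fun l => decide (l < 9)) = true ∧
    trivWord 3510 sigTabs (pairSwapWord.map symL ++ pairSwapWord) = true ∧ flipPt 10 = 86 ∧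
    letterPts.getD 3 0 = 10 ∧ letterPts.getD 8 0 = 86 := by decide +kernel

/-- The first of the pair. -/
def flipA : Fin 3510 := ⟨10, by norm_num⟩

/-- The second of the pair. -/
def flipB : Fin 3510 := ⟨86, by norm_num⟩

theorem tr_pair : tr flipA = im10 3 ∧ tr flipB = im10 8 := by
  obtain ⟨-, -, -, e3, e8⟩ := pair_word_ok
  have h3 : ptL 3 = flipA := Fin.ext (Eq.trans (show (ptL 3).val = letterPts.getD 3 0 % 3510 from rfl) (by rw [e3]; rfl))
  have h8 : ptL 8 = flipB := Fin.ext (Eq.trans (show (ptL 8).val = letterPts.getD 8 0 % 3510 from rfl) (by rw [e8]; rfl))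
  exact ⟨h3 ▸ (letter_facts 3).2.1, h8 ▸ (letter_facts 8).2.1⟩

theorem smul_word {w : List ℕ} (hw : ∀ l ∈ w, l < 9) (y : Fin 3510) :
    ((wval im10 w • y : Fin 3510) : ℕ) = evalW sigTabs w.reverse y := by
  have hl : ∀ l ∈ w.reverse, l < sigTabs.length := fun l hl =>
    Nat.lt_trans (hw l (List.mem_reverse.1 hl)) (by decide)
  have h := evalW_apply im10 psi sigTabs tabled.act w.reverse hl y
  rw [wval_reverse im10 (fun l hl => tabled.sq l (Nat.lt_trans (hw l hl) (by decide))), map_inv, inv_inv] at h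
  exact h

theorem sym_smul (g : Cfsg.Spor.Fi22) (y : Fin 3510) : symPts (g • y) = symHom g • symPts y := by
  have hval : ∀ y : Fin 3510, (symPts y).val = ap symPerm y.val := fun y => by
    rw [symPts, perm_apply symPts_ok.1]
  have hstep : ∀ (k : Fin 9) (y : Fin 3510), symPts (im10 k.val • y) = symHom (im10 k.val) • symPts y := by
    intro k y
    have ev : ∀ (l : ℕ), l < 9 → ∀ z : Fin 3510, (im10 l • z : Fin 3510).val = ap (sigTabs.getD l (0, 0)).1 z.val :=
      fun l hl z => by
        rw [smul_eq, (psi_act l (show l < 10 by omega)).2, perm_apply (psi_act l (show l < 10 by omega)).1]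
    rw [show symHom (im10 k.val) = im10 (symL k.val) by
      rw [im10_low k.isLt, im10_low (symL_facts k).1, symHom, toGrp_im good_sym k.isLt]]
    refine Fin.ext ?_
    rw [hval, ev _ k.isLt, ev _ (symL_facts k).1, hval]
    have h := List.all_eq_true.1 symPts_ok.2.1 y.val (List.mem_range.2 y.isLt)
    simp only [Bool.and_eq_true, List.all_eq_true, List.mem_range, beq_iff_eq] at h
    exact h.2 k.val k.isLt
  let M : Subgroup Cfsg.Spor.Fi22 :=
    { carrier := {g | ∀ y, symPts (g • y) = symHom g • symPts y}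
      one_mem' := fun y => by rw [one_smul, map_one, one_smul]
      mul_mem' := fun {a b} ha hb y => by rw [mul_smul, ha, hb, map_mul, mul_smul]
      inv_mem' := fun {a} ha y => by
        have := ha (a⁻¹ • y)
        rw [smul_inv_smul] at this
        rw [map_inv, this, inv_smul_smul] }
  have htop : M = ⊤ := by
    refine top_le_iff.1 (closure_im ▸ (Subgroup.closure_le _).2 ?_)
    rintro _ ⟨l, hl, rfl⟩
    rw [← im10_low hl]
    exact hstep ⟨l, hl⟩
  exact (htop ▸ Subgroup.mem_top g : g ∈ M) y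

theorem sym_tr (y : Fin 3510) : symHom (tr y) = tr (symPts y) := by
  haveI := transitive
  have hpt : symPts p0 = ptL 6 := Fin.ext (by
    rw [symPts, perm_apply symPts_ok.1]
    show ap symPerm 0 = _ % 3510
    rw [symPts_ok.2.2.1, Nat.mod_eq_of_lt (by decide +kernel)]
    rfl)
  obtain ⟨g, rfl⟩ := MulAction.exists_smul_eq Cfsg.Spor.Fi22 p0 y
  rw [tr_orbit, sym_smul, tr_smul, hpt, (letter_facts 6).2.1, map_mul, map_mul, map_inv]
  congr 2

/-- The exchanging automorphism. -/
def flipAut : MulAut Cfsg.Spor.Fi22 := symAut * MulAut.conj (wval im10 pairSwapWord)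

theorem flipAut_tr (y : Fin 3510) : ∃ z : Fin 3510, flipAut (tr y) = tr z ∧ z.val = flipPt y.val := by
  have hw : ∀ l ∈ pairSwapWord, l < 9 := fun l hl => of_decide_eq_true (List.all_eq_true.1 pair_word_ok.1 l hl)
  refine ⟨symPts (wval im10 pairSwapWord • y), ?_, ?_⟩
  · rw [flipAut, MulAut.mul_apply, MulAut.conj_apply, ← tr_smul]
    exact sym_tr _
  · rw [symPts, perm_apply symPts_ok.1, smul_word hw, flipPt]

theorem flipAut_sq : flipAut * flipAut = 1 := by
  have hw : ∀ l ∈ pairSwapWord, l < 9 := fun l hl => of_decide_eq_true (List.all_eq_true.1 pair_word_ok.1 l hl)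
  have h := factG.2 ((tabled.trivWord_sound pair_word_ok.2.1).trans (map_one psi).symm)
  rw [wval_append] at h
  have hs : ∀ w : List ℕ, (∀ l ∈ w, l < 9) → symHom (wval im10 w) = wval im10 (w.map symL) := by
    intro w hw
    induction w with
    | nil => simp [wval_nil]
    | cons l w ih =>
      have hl := hw l List.mem_cons_self
      rw [List.map_cons, wval_cons, wval_cons, map_mul, ih fun a ha => hw a (List.mem_cons_of_mem l ha),
        im10_low hl, im10_low (symL_facts ⟨l, hl⟩).1, symHom, toGrp_im good_sym hl]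
  rw [← hs _ hw] at h
  set c := wval im10 pairSwapWord
  ext x
  show symHom (c * symHom (c * x * c⁻¹) * c⁻¹) = x
  have hh : ∀ g, symHom (symHom g) = g := fun g => DFunLike.congr_fun symHom_symHom g
  rw [map_mul, map_mul, hh, map_inv, ← mul_assoc, ← mul_assoc, h, one_mul, mul_assoc, ← mul_inv_rev, h, inv_one,
    mul_one]

theorem mem_pair {y : Fin 3510} : tr y ∈ perp transp (tr flipA) ∩ perp transp (tr flipB) ↔
    pairMask.testBit y.val = true := by
  have h := List.all_eq_true.1 pair_mask_ok y.val (List.mem_range.2 y.isLt)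
  simp only [Bool.and_eq_true, beq_iff_eq] at h
  rw [h.1]
  simp only [Bool.and_eq_true, bne_iff_ne, beq_iff_eq, Set.mem_inter_iff, perp, Set.mem_ofPred_eq, ne_eq,
    tr_injective.eq_iff]
  have hmem : tr y ∈ transp := by
    haveI := transitive
    obtain ⟨g, rfl⟩ := MulAction.exists_smul_eq Cfsg.Spor.Fi22 p0 y
    rw [tr_orbit]
    exact mem_transp.2 ⟨g, rfl⟩
  have e3 : Commute (tr flipA) (tr y) ↔ evalW sigTabs [3] y.val = y.val := by
    rw [← tr_fix, tr_pair.1, ← Fin.val_inj, tabled.im_smul smul_eq (show 3 < sigTabs.length by decide)]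
  have e8 : Commute (tr flipB) (tr y) ↔ evalW sigTabs [8] y.val = y.val := by
    rw [← tr_fix, tr_pair.2, ← Fin.val_inj, tabled.im_smul smul_eq (show 8 < sigTabs.length by decide)]
  rw [e3, e8, ← Fin.val_inj, ← Fin.val_inj]
  simp only [hmem, true_and, flipA, flipB]
  tauto

theorem exists_entry {y : Fin 3510} (h : pairMask.testBit y.val = true) : ∃ p ∈ pairPts, p.1 = y.val := by
  have h1 := List.all_eq_true.1 pair_mask_ok y.val (List.mem_range.2 y.isLt)
  simp only [Bool.and_eq_true, h, Bool.not_true, Bool.false_or, List.any_eq_true, beq_iff_eq] at h1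
  exact h1.2

theorem row_iff {y z : Fin 3510} {p q : ℕ × List ℕ × ℕ} (hp : p ∈ pairPts) (hq : q ∈ pairPts) (ep : p.1 = y.val)
    (eq' : q.1 = z.val) : p.2.2.testBit q.1 = true ↔ Commute (tr y) (tr z) := by
  have h := List.all_eq_true.1 pair_rows_ok p hp
  simp only [Bool.and_eq_true, List.all_eq_true, decide_eq_true_eq, beq_iff_eq] at h
  obtain ⟨⟨⟨-, hl⟩, he⟩, hrow⟩ := h
  rw [hrow q hq]
  set g := wval im10 p.2.1.reverse with hg
  have hl' : ∀ l ∈ p.2.1.reverse, l < 9 := fun l h => hl l (List.mem_reverse.1 h)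
  have hy : g • p0 = y := Fin.ext (by
    rw [smul_word hl' p0, List.reverse_reverse]
    exact he.trans ep)
  have hgi : g⁻¹ = wval im10 p.2.1 := by
    rw [hg, wval_reverse im10 (fun l h => tabled.sq l (Nat.lt_trans (hl l h) (by decide))), inv_inv]
  rw [← tr_fix, ← hy, tr_orbit, mul_smul, mul_smul, smul_eq_iff_eq_inv_smul, ← Fin.val_inj,
    tabled.im_smul smul_eq (show 0 < sigTabs.length by decide), hgi, smul_word hl, ← eq', beq_iff_eq]

theorem pairFlip : PairFlip transp (tr flipA) (tr flipB) flipAut := by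
  have htr : ∀ y, tr y ∈ transp := fun y => by
    haveI := transitive
    obtain ⟨g, rfl⟩ := MulAction.exists_smul_eq Cfsg.Spor.Fi22 p0 y
    rw [tr_orbit]
    exact mem_transp.2 ⟨g, rfl⟩
  refine ⟨flipAut_sq, fun x hx => ?_, ?_, fun x hx => ?_, fun x w hx hw hfix => ?_⟩
  · obtain ⟨y, rfl⟩ := exists_point hx
    obtain ⟨z, e, -⟩ := flipAut_tr y
    exact e ▸ htr z
  · obtain ⟨z, e, hz⟩ := flipAut_tr flipA
    rw [e, show z = flipB from Fin.ext (hz.trans (show flipPt 10 = 86 from pair_word_ok.2.2.1))]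
  · obtain ⟨y, rfl⟩ := exists_point hx.1.1
    obtain ⟨z, e, hz⟩ := flipAut_tr y
    rw [e]
    obtain ⟨p, hp, ep⟩ := exists_entry (mem_pair.1 hx)
    have h := List.all_eq_true.1 pair_flip_ok p hp
    simp only [Bool.and_eq_true, List.all_eq_true] at h
    obtain ⟨⟨hm, hall⟩, -⟩ := h
    rw [ep, ← hz] at hm
    obtain ⟨r, hr, er⟩ := exists_entry hm
    refine ⟨mem_pair.2 hm, htr z, fun t ht c1 c2 c3 => ?_⟩
    obtain ⟨v, rfl⟩ := exists_point ht
    by_cases ea : tr v = tr flipA
    · rw [ea]; exact (mem_pair.2 hm).1.2.2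
    by_cases eb : tr v = tr flipB
    · rw [eb]; exact (mem_pair.2 hm).2.2.2
    obtain ⟨q, hq, eq'⟩ := exists_entry ((mem_pair (y := v)).1 ⟨⟨ht, ea, c1.symm⟩, ht, eb, c2.symm⟩)
    have h2 := hall q hq
    rw [(row_iff hp hq ep eq').2 c3.symm, Bool.not_true, Bool.false_or, ep, ← hz, ← er] at h2
    exact (row_iff hq hr eq' er).1 h2
  · obtain ⟨y, rfl⟩ := exists_point hx.1.1
    obtain ⟨z, e, hz⟩ := flipAut_tr y
    obtain ⟨u, rfl⟩ := exists_point hw.1.1.1
    obtain ⟨u', e', hu'⟩ := flipAut_tr u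
    obtain ⟨p, hp, ep⟩ := exists_entry (mem_pair.1 hx)
    obtain ⟨q, hq, eq'⟩ := exists_entry (mem_pair.1 hw.1)
    have h := List.all_eq_true.1 pair_flip_ok p hp
    have hzy : z = y := tr_injective (e.symm.trans hfix)
    simp only [Bool.and_eq_true, Bool.or_eq_true, bne_iff_ne, List.all_eq_true, List.any_eq_true, beq_iff_eq,
      Bool.not_eq_true'] at h
    obtain ⟨-, hcase⟩ := h
    rcases hcase with hne | hall
    · exact absurd (by rw [ep, ← hz, hzy]) hne
    · rcases hall q hq with hf | ⟨r, hr, h1, h2⟩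
      · rw [e', show u' = u from Fin.ext (by rw [hu', ← eq', hf])]
      · exfalso
        have hlt : r.1 < 3510 ∧ pairMask.testBit r.1 = true := by
          have h3 := List.all_eq_true.1 pair_rows_ok r hr
          simp only [Bool.and_eq_true, decide_eq_true_eq] at h3
          exact ⟨h3.1.1.1.1, h3.1.1.1.2⟩
        have hr' := (mem_pair (y := ⟨r.1, hlt.1⟩)).2 hlt.2
        have c := hw.2.2 _ (htr ⟨r.1, hlt.1⟩) hr'.1.2.2.symm hr'.2.2.2.symm
          ((row_iff hp hr (z := ⟨r.1, hlt.1⟩) ep rfl).1 h1).symm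
        have := (row_iff hq hr (z := ⟨r.1, hlt.1⟩) eq' rfl).2 c.symm
        rw [h2] at this
        exact Bool.false_ne_true this

end Cfsg.Lib.FiPres
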