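import Cfsg.Agent.FiPres.Order

/-!
The two subgroups, as printed.
-/

set_option autoImplicit false

namespace Cfsg.Lib.FiPres

open Cfsg.Lib.CosetCert

theorem im10_nine : im10 9 = (im 0 * im 1 * im 2 * im 3 * im 4 * im 7) ^ 5 := by
  rw [im10, show expandL 9 = rpt 5 [0, 1, 2, 3, 4, 7] from rfl, wval_rpt]
  simp [wval, mul_assoc]

open Cfsg.Spor.Fi22 in
theorem printed_k : (Subgroup.closure ({b, c, d, e, f, g, h, i} : Set (FreeGroup Gen))).map
    (PresentedGroup.mk (Cfsg.Spor.coxRelators edges ∪ {r | r ∈ extra})) = lgp im10 [1, 2, 3, 4, 5, 6, 7, 8] := by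
  rw [MonoidHom.map_closure]
  refine le_antisymm ((Subgroup.closure_le _).2 ?_) ((Subgroup.closure_le _).2 ?_)
  · rintro _ ⟨w, hw, rfl⟩
    simp only [Set.mem_insert_iff, Set.mem_singleton_iff] at hw
    rcases hw with rfl | rfl | rfl | rfl | rfl | rfl | rfl | rfl
    exacts [Subgroup.subset_closure ⟨1, by simp, im10_low (by norm_num)⟩,
      Subgroup.subset_closure ⟨2, by simp, im10_low (by norm_num)⟩,
      Subgroup.subset_closure ⟨3, by simp, im10_low (by norm_num)⟩,
      Subgroup.subset_closure ⟨4, by simp, im10_low (by norm_num)⟩,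
      Subgroup.subset_closure ⟨5, by simp, im10_low (by norm_num)⟩,
      Subgroup.subset_closure ⟨6, by simp, im10_low (by norm_num)⟩,
      Subgroup.subset_closure ⟨7, by simp, im10_low (by norm_num)⟩,
      Subgroup.subset_closure ⟨8, by simp, im10_low (by norm_num)⟩]
  · rintro _ ⟨l, hl, rfl⟩
    rw [SetLike.mem_coe]
    simp only [List.mem_cons, List.mem_nil_iff, or_false] at hl
    rcases hl with rfl | rfl | rfl | rfl | rfl | rfl | rfl | rfl
    exacts [Subgroup.subset_closure ⟨b, by simp, (im10_low (show 1 < 9 by norm_num)).symm⟩,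
      Subgroup.subset_closure ⟨c, by simp, (im10_low (show 2 < 9 by norm_num)).symm⟩,
      Subgroup.subset_closure ⟨d, by simp, (im10_low (show 3 < 9 by norm_num)).symm⟩,
      Subgroup.subset_closure ⟨e, by simp, (im10_low (show 4 < 9 by norm_num)).symm⟩,
      Subgroup.subset_closure ⟨f, by simp, (im10_low (show 5 < 9 by norm_num)).symm⟩,
      Subgroup.subset_closure ⟨g, by simp, (im10_low (show 6 < 9 by norm_num)).symm⟩,
      Subgroup.subset_closure ⟨h, by simp, (im10_low (show 7 < 9 by norm_num)).symm⟩,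
      Subgroup.subset_closure ⟨i, by simp, (im10_low (show 8 < 9 by norm_num)).symm⟩]

open Cfsg.Spor.Fi22 in
theorem printed_h : (Subgroup.closure ({a, c, d, e, f, g, h, i, (a * b * c * d * e * h) ^ 5} : Set (FreeGroup Gen))).map
    (PresentedGroup.mk (Cfsg.Spor.coxRelators edges ∪ {r | r ∈ extra})) = lgp im10 lamH := by
  rw [MonoidHom.map_closure]
  have e9 : PresentedGroup.mk (Cfsg.Spor.coxRelators edges ∪ {r | r ∈ extra}) ((a * b * c * d * e * h) ^ 5) = im10 9 := by
    rw [im10_nine, map_pow, map_mul, map_mul, map_mul, map_mul, map_mul]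
    rfl
  refine le_antisymm ((Subgroup.closure_le _).2 ?_) ((Subgroup.closure_le _).2 ?_)
  · rintro _ ⟨w, hw, rfl⟩
    simp only [Set.mem_insert_iff, Set.mem_singleton_iff] at hw
    rcases hw with rfl | rfl | rfl | rfl | rfl | rfl | rfl | rfl | rfl
    exacts [Subgroup.subset_closure ⟨0, by simp [lamH], im10_low (by norm_num)⟩,
      Subgroup.subset_closure ⟨2, by simp [lamH], im10_low (by norm_num)⟩,
      Subgroup.subset_closure ⟨3, by simp [lamH], im10_low (by norm_num)⟩,
      Subgroup.subset_closure ⟨4, by simp [lamH], im10_low (by norm_num)⟩,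
      Subgroup.subset_closure ⟨5, by simp [lamH], im10_low (by norm_num)⟩,
      Subgroup.subset_closure ⟨6, by simp [lamH], im10_low (by norm_num)⟩,
      Subgroup.subset_closure ⟨7, by simp [lamH], im10_low (by norm_num)⟩,
      Subgroup.subset_closure ⟨8, by simp [lamH], im10_low (by norm_num)⟩,
      Subgroup.subset_closure ⟨9, by simp [lamH], e9.symm⟩]
  · rintro _ ⟨l, hl, rfl⟩
    rw [SetLike.mem_coe]
    simp only [lamH, List.mem_cons, List.mem_nil_iff, or_false] at hl
    rcases hl with rfl | rfl | rfl | rfl | rfl | rfl | rfl | rfl | rfl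
    exacts [Subgroup.subset_closure ⟨a, by simp, (im10_low (show 0 < 9 by norm_num)).symm⟩,
      Subgroup.subset_closure ⟨c, by simp, (im10_low (show 2 < 9 by norm_num)).symm⟩,
      Subgroup.subset_closure ⟨d, by simp, (im10_low (show 3 < 9 by norm_num)).symm⟩,
      Subgroup.subset_closure ⟨e, by simp, (im10_low (show 4 < 9 by norm_num)).symm⟩,
      Subgroup.subset_closure ⟨f, by simp, (im10_low (show 5 < 9 by norm_num)).symm⟩,
      Subgroup.subset_closure ⟨g, by simp, (im10_low (show 6 < 9 by norm_num)).symm⟩,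
      Subgroup.subset_closure ⟨h, by simp, (im10_low (show 7 < 9 by norm_num)).symm⟩,
      Subgroup.subset_closure ⟨i, by simp, (im10_low (show 8 < 9 by norm_num)).symm⟩,
      Subgroup.subset_closure ⟨(a * b * c * d * e * h) ^ 5, by simp, e9⟩]

end Cfsg.Lib.FiPres
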