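import Cfsg.Agent.FiPres.Simple
import Cfsg.Agent.FiPres.UniData
import Cfsg.Agent.PrimeGraph.FieldFour
import Cfsg.Agent.S0280
import Cfsg.Agent.S0283
import Cfsg.Prelude.Def_SporadicB

/-!
The point stabiliser of the presented Fischer group is a non-split double cover of the unitary group of dimension six
over four elements.
-/

set_option autoImplicit false
set_option Elab.async false

namespace Cfsg.Lib.FiPres

open Cfsg.Lib.CosetCert Cfsg.Lib.PermCert
open Cfsg.Lib.PrimeGraph
open Matrix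

/-- The vectors by numbers. -/
def numK : (Fin 6 → KQuad) ≃ Fin (4 ^ 6) :=
  (Equiv.arrowCongr (Equiv.refl (Fin 6)) KQuad.equivFin).trans (finFunctionFinEquiv (m := 4) (n := 6))

/-- A point of the suborbit. -/
def ptO (j : Fin 693) : Fin 3510 := Fin.ofNat 3510 (ap subPts j.val)

/-- An isotropic vector. -/
def ptV (j : Fin 693) : Fin 6 → KQuad := numK.symm (Fin.ofNat (4 ^ 6) (ap isoPts j.val))

/-- A listed matrix. -/
def matL (M : List (List ℕ)) : Matrix (Fin 6) (Fin 6) KQuad :=
  Matrix.of fun i j => KQuad.ofCode ((M.getD i.val []).getD j.val 0)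

/-- The matrix of a letter. -/
def matU (l : ℕ) : Matrix (Fin 6) (Fin 6) KQuad := matL (uniMats.getD l [])

theorem uni_valid : ((List.range 10).all fun l => valid 693 (uniTabs.getD l (0, 0))) = true := by decide +kernel

theorem sub_ok : ((List.range 693).all fun j => decide (ap subPts j < 3510) && (ap subIdx (ap subPts j) == j) &&
    lamH.all fun l => ap (sigTabs.getD l (0, 0)).1 (ap subPts j) ==
      ap subPts (ap (uniTabs.getD l (0, 0)).1 j)) = true := by decide +kernel

theorem iso_idx : ∀ j : Fin 693, ∀ t : Fin 3, ap isoIdx (numK (KQuad.ofCode (t.val + 1) • ptV j)).val = j.val := by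
  decide +kernel

theorem mat_moves : ((List.range 10).all fun l => (List.range 693).all fun j =>
    decide (∃ t : Fin 3, matU l *ᵥ ptV (Fin.ofNat 693 j) =
      KQuad.ofCode (t.val + 1) • ptV (Fin.ofNat 693 (ap (uniTabs.getD l (0, 0)).1 j)))) = true := by decide +kernel

theorem mat_sq : ∀ l : Fin 10, matU l.val * matU l.val = 1 := by decide +kernel

theorem mat_herm : ∀ l : Fin 10, ∀ j k : Fin 6,
    (∑ i, matU l.val i j * (matU l.val i k) ^ 2) = if j = k then 1 else 0 := by decide +kernel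

theorem frame_ok : matL frameMat * matL frameInv = 1 ∧ matL frameInv * matL frameMat = 1 ∧
    (∀ i : Fin 6, matL frameMat *ᵥ Pi.single i 1 = ptV (Fin.ofNat 693 (frameIdx.getD i.val 0))) ∧
    (∀ i : Fin 6, KQuad.ofCode (frameCoef.getD i.val 0) ≠ 0) ∧
    matL frameMat *ᵥ (fun i => KQuad.ofCode (frameCoef.getD i.val 0)) = ptV (Fin.ofNat 693 (frameIdx.getD 6 0)) := by
  decide +kernel

theorem code_cases : ∀ x : KQuad, x ≠ 0 → ∃ t : Fin 3, KQuad.ofCode (t.val + 1) = x := by
  simp only [KQuad.forall_iff]; decide +kernel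

theorem ptV_scale {j k : Fin 693} {x y : KQuad} (hx : x ≠ 0) (hy : y ≠ 0) (h : x • ptV j = y • ptV k) : j = k := by
  obtain ⟨s, rfl⟩ := code_cases x hx
  obtain ⟨t, rfl⟩ := code_cases y hy
  have e := iso_idx j s
  rw [h, iso_idx k t] at e
  exact Fin.ext e.symm

theorem ptO_inj : Function.Injective ptO := by
  intro j k h
  have hj := List.all_eq_true.1 sub_ok j.val (List.mem_range.2 j.isLt)
  have hk := List.all_eq_true.1 sub_ok k.val (List.mem_range.2 k.isLt)
  simp only [Bool.and_eq_true, decide_eq_true_eq, beq_iff_eq] at hj hk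
  have e : ap subPts j.val = ap subPts k.val := by
    have := congrArg Fin.val h
    simpa [ptO, Nat.mod_eq_of_lt hj.1.1, Nat.mod_eq_of_lt hk.1.1] using this
  exact Fin.ext (by rw [← hj.1.2, e, hk.1.2])

theorem det_one_of_sq {M : Matrix (Fin 6) (Fin 6) KQuad} (h : M * M = 1) : M.det = 1 := by
  have e : M.det * M.det = 1 := by rw [← Matrix.det_mul, h, Matrix.det_one]
  exact (show ∀ x : KQuad, x * x = 1 → x = 1 by simp only [KQuad.forall_iff]; decide +kernel) _ e

theorem herm_of_cols {M : Matrix (Fin 6) (Fin 6) KQuad}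
    (h : ∀ j k : Fin 6, (∑ i, M i j * (M i k) ^ 2) = if j = k then 1 else 0) (u v : Fin 6 → KQuad) :
    Cfsg.hermForm 6 KQuad 2 (M *ᵥ u) (M *ᵥ v) = Cfsg.hermForm 6 KQuad 2 u v := by
  simp only [Cfsg.hermForm, Matrix.mulVec, dotProduct, CharTwo.sum_sq, Finset.sum_mul, Finset.mul_sum, mul_pow]
  rw [Finset.sum_comm]
  refine Finset.sum_congr rfl fun j _ => ?_
  rw [Finset.sum_comm]
  have e : ∀ k, (∑ i, M i k * u k * (M i j ^ 2 * v j ^ 2)) = (if k = j then 1 else 0) * (u k * v j ^ 2) := fun k => by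
    rw [← h k j, Finset.sum_mul]
    exact Finset.sum_congr rfl fun i _ => by ring
  refine (Finset.sum_congr rfl fun k _ => e k).trans ?_
  simp only [ite_mul, one_mul, zero_mul, Finset.sum_ite_eq', Finset.mem_univ, if_true]

/-- The special unitary group. -/
abbrev SU6 := ↥(Cfsg.SU 6 KQuad 2)

/-- The matrix of an element. -/
def mat6 (A : SU6) : Matrix (Fin 6) (Fin 6) KQuad := A.1.1

theorem mat6_mul (A B : SU6) : mat6 (A * B) = mat6 A * mat6 B := rfl

theorem mat6_one : mat6 1 = 1 := rfl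

/-- The image of a letter. -/
def genU (l : ℕ) : SU6 :=
  if h : l < 10 then ⟨⟨matU l, det_one_of_sq (mat_sq ⟨l, h⟩)⟩, herm_of_cols (mat_herm ⟨l, h⟩)⟩ else 1

/-- The stabiliser. -/
abbrev HFi := ↥(lgp im10 lamH)

/-- The elements agree on the points and on the isotropic lines through one permutation. -/
def Agrees (g : HFi) (A : SU6) : Prop :=
  ∃ σ : Equiv.Perm (Fin 693), ∀ j, psi g.1 (ptO j) = ptO (σ j) ∧
    ∃ x : KQuad, x ≠ 0 ∧ mat6 A *ᵥ ptV j = x • ptV (σ j)

/-- The pairs agreeing. -/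
def pairs : Subgroup (HFi × SU6) where
  carrier := {p | Agrees p.1 p.2}
  one_mem' := ⟨1, fun j => ⟨by simp, 1, one_ne_zero, by simp [mat6_one]⟩⟩
  mul_mem' := by
    rintro ⟨g, A⟩ ⟨g', A'⟩ ⟨σ, hσ⟩ ⟨τ, hτ⟩
    refine ⟨σ * τ, fun j => ?_⟩
    obtain ⟨e1, x, hx, e2⟩ := hτ j
    obtain ⟨f1, y, hy, f2⟩ := hσ (τ j)
    refine ⟨?_, x * y, mul_ne_zero hx hy, ?_⟩
    · show psi (g.1 * g'.1) (ptO j) = _
      rw [map_mul, Equiv.Perm.mul_apply, e1, f1, Equiv.Perm.mul_apply]
    · show mat6 (A * A') *ᵥ ptV j = _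
      rw [mat6_mul, ← Matrix.mulVec_mulVec, e2, Matrix.mulVec_smul, f2, smul_smul, Equiv.Perm.mul_apply]
  inv_mem' := by
    rintro ⟨g, A⟩ ⟨σ, hσ⟩
    refine ⟨σ⁻¹, fun j => ?_⟩
    obtain ⟨e1, x, hx, e2⟩ := hσ (σ⁻¹ j)
    rw [show σ (σ⁻¹ j) = j from Equiv.apply_symm_apply σ j] at e1 e2
    refine ⟨?_, x⁻¹, inv_ne_zero hx, ?_⟩
    · show psi (g.1⁻¹) (ptO j) = _
      rw [← e1, ← Equiv.Perm.mul_apply, ← map_mul, inv_mul_cancel, map_one, Equiv.Perm.one_apply]
    · show mat6 A⁻¹ *ᵥ ptV j = _
      have e3 : mat6 A⁻¹ *ᵥ (mat6 A *ᵥ ptV (σ⁻¹ j)) = ptV (σ⁻¹ j) := by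
        rw [Matrix.mulVec_mulVec, ← mat6_mul, inv_mul_cancel, mat6_one, Matrix.one_mulVec]
      rw [e2, Matrix.mulVec_smul] at e3
      rw [← e3, smul_smul, inv_mul_cancel₀ hx, one_smul]

/-- A letter of the stabiliser as its element. -/
def imH10 (l : ℕ) : HFi := if h : l ∈ lamH then ⟨im10 l, lgp_mem im10 h⟩ else 1

theorem lamH_lt : ∀ l ∈ lamH, l < 10 := by decide

theorem agrees_gen {l : ℕ} (hl : l ∈ lamH) : Agrees (imH10 l) (genU l) := by
  have h10 := lamH_lt l hl
  have hv := List.all_eq_true.1 uni_valid l (List.mem_range.2 h10)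
  refine ⟨perm 693 (uniTabs.getD l (0, 0)), fun j => ?_⟩
  have hj := List.all_eq_true.1 sub_ok j.val (List.mem_range.2 j.isLt)
  have hk := List.all_eq_true.1 sub_ok _ (List.mem_range.2 (perm 693 (uniTabs.getD l (0, 0)) j).isLt)
  simp only [Bool.and_eq_true, decide_eq_true_eq, beq_iff_eq] at hj hk
  have hq := List.all_eq_true.1 hj.2 l hl
  rw [beq_iff_eq] at hq
  have hm := List.all_eq_true.1 (List.all_eq_true.1 mat_moves l (List.mem_range.2 h10)) j.val (List.mem_range.2 j.isLt)
  rw [decide_eq_true_eq, ← perm_apply hv, Fin.ofNat_eq_cast, Fin.ofNat_eq_cast, Fin.cast_val_eq_self,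
    Fin.cast_val_eq_self] at hm
  obtain ⟨t, ht⟩ := hm
  refine ⟨?_, KQuad.ofCode (t.val + 1), (show ∀ t : Fin 3, KQuad.ofCode (t.val + 1) ≠ 0 by decide +kernel) t, ?_⟩
  · rw [imH10, dif_pos hl, (psi_act l h10).2]
    refine Fin.ext ?_
    rw [perm_apply (psi_act l h10).1, ptO, ptO, Fin.val_ofNat, Fin.val_ofNat, Nat.mod_eq_of_lt hj.1.1, hq,
      Nat.mod_eq_of_lt hk.1.1, perm_apply hv]
  · rw [genU, dif_pos h10]
    exact ht

theorem gen_imH10 : Subgroup.closure {g : HFi | ∃ l ∈ lamH, imH10 l = g} = ⊤ := by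
  refine top_le_iff.1 fun x _ => ?_
  have h : lgp im10 lamH ≤ (Subgroup.closure {g : HFi | ∃ l ∈ lamH, imH10 l = g}).map (lgp im10 lamH).subtype := by
    refine (Subgroup.closure_le _).2 ?_
    rintro _ ⟨l, hl, rfl⟩
    exact ⟨imH10 l, Subgroup.subset_closure ⟨l, hl, rfl⟩, by rw [imH10, dif_pos hl]; rfl⟩
  obtain ⟨y, hy, e⟩ := h x.2
  rwa [← Subtype.ext (show y.1 = x.1 from e)]

theorem exists_pair (g : HFi) : ∃ A : SU6, Agrees g A := by
  have h : g ∈ pairs.map (MonoidHom.fst HFi SU6) := by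
    refine (top_le_iff.2 gen_imH10).trans ((Subgroup.closure_le _).2 ?_) (Subgroup.mem_top g)
    rintro _ ⟨l, hl, rfl⟩
    exact ⟨(imH10 l, genU l), agrees_gen hl, rfl⟩
  obtain ⟨⟨g', A⟩, hA, rfl⟩ := h
  exact ⟨A, hA⟩

theorem card_psu6 : Nat.card (Cfsg.PSU 6 KQuad 2) = 9196830720 := by
  have h := Cfsg.Agent.S0280.result (F := KQuad) (q := 2) (by rw [KQuad.card_eq]; norm_num) 6 (by norm_num)
  norm_num [Finset.prod_range_succ, Nat.even_iff] at h
  omega

theorem card_center6 : Nat.card (Subgroup.center SU6) = 3 :=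
  Cfsg.Lib.Classical.card_center_SU (F := KQuad) (q := 2) (by rw [KQuad.card_eq]; norm_num) (by norm_num)

/-- The scalar elements. -/
def scalar6 (t : Fin 3) : SU6 :=
  ⟨⟨(Matrix.diagonal fun _ => KQuad.ofCode (t.val + 1)), by
      rw [Matrix.det_diagonal]
      revert t
      decide +kernel⟩,
    herm_of_cols (by revert t; decide +kernel)⟩

theorem center6 : (Subgroup.center SU6 : Set SU6) = Set.range scalar6 := by
  have hsub : Set.range scalar6 ⊆ (Subgroup.center SU6 : Set SU6) := by
    rintro _ ⟨t, rfl⟩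
    refine Subgroup.mem_center_iff.2 fun A => Subtype.ext (Subtype.ext ?_)
    exact ((Matrix.scalar_commute (KQuad.ofCode (t.val + 1)) (fun r => mul_comm _ r) (mat6 A)).eq).symm
  have hinj : Function.Injective scalar6 := by
    intro s t h
    have := congrFun (congrFun (congrArg mat6 h) 0) 0
    simp only [mat6, scalar6, Matrix.diagonal_apply_eq] at this
    revert s t
    decide +kernel
  refine (Set.eq_of_subset_of_ncard_le hsub ?_ (Set.toFinite _)).symm
  rw [Set.ncard_range_of_injective hinj, ← Nat.card_coe_set_eq]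
  exact (card_center6.trans (Nat.card_fin 3).symm).le

theorem perm_unique {g : HFi} {σ τ : Equiv.Perm (Fin 693)} (hσ : ∀ j, psi g.1 (ptO j) = ptO (σ j))
    (hτ : ∀ j, psi g.1 (ptO j) = ptO (τ j)) : σ = τ :=
  Equiv.ext fun j => ptO_inj ((hσ j).symm.trans (hτ j))

theorem fixing_scalar {A : SU6} (h : ∀ j, ∃ x : KQuad, x ≠ 0 ∧ mat6 A *ᵥ ptV j = x • ptV j) :
    A ∈ Subgroup.center SU6 := by
  obtain ⟨b1, b2, b3, b4, b5⟩ := frame_ok
  choose lam hlam hA using h
  set D := matL frameInv * (mat6 A * matL frameMat) with hD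
  have hcol : ∀ i, D *ᵥ Pi.single i 1 = lam (Fin.ofNat 693 (frameIdx.getD i.val 0)) • Pi.single i 1 := fun i => by
    rw [hD, ← Matrix.mulVec_mulVec, ← Matrix.mulVec_mulVec, b3, hA, Matrix.mulVec_smul, ← b3, Matrix.mulVec_mulVec,
      b2, Matrix.one_mulVec]
  have hdiag : D = Matrix.diagonal fun i : Fin 6 => lam (Fin.ofNat 693 (frameIdx.getD i.val 0)) := by
    ext i j
    have := congrFun (hcol j) i
    rw [Matrix.mulVec_single, MulOpposite.op_one, one_smul, Matrix.col_apply] at this
    rw [this, Pi.smul_apply, smul_eq_mul]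
    by_cases hij : i = j
    · subst hij; simp
    · simp [hij]
  have hu : D *ᵥ (fun i : Fin 6 => KQuad.ofCode (frameCoef.getD i.val 0)) =
      lam (Fin.ofNat 693 (frameIdx.getD 6 0)) • (fun i : Fin 6 => KQuad.ofCode (frameCoef.getD i.val 0)) := by
    rw [hD, ← Matrix.mulVec_mulVec, ← Matrix.mulVec_mulVec, b5, hA, Matrix.mulVec_smul, ← b5, Matrix.mulVec_mulVec,
      b2, Matrix.one_mulVec]
  set μ := lam (Fin.ofNat 693 (frameIdx.getD 6 0))
  have hμ : D = Matrix.diagonal fun _ : Fin 6 => μ := by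
    rw [hdiag]
    congr 1
    funext i
    have := congrFun hu i
    rw [hdiag, Matrix.mulVec_diagonal, Pi.smul_apply, smul_eq_mul] at this
    exact mul_right_cancel₀ (b4 i) this
  have hM : mat6 A = Matrix.diagonal fun _ : Fin 6 => μ := by
    have : matL frameMat * D * matL frameInv = mat6 A := by
      rw [hD, ← Matrix.mul_assoc, ← Matrix.mul_assoc, b1, Matrix.one_mul, Matrix.mul_assoc, b1, Matrix.mul_one]
    have c := (Matrix.scalar_commute μ (fun r => mul_comm _ r) (matL frameMat)).eq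
    rw [Matrix.scalar_apply] at c
    rw [← this, hμ, ← c, Matrix.mul_assoc, b1, Matrix.mul_one]
  refine Subgroup.mem_center_iff.2 fun B => Subtype.ext (Subtype.ext ?_)
  show mat6 B * mat6 A = mat6 A * mat6 B
  rw [hM]
  exact ((Matrix.scalar_commute μ (fun r => mul_comm _ r) (mat6 B)).eq).symm

theorem agrees_eq {g : HFi} {A B : SU6} (hA : Agrees g A) (hB : Agrees g B) :
    (QuotientGroup.mk A : Cfsg.PSU 6 KQuad 2) = QuotientGroup.mk B := by
  refine QuotientGroup.eq.2 (fixing_scalar fun j => ?_)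
  obtain ⟨σ, hσ⟩ := pairs.mul_mem (x := (g, A)⁻¹) (y := (g, B)) (pairs.inv_mem hA) hB
  have h1 : σ = 1 := perm_unique (g := g⁻¹ * g) (fun j => (hσ j).1) (fun j => by simp)
  obtain ⟨x, hx, e⟩ := (hσ j).2
  exact ⟨x, hx, by rw [h1] at e; exact e⟩

/-- The map to the projective unitary group. -/
noncomputable def toPSU : HFi →* Cfsg.PSU 6 KQuad 2 :=
  MonoidHom.mk' (fun g => QuotientGroup.mk (exists_pair g).choose) fun g h => by
    rw [← QuotientGroup.mk_mul]
    exact agrees_eq (exists_pair (g * h)).choose_spec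
      (pairs.mul_mem (x := (g, _)) (y := (h, _)) (exists_pair g).choose_spec (exists_pair h).choose_spec)

/-- The action on the suborbit. -/
noncomputable def toSub : HFi →* Equiv.Perm (Fin 693) :=
  MonoidHom.mk' (fun g => (exists_pair g).choose_spec.choose) fun g h => by
    refine perm_unique (g := g * h) (fun j => ((exists_pair (g * h)).choose_spec.choose_spec j).1) fun j => ?_
    show psi (g.1 * h.1) (ptO j) = _
    rw [map_mul, Equiv.Perm.mul_apply, ((exists_pair h).choose_spec.choose_spec j).1,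
      ((exists_pair g).choose_spec.choose_spec _).1, Equiv.Perm.mul_apply]

theorem toSub_eq_one {g : HFi} (h : toPSU g = 1) : toSub g = 1 := by
  have hc : (exists_pair g).choose ∈ Subgroup.center SU6 := (QuotientGroup.eq_one_iff _).1 h
  rw [← SetLike.mem_coe, center6] at hc
  obtain ⟨t, ht⟩ := hc
  refine Equiv.ext fun j => ?_
  obtain ⟨-, x, hx, e⟩ := (exists_pair g).choose_spec.choose_spec j
  have hm : mat6 (exists_pair g).choose = mat6 (scalar6 t) := congrArg mat6 ht.symm
  have e2 : mat6 (scalar6 t) *ᵥ ptV j = KQuad.ofCode (t.val + 1) • ptV j := by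
    funext i
    simp [mat6, scalar6, Matrix.mulVec_diagonal]
  have e3 : KQuad.ofCode (t.val + 1) • ptV j = mat6 (exists_pair g).choose *ᵥ ptV j :=
    e2.symm.trans (congrArg (fun N => N *ᵥ ptV j) hm).symm
  exact (ptV_scale ((show ∀ t : Fin 3, KQuad.ofCode (t.val + 1) ≠ 0 by decide +kernel) t) hx (e3.trans e)).symm

theorem chainU_ok : chainOK uniTabs 693 uniTabs.length chainU = true ∧ chainSize chainU = 9196830720 ∧
    (chainU.all fun K => K.gens.all fun w => w.all fun l => lamH.contains l) = true := by decide +kernel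

/-- The letters on the suborbit. -/
def subAct (l : ℕ) : Equiv.Perm (Fin 693) := perm 693 (uniTabs.getD l (0, 0))

theorem toSub_imH10 {l : ℕ} (hl : l ∈ lamH) : toSub (imH10 l) = subAct l := by
  refine perm_unique (g := imH10 l) (fun j => ((exists_pair (imH10 l)).choose_spec.choose_spec j).1) fun j => ?_
  have h10 := lamH_lt l hl
  have hv := List.all_eq_true.1 uni_valid l (List.mem_range.2 h10)
  have hj := List.all_eq_true.1 sub_ok j.val (List.mem_range.2 j.isLt)
  have hk := List.all_eq_true.1 sub_ok _ (List.mem_range.2 (subAct l j).isLt)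
  simp only [Bool.and_eq_true, decide_eq_true_eq, beq_iff_eq] at hj hk
  have hq := List.all_eq_true.1 hj.2 l hl
  rw [beq_iff_eq] at hq
  rw [imH10, dif_pos hl, (psi_act l h10).2]
  refine Fin.ext ?_
  rw [perm_apply (psi_act l h10).1, ptO, ptO, Fin.val_ofNat, Fin.val_ofNat, Nat.mod_eq_of_lt hj.1.1, hq,
    Nat.mod_eq_of_lt hk.1.1, subAct, perm_apply hv]

theorem card_lamH : Nat.card HFi = 18393661440 := by
  have h := Subgroup.card_mul_index (lgp im10 lamH)
  rw [index_eq.1, factG.1] at h
  exact Nat.eq_of_mul_eq_mul_right (by norm_num : (0 : ℕ) < 3510) (h.trans (by norm_num))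

theorem toPSU_facts : Function.Surjective toPSU ∧ Nat.card toPSU.ker = 2 := by
  have hsub : 9196830720 ≤ Nat.card toSub.range := chainU_ok.2.1 ▸
    chain_bound subAct (MonoidHom.id _) uniTabs (fun l hl => by
      have h10 : l < 10 := hl
      exact ⟨List.all_eq_true.1 uni_valid l (List.mem_range.2 h10), by rw [MonoidHom.id_apply, subAct]⟩) chainU toSub.range
      chainU_ok.1 inferInstance (fun K hK w hw => ⟨wval imH10 w, by
        rw [map_wval]
        refine congrArg List.prod (List.map_congr_left fun l hl => toSub_imH10 ?_)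
        exact List.contains_iff_mem.1
          (List.all_eq_true.1 (List.all_eq_true.1 (List.all_eq_true.1 chainU_ok.2.2 K hK) w hw) l hl)⟩)
  have h1 : Nat.card toSub.range ≤ Nat.card toPSU.range := by
    rw [← Subgroup.index_ker, ← Subgroup.index_ker]
    exact Nat.le_of_dvd (Nat.pos_of_ne_zero Subgroup.index_ne_zero_of_finite)
      (Subgroup.index_dvd_of_le fun g hg => toSub_eq_one hg)
  have h2 := Subgroup.card_le_card_group toPSU.range
  rw [card_psu6] at h2
  have hr : Nat.card toPSU.range = 9196830720 := by omega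
  refine ⟨MonoidHom.range_eq_top.1 (Subgroup.eq_top_of_card_eq _ (by rw [hr, card_psu6])), ?_⟩
  have h3 := Subgroup.card_mul_index toPSU.ker
  rw [Subgroup.index_ker, hr, card_lamH] at h3
  exact Nat.eq_of_mul_eq_mul_right (by norm_num : (0 : ℕ) < 9196830720) (h3.trans (by norm_num))

theorem genU_zero : mat6 (genU 0) = 1 := by
  show matU 0 = 1
  decide +kernel

theorem a_facts : ((lamH.all fun l => trivWord 3510 sigTabs [0, l, 0, l]) && trivWord 3510 sigTabs [5, 9, 5, 9, 5, 9] &&
    trivWord 3510 sigTabs (0 :: rpt 5 rootA) && (evalW sigTabs [0] 1 != 1)) = true := by decide +kernel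

theorem wval_imH10 {w : List ℕ} (h : ∀ l ∈ w, l ∈ lamH) : (wval imH10 w : HFi).1 = wval im10 w := by
  rw [wval, SubmonoidClass.coe_list_prod, List.map_map]
  refine congrArg List.prod (List.map_congr_left fun l hl => ?_)
  rw [Function.comp_apply, imH10, dif_pos (h l hl)]

theorem trivH {w : List ℕ} (h : ∀ l ∈ w, l ∈ lamH) (ht : trivWord 3510 sigTabs w = true) : wval imH10 w = 1 :=
  Subtype.ext (by rw [wval_imH10 h]; exact factG.2 ((tabled.trivWord_sound ht).trans (map_one psi).symm))

theorem imH10_sq {l : ℕ} (hl : l ∈ lamH) : imH10 l * imH10 l = 1 := by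
  rw [imH10, dif_pos hl]
  exact Subtype.ext (tabled.sq l (lamH_lt l hl))

theorem a_ne_one : imH10 0 ≠ 1 := by
  intro h
  have hf := a_facts
  simp only [Bool.and_eq_true, bne_iff_ne] at hf
  refine hf.2 ?_
  haveI := transitive
  have h0 := tabled.im_smul smul_eq (show 0 < sigTabs.length by decide) (⟨1, by norm_num⟩ : Fin 3510)
  have e : im10 0 = 1 := by
    have := congrArg Subtype.val h
    rwa [imH10, dif_pos (show 0 ∈ lamH by decide)] at this
  rw [e, one_smul] at h0
  exact h0.symm

theorem center_ker : Subgroup.center HFi = toPSU.ker ∧ imH10 0 ∈ Subgroup.center HFi := by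
  have hf := a_facts
  simp only [Bool.and_eq_true, List.all_eq_true] at hf
  have ha : imH10 0 ∈ Subgroup.center HFi := by
    have hle : Subgroup.closure {g : HFi | ∃ l ∈ lamH, imH10 l = g} ≤ Subgroup.centralizer {imH10 0} := by
      refine (Subgroup.closure_le _).2 ?_
      rintro _ ⟨l, hl, rfl⟩
      rw [SetLike.mem_coe, Subgroup.mem_centralizer_singleton_iff]
      have h := trivH (w := [0, l, 0, l]) (fun x hx => by
        simp only [List.mem_cons, List.mem_nil_iff, or_false] at hx
        rcases hx with rfl | rfl | rfl | rfl <;> first | exact hl | decide) (hf.1.1.1 l hl)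
      simp only [wval, List.map_cons, List.map_nil, List.prod_cons, List.prod_nil, mul_one] at h
      calc imH10 l * imH10 0 = (imH10 0 * imH10 0) * (imH10 l * imH10 0) * (imH10 l * imH10 l) := by
            rw [imH10_sq (show 0 ∈ lamH by decide), imH10_sq hl, one_mul, mul_one]
        _ = imH10 0 * (imH10 0 * (imH10 l * (imH10 0 * imH10 l))) * imH10 l := by simp only [mul_assoc]
        _ = imH10 0 * imH10 l := by rw [h, mul_one]
    refine Subgroup.mem_center_iff.2 fun g => ?_
    exact Subgroup.mem_centralizer_singleton_iff.1 (hle (gen_imH10 ▸ Subgroup.mem_top g))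
  refine ⟨?_, ha⟩
  haveI : Finite HFi := Nat.finite_of_card_ne_zero (by rw [card_lamH]; norm_num)
  haveI hs : IsSimpleGroup (Cfsg.PSU 6 KQuad 2) :=
    Cfsg.Agent.S0283.result (F := KQuad) (by rw [KQuad.card_eq]; norm_num) 6 (by norm_num) (by omega)
  have hak : imH10 0 ∈ toPSU.ker := by
    show (QuotientGroup.mk (exists_pair (imH10 0)).choose : Cfsg.PSU 6 KQuad 2) = 1
    rw [agrees_eq (exists_pair (imH10 0)).choose_spec (agrees_gen (show 0 ∈ lamH by decide)),
      show genU 0 = 1 from Subtype.ext (Subtype.ext genU_zero), QuotientGroup.mk_one]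
  have hc : Subgroup.center (Cfsg.PSU 6 KQuad 2) = ⊥ := by
    rcases Subgroup.Normal.eq_bot_or_eq_top (inferInstance : (Subgroup.center (Cfsg.PSU 6 KQuad 2)).Normal) with e | e
    · exact e
    · exfalso
      haveI : Finite (Cfsg.PSU 6 KQuad 2) := Nat.finite_of_card_ne_zero (by rw [card_psu6]; norm_num)
      haveI : Fact (Nat.Prime 11) := ⟨by norm_num⟩
      obtain ⟨x, hx⟩ := exists_prime_orderOf_dvd_card' (G := Cfsg.PSU 6 KQuad 2) 11 (by rw [card_psu6]; norm_num)
      haveI : (Subgroup.zpowers x).Normal := ⟨fun n hn g => by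
        have hg : g * n = n * g := (Subgroup.mem_center_iff.1 (show n ∈ Subgroup.center _ from e ▸ Subgroup.mem_top n) g)
        rwa [hg, mul_assoc, mul_inv_cancel, mul_one]⟩
      rcases Subgroup.Normal.eq_bot_or_eq_top (inferInstance : (Subgroup.zpowers x).Normal) with e2 | e2
      · have := Nat.card_zpowers x
        rw [e2, Subgroup.card_bot, hx] at this
        norm_num at this
      · have := Nat.card_zpowers x
        rw [e2, Subgroup.card_top, hx, card_psu6] at this
        norm_num at this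
  refine le_antisymm (fun g hg => ?_) fun g hg => ?_
  · have : toPSU g ∈ Subgroup.center (Cfsg.PSU 6 KQuad 2) := Subgroup.mem_center_iff.2 fun y => by
      obtain ⟨z, rfl⟩ := toPSU_facts.1 y
      rw [← map_mul, ← map_mul, Subgroup.mem_center_iff.1 hg z]
    rwa [hc, Subgroup.mem_bot] at this
  · have hset : (toPSU.ker : Set HFi) = {1, imH10 0} := by
      refine (Set.eq_of_subset_of_ncard_le (fun y hy => ?_) ?_ (Set.toFinite _)).symm
      · rcases hy with rfl | rfl
        · exact one_mem _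
        · exact hak
      · rw [Set.ncard_pair (Ne.symm a_ne_one), ← Nat.card_coe_set_eq]
        exact toPSU_facts.2.le
    have hg' : g ∈ ({1, imH10 0} : Set HFi) := hset ▸ hg
    rcases hg' with rfl | rfl
    · exact one_mem _
    · exact ha

theorem nonsplit (L : Subgroup HFi) : ¬ (Subgroup.center HFi).IsComplement' L := by
  intro hL
  haveI : Finite HFi := Nat.finite_of_card_ne_zero (by rw [card_lamH]; norm_num)
  have hcard : Nat.card (Subgroup.center HFi) = 2 := by rw [center_ker.1]; exact toPSU_facts.2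
  have hidx : L.index = 2 := hL.index_eq_card.trans hcard
  have hsq : ∀ x : HFi, x * x ∈ L := fun x => Subgroup.mul_self_mem_of_index_two hidx x
  have hiff : ∀ x y : HFi, x * y ∈ L ↔ (x ∈ L ↔ y ∈ L) := fun x y => Subgroup.mul_mem_iff_of_index_two hidx
  have h3 : ∀ x : HFi, x ^ 3 = 1 → x ∈ L := fun x hx => by
    have : x = x ^ 2 * x ^ 2 := by rw [← pow_add, show 2 + 2 = 3 + 1 from rfl, pow_succ, hx, one_mul]
    rw [this]
    exact hsq _
  have braid : ∀ i k, i ∈ lamH → k ∈ lamH → trivWord 3510 sigTabs [i, k, i, k, i, k] = true →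
      (imH10 i ∈ L ↔ imH10 k ∈ L) := fun i k hi hk ht => by
    refine (hiff _ _).1 (h3 _ ?_)
    have h := trivH (w := [i, k, i, k, i, k]) (fun x hx => by
      simp only [List.mem_cons, List.mem_nil_iff, or_false] at hx
      rcases hx with rfl | rfl | rfl | rfl | rfl | rfl <;> assumption) ht
    simpa [wval, pow_succ, mul_assoc] using h
  have e23 := braid 2 3 (by decide) (by decide) (by decide +kernel)
  have e34 := braid 3 4 (by decide) (by decide) (by decide +kernel)
  have e45 := braid 4 5 (by decide) (by decide) (by decide +kernel)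
  have e37 := braid 3 7 (by decide) (by decide) (by decide +kernel)
  have e59 := braid 5 9 (by decide) (by decide) (by decide +kernel)
  have hw : wval imH10 rootA ∈ L := by
    simp only [rootA, wval, List.map_cons, List.map_nil, List.prod_cons, List.prod_nil, mul_one, hiff, ← e59, ← e45,
      ← e34, ← e37, ← e23]
    tauto
  have ha : imH10 0 ∈ L := by
    have h := trivH (w := 0 :: rpt 5 rootA) (by decide) (by decide +kernel)
    rw [wval_cons, wval_rpt, mul_eq_one_iff_eq_inv] at h
    rw [h]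
    exact inv_mem (pow_mem hw 5)
  have := hL.disjoint.le_bot ⟨center_ker.2, ha⟩
  exact a_ne_one (Subgroup.mem_bot.1 this)

/-- The double cover. -/
theorem double_cover : Cfsg.IsNonsplitDoubleCover (lgp im10 lamH) (Cfsg.PSU 6 KQuad 2) :=
  ⟨by rw [center_ker.1]; exact toPSU_facts.2,
    ⟨(QuotientGroup.quotientMulEquivOfEq center_ker.1).trans
      (QuotientGroup.quotientKerEquivOfSurjective toPSU toPSU_facts.1)⟩, nonsplit⟩

end Cfsg.Lib.FiPres
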